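import Cfsg.Agent.CharBasic.Complete

/-!
# Small facts on characters: averages over a centralised subgroup, automorphisms, abelian groups
-/

set_option linter.unusedSectionVars false

open Module
open scoped ComplexConjugate

namespace Cfsg.Agent.H85

open Cfsg.Agent.CharBasic

variable {G : Type*} [Group G] [Finite G]

/-- The average of `χ(x y)` over a subgroup `Q` centralising `x` is an algebraic integer. -/
theorem isIntegral_average {χ : G → ℂ} (hχ : Cfsg.IsCharacter G χ) (Q : Subgroup G) [Fintype Q]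
    (x : G) (hx : ∀ y ∈ Q, x * y = y * x) :
    IsIntegral ℤ ((Nat.card Q : ℂ)⁻¹ * ∑ y : Q, χ (x * (y : G))) := by
  obtain ⟨n, ρ, rfl⟩ := hχ
  set P : Module.End ℂ (Fin n → ℂ) := (Nat.card Q : ℂ)⁻¹ • ∑ y : Q, ρ (y : G) with hPdef
  have hQ : (Nat.card Q : ℂ) ≠ 0 := by exact_mod_cast Nat.card_pos.ne'
  have hyP : ∀ y : Q, ρ (y : G) * P = P := by
    intro y
    rw [hPdef, mul_smul_comm, Finset.mul_sum]
    congr 1
    exact Fintype.sum_equiv (Equiv.mulLeft y) _ _ fun z => (map_mul ρ (y : G) (z : G)).symm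
  have hPP : P * P = P := by
    calc P * P = (Nat.card Q : ℂ)⁻¹ • ∑ y : Q, ρ (y : G) * P := by
          rw [← Finset.sum_mul, ← smul_mul_assoc]
      _ = (Nat.card Q : ℂ)⁻¹ • ∑ _y : Q, P := by simp only [hyP]
      _ = P := by
          rw [Finset.sum_const, Finset.card_univ, ← Nat.card_eq_fintype_card, ← Nat.cast_smul_eq_nsmul ℂ,
            smul_smul, inv_mul_cancel₀ hQ, one_smul]
  have hcomm : ρ x * P = P * ρ x := by
    rw [hPdef, mul_smul_comm, smul_mul_assoc, Finset.mul_sum, Finset.sum_mul]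
    simp only [← map_mul]
    congr 1
    exact Finset.sum_congr rfl fun y _ => by rw [hx y y.2]
  set f : Module.End ℂ (Fin n → ℂ) := ρ x * P + (1 - P) with hfdef
  have hfpow : ∀ k : ℕ, f ^ k = ρ (x ^ k) * P + (1 - P) := by
    intro k
    induction k with
    | zero => rw [pow_zero, pow_zero, map_one, one_mul, add_sub_cancel]
    | succ k ih =>
      have e1 : P * (1 - P) = 0 := by rw [mul_sub, mul_one, hPP, sub_self]
      have e2 : (1 - P) * (ρ x * P) = 0 := by
        rw [hcomm, ← mul_assoc, sub_mul, one_mul, hPP, sub_self, zero_mul]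
      have e3 : ρ (x ^ k) * P * (ρ x * P) = ρ (x ^ (k + 1)) * P := by
        rw [mul_assoc, ← mul_assoc P, ← hcomm, mul_assoc (ρ x), hPP, ← mul_assoc, ← map_mul,
          pow_succ]
      rw [pow_succ, ih, hfdef, add_mul, mul_add, mul_add, e3, mul_assoc (ρ (x ^ k)) P (1 - P),
        e1, mul_zero, e2, add_zero, zero_add]
      rw [mul_sub, mul_one, sub_mul, one_mul, hPP, sub_self, sub_zero]
  have hf1 : f ^ orderOf x = 1 := by
    rw [hfpow, pow_orderOf_eq_one, map_one, one_mul, add_sub_cancel]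
  obtain ⟨b, μ, hb, hμ⟩ := exists_eigenbasis (orderOf_pos x) hf1
  have htf : IsIntegral ℤ (LinearMap.trace ℂ _ f) := by
    rw [trace_eq_sum_of_eigenbasis b μ f hb]
    exact IsIntegral.sum _ fun i _ =>
      IsIntegral.of_pow (orderOf_pos x) (by rw [hμ i]; exact isIntegral_one)
  have hproj : LinearMap.IsProj (LinearMap.range P) P :=
    ⟨fun v => LinearMap.mem_range_self P v, by
      rintro _ ⟨v, rfl⟩
      exact LinearMap.congr_fun hPP v⟩
  have htP : IsIntegral ℤ (LinearMap.trace ℂ _ P) := by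
    rw [hproj.trace]
    exact isIntegral_natCast _
  have key : (Nat.card Q : ℂ)⁻¹ * ∑ y : Q, ρ.character (x * (y : G)) =
      LinearMap.trace ℂ _ f - (LinearMap.trace ℂ _ (1 : Module.End ℂ (Fin n → ℂ))
        - LinearMap.trace ℂ _ P) := by
    rw [hfdef, map_add, map_sub, add_sub_cancel_right, hPdef, mul_smul_comm, map_smul,
      smul_eq_mul, Finset.mul_sum Finset.univ (fun y : Q => ρ (y : G)) (ρ x), map_sum]
    simp only [Representation.character, map_mul]
  rw [key]
  refine htf.sub (IsIntegral.sub ?_ htP)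
  rw [show (1 : Module.End ℂ (Fin n → ℂ)) = LinearMap.id from rfl, LinearMap.trace_id]
  exact isIntegral_natCast _

/-- Composition with an automorphism preserves irreducibility. -/
theorem isIrrCharacter_comp_equiv {H : Type*} [Group H] {χ : G → ℂ}
    (hχ : Cfsg.IsIrrCharacter G χ) (e : H ≃* G) :
    Cfsg.IsIrrCharacter H (fun h => χ (e h)) := by
  obtain ⟨n, ρ, hρ, rfl⟩ := hχ
  let σ : Representation ℂ H (Fin n → ℂ) := ρ.comp e.toMonoidHom
  let iso : Subrepresentation ρ ≃o Subrepresentation σ :=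
    { toFun := fun S => ⟨S.toSubmodule, fun h _ hv => S.apply_mem_toSubmodule (e h) hv⟩
      invFun := fun T => ⟨T.toSubmodule, fun g v hv => by
        have := T.apply_mem_toSubmodule (e.symm g) hv
        have he : σ (e.symm g) = ρ g := by
          show ρ (e (e.symm g)) = ρ g
          rw [e.apply_symm_apply]
        rwa [he] at this⟩
      left_inv := fun S => rfl
      right_inv := fun T => rfl
      map_rel_iff' := Iff.rfl }
  exact ⟨n, σ, iso.symm.isSimpleOrder, rfl⟩

theorem apply_one_eq_one_of_comm [hc : IsMulCommutative G] (μ : Cfsg.IrrCharacter G) :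
    (μ : G → ℂ) 1 = 1 := by
  have hcard : Nat.card (Cfsg.IrrCharacter G) = Nat.card G := by
    rw [card_irrCharacter]
    refine (Nat.card_congr (Equiv.ofBijective (fun g : G => ConjClasses.mk g)
      ⟨fun a b h => ?_, ConjClasses.mk_surjective⟩)).symm
    obtain ⟨g, rfl⟩ := isConj_iff.1 (ConjClasses.mk_eq_mk_iff_isConj.1 h)
    rw [hc.1.comm g a, mul_inv_cancel_right]
  choose d hd hd1 using fun χ : Cfsg.IrrCharacter G => IsIrr.exists_degree χ.2
  have h := sum_sq_degree (G := G)
  simp only [hd1] at h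
  rw [← hcard] at h
  have hN : ∑ χ : Cfsg.IrrCharacter G, d χ ^ 2 = ∑ _χ : Cfsg.IrrCharacter G, 1 := by
    rw [Finset.sum_const, Finset.card_univ, smul_eq_mul, mul_one, ← Nat.card_eq_fintype_card]
    exact_mod_cast h
  have := (Finset.sum_eq_sum_iff_of_le fun χ _ => Nat.one_le_pow 2 _ (hd χ)).1 hN.symm μ
    (Finset.mem_univ μ)
  rw [hd1 μ]
  have : d μ = 1 := by simpa using this.symm
  rw [this, Nat.cast_one]

/-- A trivial irreducible character is the only one with nonzero average. -/
theorem sum_apply_eq_zero [Fintype G] (μ : Cfsg.IrrCharacter G)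
    (h : (μ : G → ℂ) ≠ fun _ => (1 : ℂ)) : ∑ g : G, (μ : G → ℂ) g = 0 := by
  have h0 := classInner_irr_of_ne μ.2 isIrrCharacter_one h
  rw [classInner_def, mul_eq_zero] at h0
  simpa using h0.resolve_left (by simp)

end Cfsg.Agent.H85
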