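import Cfsg.Agent.CharInduce.Induce
import Cfsg.Agent.BlockBasic.Basic

/-!
# Linear twists of a character induced from an inertia group
-/

set_option linter.unusedSectionVars false

open scoped ComplexConjugate

namespace Cfsg.Agent.H85

open Cfsg.Agent.CharBasic

/-- An irreducible character is no sum of two nonzero characters. -/
theorem add_eq_irr {H : Type*} [Group H] [Finite H] {a b φ : H → ℂ}
    (ha : Cfsg.IsCharacter H a) (hb : Cfsg.IsCharacter H b) (hφ : Cfsg.IsIrrCharacter H φ)
    (h : φ = a + b) : a = 0 ∨ b = 0 := by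
  classical
  cases nonempty_fintype H
  by_contra hne
  push Not at hne
  have key : ∀ c : H → ℂ, Cfsg.IsCharacter H c → c ≠ 0 → ∃ e : H → ℂ,
      Cfsg.IsIrrCharacter H e ∧ Cfsg.classInner c e ≠ 0 := fun c hc hc0 => by
    obtain ⟨ψ, hψ⟩ := CharInduce.exists_constituent hc hc0
    exact ⟨ψ, ψ.2, hψ⟩
  obtain ⟨e1, he1, h1⟩ := key a ha hne.1
  obtain ⟨e2, he2, h2⟩ := key b hb hne.2
  obtain ⟨a1, ha1⟩ := classInner_isChar_nat ha (IsIrr.isCharacter he1)
  obtain ⟨b1, hb1⟩ := classInner_isChar_nat hb (IsIrr.isCharacter he1)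
  obtain ⟨a2, ha2⟩ := classInner_isChar_nat ha (IsIrr.isCharacter he2)
  obtain ⟨b2, hb2⟩ := classInner_isChar_nat hb (IsIrr.isCharacter he2)
  have f1 := classInner_irr hφ he1
  have f2 := classInner_irr hφ he2
  rw [h, classInner_add_left, ha1, hb1] at f1
  rw [h, classInner_add_left, ha2, hb2] at f2
  rw [ha1, ne_eq, Nat.cast_eq_zero] at h1
  rw [hb2, ne_eq, Nat.cast_eq_zero] at h2
  have g1 : φ = e1 ∧ b1 = 0 := by
    by_cases e : φ = e1
    · rw [← h] at f1
      simp only [if_pos e] at f1
      have : a1 + b1 = 1 := by exact_mod_cast f1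
      exact ⟨e, by omega⟩
    · rw [← h] at f1
      simp only [if_neg e] at f1
      have : a1 + b1 = 0 := by exact_mod_cast f1
      omega
  have g2 : φ = e2 ∧ a2 = 0 := by
    by_cases e : φ = e2
    · rw [← h] at f2
      simp only [if_pos e] at f2
      have : a2 + b2 = 1 := by exact_mod_cast f2
      exact ⟨e, by omega⟩
    · rw [← h] at f2
      simp only [if_neg e] at f2
      have : a2 + b2 = 0 := by exact_mod_cast f2
      omega
  have he : e1 = e2 := g1.1.symm.trans g2.1
  subst he
  rw [hb1] at hb2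
  have : b1 = b2 := by exact_mod_cast hb2
  omega

variable {G : Type*} [Group G] [Fintype G]

/-- A character of an overgroup with irreducible restriction is irreducible. -/
theorem isIrr_of_res {H : Type*} [Group H] [Fintype H] (f : H →* G) {ψ : G → ℂ}
    (hψ : Cfsg.IsCharacter G ψ) (hres : Cfsg.IsIrrCharacter H (fun h => ψ (f h))) :
    Cfsg.IsIrrCharacter G ψ := by
  have h0 : ψ ≠ 0 := fun h => IsIrr.one_ne_zero hres (by simp [h])
  obtain ⟨χ, hχ⟩ := CharInduce.exists_constituent hψ h0
  obtain ⟨r, hr, hsum⟩ := CharInduce.IsChar.exists_eq_add hψ χ.2 hχ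
  rcases add_eq_irr (CharInduce.IsChar.comp (IsIrr.isCharacter χ.2) f)
    (CharInduce.IsChar.comp hr f) hres (funext fun h => congrFun hsum (f h)) with h | h
  · exact absurd (by simpa using congrFun h 1) (IsIrr.one_ne_zero χ.2)
  · have : r = 0 := CharInduce.IsChar.eq_zero_of_one_eq_zero hr (by simpa using congrFun h 1)
    rw [hsum, this, add_zero]
    exact χ.2

variable (N : Subgroup G) [N.Normal] [Fintype N]

theorem linear_trivial_on_perfect (hN : ⁅N, N⁆ = N) (l : G →* ℂˣ) {n : G} (hn : n ∈ N) :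
    l n = 1 := by
  have h : N ≤ l.ker := by
    rw [← hN, Subgroup.commutator_le]
    intro a _ b _
    rw [MonoidHom.mem_ker, map_commutatorElement, commutatorElement_eq_one_iff_mul_comm]
    exact mul_comm _ _
  exact h hn

open scoped Classical in
theorem card_linear_le (φ : Cfsg.IrrCharacter N) (hperf : ⁅N, N⁆ = N) (I : Subgroup G) [Fintype I]
    (hI : I = CharInduce.inertia N (φ : N → ℂ)) (hNI : N ≤ I) (ψ : Cfsg.IrrCharacter I)
    (hψ : ∀ n : N, (ψ : I → ℂ) (Subgroup.inclusion hNI n) = (φ : N → ℂ) n) :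
    Nat.card {χ : Cfsg.IrrCharacter G // Cfsg.charDegree (χ : G → ℂ) = 1} ≤
      I.index * Nat.card {χ : Cfsg.IrrCharacter G //
        Cfsg.charDegree (χ : G → ℂ) = Cfsg.charDegree (φ : N → ℂ) * I.index} := by
  set θ := Cfsg.indFun I (ψ : I → ℂ) with hθdef
  have hθc : Cfsg.IsCharacter G θ := CharInduce.IsChar.ind I (IsIrr.isCharacter ψ.2)
  have hψ1 : (ψ : I → ℂ) 1 = (φ : N → ℂ) 1 := by rw [← hψ 1]; simp
  have hθ1 : θ 1 = (I.index : ℂ) * (φ : N → ℂ) 1 := by rw [hθdef, CharInduce.indFun_one, hψ1]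
  obtain ⟨d, hd, hd1⟩ := IsIrr.exists_degree φ.2
  have hidx : 0 < I.index := Nat.pos_of_ne_zero Subgroup.index_ne_zero_of_finite
  have hθ0 : θ ≠ 0 := fun h => by
    rw [h, Pi.zero_apply, hd1] at hθ1
    have : (0 : ℕ) = I.index * d := by exact_mod_cast hθ1
    exact absurd this (Nat.mul_pos hidx hd).ne
  -- the induced character is irreducible
  obtain ⟨χ0, hχ0⟩ := CharInduce.exists_constituent hθc hθ0
  have hres : ∀ f : G → ℂ, Cfsg.IsClassFunction G f →
      Cfsg.classInner θ f = Cfsg.classInner (ψ : I → ℂ) (fun i : I => f i) := fun f hf =>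
    CharInduce.classInner_indFun_left I _ _ hf
  rw [hres _ (IsIrr.isClassFunction χ0.2)] at hχ0
  have hover : Cfsg.classInner (fun n : N => (χ0 : G → ℂ) n) (φ : N → ℂ) ≠ 0 := by
    have hc : Cfsg.IsCharacter I (fun i : I => (χ0 : G → ℂ) i) :=
      CharInduce.IsChar.res (IsIrr.isCharacter χ0.2) I
    have hne : Cfsg.classInner (fun i : I => (χ0 : G → ℂ) i) (ψ : I → ℂ) ≠ 0 := by
      rw [← classInner_conj_symm]
      exact fun h => hχ0 ((map_eq_zero _).1 h)
    obtain ⟨r, hr, hsum⟩ := CharInduce.IsChar.exists_eq_add hc ψ.2 hne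
    obtain ⟨a, ha⟩ := classInner_isChar_nat
      (CharInduce.IsChar.comp hr (Subgroup.inclusion hNI)) (IsIrr.isCharacter φ.2)
    have : (fun n : N => (χ0 : G → ℂ) n) =
        (φ : N → ℂ) + fun n => r (Subgroup.inclusion hNI n) := by
      funext n
      rw [Pi.add_apply, ← hψ n]
      exact congrFun hsum (Subgroup.inclusion hNI n)
    rw [this, classInner_add_left, classInner_irr_self φ.2, ha]
    exact_mod_cast Nat.succ_ne_zero a ∘ fun h => by omega
  have hdeg := CharInduce.clifford_degree N χ0.2 φ.2 hover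
  obtain ⟨f, hf⟩ := classInner_isChar_nat
    (CharInduce.IsChar.res (IsIrr.isCharacter χ0.2) N) (IsIrr.isCharacter φ.2)
  rw [← hI, hf] at hdeg
  have hf0 : f ≠ 0 := fun h => hover (by rw [hf, h, Nat.cast_zero])
  have hne' : Cfsg.classInner θ (χ0 : G → ℂ) ≠ 0 := by
    rw [hres _ (IsIrr.isClassFunction χ0.2)]; exact hχ0
  obtain ⟨r, hr, hsum⟩ := CharInduce.IsChar.exists_eq_add hθc χ0.2 hne'
  have hf1 : f = 1 ∧ r 1 = 0 := by
    obtain ⟨e, he⟩ := IsChar.exists_degree hr
    have h := congrFun hsum 1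
    rw [Pi.add_apply, hdeg, hθ1, hd1, he] at h
    have h' : I.index * d = f * I.index * d + e := by exact_mod_cast h
    have : f * I.index * d ≤ 1 * I.index * d := by rw [one_mul]; omega
    have hf1 : f ≤ 1 := by
      rw [mul_assoc, mul_assoc] at this
      exact Nat.le_of_mul_le_mul_right this (Nat.mul_pos hidx hd)
    have hfe : f = 1 := by omega
    subst hfe
    rw [one_mul] at h'
    exact ⟨rfl, by rw [he, show e = 0 by omega, Nat.cast_zero]⟩
  obtain ⟨rfl, hr1⟩ := hf1
  have hθirr : θ = (χ0 : G → ℂ) := by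
    rw [hsum, CharInduce.IsChar.eq_zero_of_one_eq_zero hr hr1, add_zero]
  -- twisting by linear characters
  have hlin : ∀ χ : {χ : Cfsg.IrrCharacter G // Cfsg.charDegree (χ : G → ℂ) = 1},
      ∃ l : G →* ℂˣ, ∀ g, (χ.1 : G → ℂ) g = (l g : ℂ) := fun χ =>
    CharInduce.IsChar.exists_hom_of_degree_one (IsIrr.isCharacter χ.1.2) (by
      rw [BlockBasic.apply_one_eq_charDegree, χ.2, Nat.cast_one])
  choose l hl using hlin
  have hunit : ∀ χ g, (χ : {χ : Cfsg.IrrCharacter G // Cfsg.charDegree (χ : G → ℂ) = 1}).1.1 g *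
      conj (χ.1.1 g) = 1 := fun χ g => by
    rw [hl, Complex.mul_conj', CharInduce.norm_hom]; simp
  have htw : ∀ χ : {χ : Cfsg.IrrCharacter G // Cfsg.charDegree (χ : G → ℂ) = 1},
      Cfsg.IsIrrCharacter G (θ * (χ.1 : G → ℂ)) := by
    intro χ
    refine CharInduce.isIrr_of_norm_one (CharInduce.IsChar.mul hθc (IsIrr.isCharacter χ.1.2)) ?_
    have h := classInner_irr_self χ0.2
    rw [classInner_def] at h ⊢
    rw [← h, hθirr]
    congr 1
    refine Finset.sum_congr rfl fun g _ => ?_
    rw [Pi.mul_apply, map_mul]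
    linear_combination ((χ0 : G → ℂ) g * conj ((χ0 : G → ℂ) g)) * hunit χ g
  let F : {χ : Cfsg.IrrCharacter G // Cfsg.charDegree (χ : G → ℂ) = 1} →
      {χ : Cfsg.IrrCharacter G //
        Cfsg.charDegree (χ : G → ℂ) = Cfsg.charDegree (φ : N → ℂ) * I.index} := fun χ =>
    ⟨⟨_, htw χ⟩, by
      have h := BlockBasic.apply_one_eq_charDegree (⟨_, htw χ⟩ : Cfsg.IrrCharacter G)
      simp only [Pi.mul_apply] at h
      rw [hθ1, BlockBasic.apply_one_eq_charDegree φ, BlockBasic.apply_one_eq_charDegree χ.1, χ.2,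
        Nat.cast_one, mul_one, ← Nat.cast_mul, Nat.cast_inj] at h
      rw [← h, mul_comm]⟩
  -- two twists agree only on characters agreeing on the inertia group
  have hfib : ∀ χ χ', F χ = F χ' → ∀ i ∈ I, (χ.1 : G → ℂ) i = (χ'.1 : G → ℂ) i := by
    intro χ χ' hFF i hi
    have heq : θ * (χ.1 : G → ℂ) = θ * (χ'.1 : G → ℂ) :=
      congrArg (fun z : {χ : Cfsg.IrrCharacter G // _} => (z.1 : G → ℂ)) hFF
    set ν : G →* ℂˣ := l χ' / l χ with hν
    have hν' : ∀ g, (χ'.1 : G → ℂ) g = (χ.1 : G → ℂ) g * (ν g : ℂ) := fun g => by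
      rw [hl, hl, hν, MonoidHom.div_apply, Units.val_div_eq_div_val,
        mul_div_cancel₀ _ (Units.ne_zero _)]
    have hθν : ∀ g, θ g * (ν g : ℂ) = θ g := fun g => by
      have := congrFun heq g
      simp only [Pi.mul_apply, hν'] at this
      refine mul_right_cancel₀ (b := (χ.1 : G → ℂ) g) ?_ ?_
      · rw [hl]; exact Units.ne_zero _
      · linear_combination -this
    suffices h : ∀ i : I, ν i = 1 by
      rw [hν' i, show ν i = 1 from h ⟨i, hi⟩, Units.val_one, mul_one]
    have hψν : Cfsg.IsIrrCharacter I (fun i : I => (ψ : I → ℂ) i * (ν i : ℂ)) := by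
      refine isIrr_of_res (Subgroup.inclusion hNI)
        (CharInduce.IsChar.mul (IsIrr.isCharacter ψ.2) (CharInduce.isCharacter_hom
          (ν.comp I.subtype))) ?_
      convert φ.2 using 1
      funext n
      show (ψ : I → ℂ) (Subgroup.inclusion hNI n) * (ν (n : G) : ℂ) = _
      rw [hψ, linear_trivial_on_perfect N hperf ν n.2, Units.val_one, mul_one]
    have hψeq : (fun i : I => (ψ : I → ℂ) i * (ν i : ℂ)) = (ψ : I → ℂ) := by
      by_contra hne
      have hc : Cfsg.IsCharacter I (fun i : I => θ i) := CharInduce.IsChar.res hθc I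
      have h1 : Cfsg.classInner (fun i : I => θ i) (ψ : I → ℂ) ≠ 0 := by
        rw [hθirr, ← classInner_conj_symm]
        exact fun h => hχ0 ((map_eq_zero _).1 h)
      obtain ⟨r', hr', hs'⟩ := CharInduce.IsChar.exists_eq_add hc ψ.2 h1
      have h2 : Cfsg.classInner (fun i : I => θ i) (fun i : I => (ψ : I → ℂ) i * (ν i : ℂ)) ≠ 0 := by
        have hcl : Cfsg.IsClassFunction G θ := IsChar.isClassFunction hθc
        have e : Cfsg.classInner (fun i : I => θ i) (fun i : I => (ψ : I → ℂ) i * (ν i : ℂ)) =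
            Cfsg.classInner θ θ := by
          have e1 : Cfsg.indFun I (fun i : I => (ψ : I → ℂ) i * (ν i : ℂ)) = θ := by
            rw [CharInduce.indFun_mul_res I (ψ : I → ℂ) (fun g => (ν g : ℂ))
              (IsChar.isClassFunction (CharInduce.isCharacter_hom ν))]
            funext g
            exact hθν g
          rw [← CharInduce.classInner_indFun_right I _ θ hcl, e1]
        rw [e, hθirr, classInner_irr_self χ0.2]
        exact one_ne_zero
      rw [hs', classInner_add_left, classInner_irr_of_ne ψ.2 hψν (fun h => hne h.symm),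
        zero_add] at h2
      obtain ⟨r2, hr2, hs2⟩ := CharInduce.IsChar.exists_eq_add hr' hψν h2
      have hN : Cfsg.classInner (fun n : N => (χ0 : G → ℂ) n) (φ : N → ℂ) = 1 := by
        rw [hf, Nat.cast_one]
      have hN' : (fun n : N => (χ0 : G → ℂ) n) =
          (φ : N → ℂ) + ((φ : N → ℂ) + fun n => r2 (Subgroup.inclusion hNI n)) := by
        funext n
        have e1 := congrFun hs' (Subgroup.inclusion hNI n)
        rw [Pi.add_apply, hs2, Pi.add_apply, hψ, hθirr] at e1
        have e2 : (ν ((Subgroup.inclusion hNI n : I) : G) : ℂ) = 1 := by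
          show ((ν (n : G) : ℂˣ) : ℂ) = 1
          rw [linear_trivial_on_perfect N hperf ν n.2, Units.val_one]
        rw [e2, mul_one] at e1
        exact e1
      obtain ⟨a, ha⟩ := classInner_isChar_nat
        (CharInduce.IsChar.comp hr2 (Subgroup.inclusion hNI)) (IsIrr.isCharacter φ.2)
      rw [hN', classInner_add_left, classInner_add_left, classInner_irr_self φ.2, ha] at hN
      have : (1 : ℕ) + (1 + a) = 1 := by exact_mod_cast hN
      omega
    -- `ψ` vanishes off the kernel of `ν`, and is irreducible on it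
    set M : Subgroup I := (ν.comp I.subtype).ker with hM
    have hzero : ∀ i : I, i ∉ M → (ψ : I → ℂ) i = 0 := by
      intro i hi
      have h := congrFun hψeq i
      by_contra h0
      refine hi ?_
      rw [MonoidHom.mem_ker]
      exact Units.ext (mul_left_cancel₀ h0 (by rw [Units.val_one, mul_one]; exact h))
    have hNM : ∀ n : N, Subgroup.inclusion hNI n ∈ M := fun n => by
      rw [MonoidHom.mem_ker]
      exact linear_trivial_on_perfect N hperf ν n.2
    have hMirr : Cfsg.IsIrrCharacter M (fun m : M => (ψ : I → ℂ) m) := by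
      refine isIrr_of_res (H := N) ((Subgroup.inclusion hNI).codRestrict M hNM)
        (CharInduce.IsChar.res (IsIrr.isCharacter ψ.2) M) ?_
      convert φ.2 using 1
      funext n
      exact hψ n
    have h1 := classInner_irr_self hMirr
    have h2 := classInner_irr_self ψ.2
    rw [classInner_def, inv_mul_eq_iff_eq_mul₀ (Nat.cast_ne_zero.2 Nat.card_pos.ne'), mul_one] at h1 h2
    have h3 : ∑ i : I, (ψ : I → ℂ) i * conj ((ψ : I → ℂ) i) =
        ∑ m : M, (ψ : I → ℂ) m * conj ((ψ : I → ℂ) m) := by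
      symm
      refine Fintype.sum_of_injective (Subtype.val : M → I) Subtype.val_injective _ _ ?_ fun m => rfl
      intro i hi
      rw [hzero i fun h => hi ⟨⟨i, h⟩, rfl⟩, zero_mul]
    rw [h3, h1, Nat.cast_inj] at h2
    have htop := Subgroup.eq_top_of_card_eq M h2
    intro i
    have : i ∈ M := htop ▸ Subgroup.mem_top i
    exact MonoidHom.mem_ker.1 this
  -- characters agreeing with a given linear character on `I`
  have hbound : ∀ y, (Finset.univ.filter fun χ => F χ = y).card ≤ I.index := by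
    intro y
    rcases (Finset.univ.filter fun χ => F χ = y).eq_empty_or_nonempty with h | ⟨χ1, h1⟩
    · simp [h]
    · rw [Finset.mem_filter] at h1
      set μ := Cfsg.indFun I (fun i : I => (χ1.1 : G → ℂ) i) with hμ
      have hμc : Cfsg.IsCharacter G μ :=
        CharInduce.IsChar.ind I (CharInduce.IsChar.res (IsIrr.isCharacter χ1.1.2) I)
      have hμ1 : μ 1 = (I.index : ℂ) := by
        rw [hμ, CharInduce.indFun_one]
        show (I.index : ℂ) * (χ1.1 : G → ℂ) 1 = _
        rw [BlockBasic.apply_one_eq_charDegree, χ1.2, Nat.cast_one, mul_one]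
      choose c hc using fun χ : Cfsg.IrrCharacter G =>
        classInner_isChar_nat hμc (IsIrr.isCharacter χ.2)
      have hone : ∀ χ ∈ (Finset.univ.filter fun χ => F χ = y).image Subtype.val, c χ = 1 := by
        intro χ hχ
        obtain ⟨χ', hχ', rfl⟩ := Finset.mem_image.1 hχ
        rw [Finset.mem_filter] at hχ'
        have h : (c χ'.1 : ℂ) = 1 := by
          rw [← hc, CharInduce.classInner_indFun_left I _ _ (IsIrr.isClassFunction χ'.1.2),
            classInner_def]
          rw [Finset.sum_congr rfl (g := fun _ : I => (1 : ℂ)) fun i _ => by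
            rw [hfib χ' χ1 (hχ'.2.trans h1.2.symm) i i.2, hunit]]
          rw [Finset.sum_const, Finset.card_univ, nsmul_eq_mul, mul_one, Nat.card_eq_fintype_card,
            inv_mul_cancel₀ (Nat.cast_ne_zero.2 Fintype.card_ne_zero)]
        exact_mod_cast h
      have hexp := congrFun (classFunction_expansion (IsChar.isClassFunction hμc)) 1
      simp only [Finset.sum_apply, Pi.smul_apply, smul_eq_mul, hc,
        BlockBasic.apply_one_eq_charDegree, hμ1] at hexp
      have hexp' : I.index = ∑ χ : Cfsg.IrrCharacter G, c χ * Cfsg.charDegree (χ : G → ℂ) := by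
        exact_mod_cast hexp
      refine le_trans ?_ hexp'.ge
      rw [← Finset.card_image_of_injective _ Subtype.val_injective, Finset.card_eq_sum_ones]
      refine le_trans ?_ (Finset.sum_le_univ_sum_of_nonneg (fun _ => Nat.zero_le _)
        (s := (Finset.univ.filter fun χ => F χ = y).image Subtype.val))
      refine Finset.sum_le_sum fun χ hχ => ?_
      obtain ⟨χ', -, rfl⟩ := Finset.mem_image.1 hχ
      rw [hone _ hχ, χ'.2]
  rw [Nat.card_eq_fintype_card, Nat.card_eq_fintype_card, ← Finset.card_univ, ← Finset.card_univ]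
  exact (Finset.card_le_mul_card_image _ I.index fun y _ => hbound y).trans
    (Nat.mul_le_mul_left _ (Finset.card_le_univ _))

end Cfsg.Agent.H85
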