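import Cfsg.Agent.H59.S4Section

/-!
A section isomorphic to the symmetric group of degree 4 from a subgroup of order 4 and a group normalizing
it, meeting it trivially and inducing a transposition and a three-cycle on it.
-/

set_option autoImplicit false

open scoped Pointwise

namespace Cfsg.Agent.H85

universe u

variable {G : Type u} [Group G] [Finite G]

theorem involves_perm_four' (U H : Subgroup G) (hU : Nat.card U = 4)
    (hHN : H ≤ Subgroup.normalizer (U : Set G)) (hHU : ∀ u ∈ U, u ∈ H → u = 1)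
    (y b : G) (hy : y ∈ H) (hb : b ∈ H)
    (hy3 : ∀ u ∈ U, y ^ 3 * u * (y ^ 3)⁻¹ = u) (hyne : ∃ u ∈ U, y * u * y⁻¹ ≠ u)
    (hb2 : ∀ u ∈ U, b ^ 2 * u * (b ^ 2)⁻¹ = u) (hbne : ∃ u ∈ U, b * u * b⁻¹ ≠ u) :
    Cfsg.Involves (Equiv.Perm (Fin 4)) G := by
  classical
  let L : Subgroup G := U ⊔ H
  have hHL : H ≤ L := le_sup_right
  have hUL : U ≤ L := le_sup_left
  let H' : Subgroup L := H.subgroupOf L
  let e : U → L ⧸ H' := fun u => ((⟨u, hUL u.2⟩ : L) : L ⧸ H')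
  have he : Function.Bijective e := by
    refine ⟨fun u v h => ?_, fun q => ?_⟩
    · have h0 := QuotientGroup.eq.mp h
      have h1 : (u : G)⁻¹ * (v : G) ∈ H := h0
      exact Subtype.ext (inv_mul_eq_one.mp (hHU _ (mul_mem (inv_mem u.2) v.2) h1))
    · obtain ⟨⟨l, hl⟩, rfl⟩ := QuotientGroup.mk_surjective q
      have hl' : l ∈ ((U : Set G) * (H : Set G)) := by
        rw [← Subgroup.coe_mul_of_right_le_normalizer_left U H hHN]
        exact hl
      obtain ⟨u, hu, h, hh, rfl⟩ := hl'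
      refine ⟨⟨u, hu⟩, QuotientGroup.eq.mpr ?_⟩
      change u⁻¹ * (u * h) ∈ H
      rwa [inv_mul_cancel_left]
  have hcard : Nat.card (L ⧸ H') = 4 := by rw [← Nat.card_congr (Equiv.ofBijective e he), hU]
  let f : L →* Equiv.Perm (L ⧸ H') := MulAction.toPermHom L (L ⧸ H')
  have hconj : ∀ (g : G) (hg : g ∈ H) (u : U),
      f ⟨g, hHL hg⟩ (e u) = e ⟨g * u * g⁻¹, (Subgroup.mem_normalizer_iff.mp (hHN hg) _).mp u.2⟩ := by
    intro g hg u
    change (((⟨g, hHL hg⟩ : L) * ⟨u, hUL u.2⟩ : L) : L ⧸ H') = _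
    refine QuotientGroup.eq.mpr ?_
    change (g * (u : G))⁻¹ * (g * u * g⁻¹) ∈ H
    rw [show (g * (u : G))⁻¹ * (g * u * g⁻¹) = g⁻¹ by group]
    exact inv_mem hg
  let I : Subgroup (Equiv.Perm (L ⧸ H')) := f.range
  let pt : L ⧸ H' := ((1 : L) : L ⧸ H')
  let S : Subgroup I := MulAction.stabilizer I pt
  have horb : MulAction.orbit I pt = Set.univ := Set.eq_univ_of_forall fun q => by
    obtain ⟨l, rfl⟩ := QuotientGroup.mk_surjective q
    refine ⟨⟨f l, l, rfl⟩, ?_⟩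
    change ((l * 1 : L) : L ⧸ H') = _
    rw [mul_one]
  have hS : ∀ g : G, ∀ hg : g ∈ H, (⟨f ⟨g, hHL hg⟩, _, rfl⟩ : I) ∈ S := fun g hg => by
    change (((⟨g, hHL hg⟩ : L) * 1 : L) : L ⧸ H') = _
    refine QuotientGroup.eq.mpr ?_
    change ((⟨g, hHL hg⟩ : L) * 1)⁻¹ * 1 ∈ H'
    rw [mul_one, mul_one]
    exact inv_mem (show (⟨g, hHL hg⟩ : L) ∈ H' from hg)
  have hne : ∀ (g : G) (hg : g ∈ H), (∃ u ∈ U, g * u * g⁻¹ ≠ u) →
      (⟨⟨f ⟨g, hHL hg⟩, _, rfl⟩, hS g hg⟩ : S) ≠ 1 := by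
    rintro g hg ⟨u, hu, hne⟩ h
    have h1 : f ⟨g, hHL hg⟩ = 1 := congrArg (fun z : S => ((z : I) : Equiv.Perm (L ⧸ H'))) h
    have h2 := hconj g hg ⟨u, hu⟩
    rw [h1] at h2
    exact hne (congrArg Subtype.val (he.1 h2)).symm
  have hdvd : ∀ (q : ℕ), q.Prime → ∀ g : G, g ∈ H → (∀ u ∈ U, g ^ q * u * (g ^ q)⁻¹ = u) →
      (∃ u ∈ U, g * u * g⁻¹ ≠ u) → q ∣ Nat.card S := by
    intro q hq g hg hgq hgne
    haveI := Fact.mk hq
    have h1 : (⟨⟨f ⟨g, hHL hg⟩, _, rfl⟩, hS g hg⟩ : S) ^ q = 1 := by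
      apply Subtype.ext
      apply Subtype.ext
      change f ⟨g, hHL hg⟩ ^ q = 1
      rw [← map_pow, show (⟨g, hHL hg⟩ : L) ^ q = ⟨g ^ q, hHL (pow_mem hg q)⟩ from Subtype.ext rfl]
      refine Equiv.ext fun r => ?_
      obtain ⟨u, rfl⟩ := he.2 r
      rw [hconj (g ^ q) (pow_mem hg q), Equiv.Perm.one_apply]
      exact congrArg e (Subtype.ext (hgq u u.2))
    rw [← orderOf_eq_prime h1 (hne g hg hgne)]
    exact orderOf_dvd_natCard _
  have h3 := hdvd 3 Nat.prime_three y hy hy3 hyne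
  have h2 := hdvd 2 Nat.prime_two b hb hb2 hbne
  have hI : Nat.card I = 4 * Nat.card S := by
    have h := Subgroup.card_mul_index S
    rw [MulAction.index_stabilizer, horb, Set.ncard_univ, hcard] at h
    rw [← h]; ring
  have hP : Nat.card (Equiv.Perm (L ⧸ H')) = 24 := by
    rw [Nat.card_perm, hcard]; rfl
  have htop : I = ⊤ := by
    apply Subgroup.eq_top_of_le_card
    have h6 : 6 ≤ Nat.card S :=
      Nat.le_of_dvd Nat.card_pos (Nat.Coprime.mul_dvd_of_dvd_of_dvd (by norm_num) h2 h3)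
    omega
  have hR : (f.ker.map L.subtype).subgroupOf L = f.ker :=
    Subgroup.comap_map_eq_self_of_injective L.subtype_injective _
  have hn : ((f.ker.map L.subtype).subgroupOf L).Normal := by rw [hR]; infer_instance
  refine ⟨L, f.ker.map L.subtype, hn, ?_⟩
  obtain ⟨eq4⟩ : Nonempty ((L ⧸ H') ≃ Fin 4) :=
    ⟨(Finite.equivFin _).trans (finCongr hcard)⟩
  exact ⟨((QuotientGroup.quotientMulEquivOfEq hR).trans
    (QuotientGroup.quotientKerEquivOfSurjective f (MonoidHom.range_eq_top.mp htop))).trans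
      eq4.permCongrHom⟩

end Cfsg.Agent.H85
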