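import Cfsg.Agent.BlockBasic.Basic
import Mathlib.Algebra.CharP.Basic
import Mathlib.Algebra.CharP.Lemmas

/-!
# Character values at `p`-elements modulo `M`, and orbit idempotents of normal subgroups
-/

set_option linter.unusedSectionVars false

open scoped ComplexConjugate

namespace Cfsg.Agent.H85

open Cfsg.Agent.CharBasic Cfsg.Agent.BlockBasic

variable {G : Type*} [Group G] [Finite G] {p : ℕ} {M : Ideal Cfsg.AlgInt}

theorem memLocalIdeal_root_sub_one (hM : Cfsg.IsPModular p M) {z : ℂ} {k : ℕ}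
    (hz : z ^ p ^ k = 1) : Cfsg.MemLocalIdeal M (z - 1) := by
  have hp : p.Prime := hM.1
  have hzi : IsIntegral ℤ z :=
    IsIntegral.of_pow (pow_pos hp.pos k) (by rw [hz]; exact isIntegral_one)
  set a : Cfsg.AlgInt := ⟨z, hzi⟩ with ha
  have := hM.2.1
  letI : Field (Cfsg.AlgInt ⧸ M) := Ideal.Quotient.field M
  have : Fact p.Prime := ⟨hp⟩
  have : CharP (Cfsg.AlgInt ⧸ M) p := by
    rw [CharP.charP_iff_prime_eq_zero hp]
    rw [← map_natCast (Ideal.Quotient.mk M)]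
    exact Ideal.Quotient.eq_zero_iff_mem.2 hM.2.2
  have hmem : a - 1 ∈ M := by
    rw [← Ideal.Quotient.eq_zero_iff_mem]
    have h : (Ideal.Quotient.mk M (a - 1)) ^ p ^ k = 0 := by
      rw [map_sub, sub_pow_char_pow, ← map_pow, map_one, one_pow,
        show a ^ p ^ k = 1 from Subtype.ext (by simpa [ha] using hz), map_one, sub_self]
    exact pow_eq_zero_iff (pow_pos hp.pos k).ne' |>.1 h
  simpa [ha] using (memLocalIdeal_coe_iff hM (a - 1)).2 hmem

/-- `χ(x) ≡ χ(1)` at a `p`-element. -/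
theorem memLocalIdeal_apply_sub_one (hM : Cfsg.IsPModular p M) {χ : G → ℂ}
    (hχ : Cfsg.IsCharacter G χ) {x : G} (hx : ∃ k : ℕ, orderOf x = p ^ k) :
    Cfsg.MemLocalIdeal M (χ x - χ 1) := by
  obtain ⟨k, hk⟩ := hx
  obtain ⟨n, ρ, rfl⟩ := hχ
  obtain ⟨b, μ, -, hμ, hs⟩ := exists_eigenbasis_rep ρ x
  rw [hs, Representation.char_one,
    show (Module.finrank ℂ (Fin n → ℂ) : ℂ) = ∑ _i : Fin (Module.finrank ℂ (Fin n → ℂ)), (1 : ℂ)
      by simp, ← Finset.sum_sub_distrib]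
  exact memLocalIdeal_sum hM _ _ fun i _ => memLocalIdeal_root_sub_one hM (hk ▸ hμ i)

theorem memLocalIdeal_conj_apply_sub_one (hM : Cfsg.IsPModular p M) (χ : Cfsg.IrrCharacter G)
    {x : G} (hx : ∃ k : ℕ, orderOf x = p ^ k) :
    Cfsg.MemLocalIdeal M (conj ((χ : G → ℂ) x) - (χ : G → ℂ) 1) := by
  rw [conj_apply_eq_inv]
  exact memLocalIdeal_apply_sub_one hM (IsIrr.isCharacter χ.2) (by simpa using hx)

end Cfsg.Agent.H85
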