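import Cfsg.Agent.H85.Gallagher

/-!
# Induction of an extension to the inertia group
-/

set_option linter.unusedSectionVars false

namespace Cfsg.Agent.H85

open Cfsg.Agent.CharBasic

variable {G : Type*} [Group G] [Fintype G] (N : Subgroup G) [N.Normal] [Fintype N]

theorem classInner_ne_zero_symm {H : Type*} [Group H] [Fintype H] {a b : H → ℂ}
    (h : Cfsg.classInner a b ≠ 0) : Cfsg.classInner b a ≠ 0 := by
  rw [← classInner_conj_symm]
  exact fun e => h ((map_eq_zero _).1 e)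

/-- Induction from the inertia group of an extension is irreducible, and the restriction has
multiplicity one. -/
theorem isIrr_indFun_ext {φ : N → ℂ} (hφ : Cfsg.IsIrrCharacter N φ) (I : Subgroup G)
    (hI : I = CharInduce.inertia N φ) (hNI : N ≤ I) {ψ : I → ℂ}
    (hψi : Cfsg.IsIrrCharacter I ψ) (hψ : ∀ n : N, ψ (Subgroup.inclusion hNI n) = φ n) :
    Cfsg.IsIrrCharacter G (Cfsg.indFun I ψ) ∧
      Cfsg.classInner (fun n : N => Cfsg.indFun I ψ n) φ = 1 := by
  cases nonempty_fintype I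
  have hθc : Cfsg.IsCharacter G (Cfsg.indFun I ψ) :=
    CharInduce.IsChar.ind I (IsIrr.isCharacter hψi)
  have hψ1 : ψ 1 = φ 1 := by rw [← hψ 1]; simp
  have hθ1 : Cfsg.indFun I ψ 1 = (I.index : ℂ) * φ 1 := by rw [CharInduce.indFun_one, hψ1]
  obtain ⟨d, hd, hd1⟩ := IsIrr.exists_degree hφ
  have hidx : 0 < I.index := Nat.pos_of_ne_zero Subgroup.index_ne_zero_of_finite
  have hθ0 : Cfsg.indFun I ψ ≠ 0 := fun h => by
    rw [h, Pi.zero_apply, hd1] at hθ1
    have : (0 : ℕ) = I.index * d := by exact_mod_cast hθ1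
    exact absurd this (Nat.mul_pos hidx hd).ne
  obtain ⟨χ0, hχ0'⟩ := CharInduce.exists_constituent hθc hθ0
  have hχ0 := hχ0'
  rw [CharInduce.classInner_indFun_left I _ _ (IsIrr.isClassFunction χ0.2)] at hχ0
  obtain ⟨r, hr, hsum⟩ := CharInduce.IsChar.exists_eq_add
    (CharInduce.IsChar.res (IsIrr.isCharacter χ0.2) I) hψi (classInner_ne_zero_symm hχ0)
  obtain ⟨a, ha⟩ := classInner_isChar_nat
    (CharInduce.IsChar.comp hr (Subgroup.inclusion hNI)) (IsIrr.isCharacter hφ)
  have hover : Cfsg.classInner (fun n : N => (χ0 : G → ℂ) n) φ = 1 + (a : ℂ) := by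
    have : (fun n : N => (χ0 : G → ℂ) n) = φ + fun n => r (Subgroup.inclusion hNI n) := by
      funext n
      rw [Pi.add_apply, ← hψ n]
      exact congrFun hsum (Subgroup.inclusion hNI n)
    rw [this, classInner_add_left, classInner_irr_self hφ, ha]
  have hdeg := CharInduce.clifford_degree N χ0.2 hφ (by
    rw [hover]; exact_mod_cast (by omega : (1 + a) ≠ 0))
  rw [← hI, hover] at hdeg
  obtain ⟨r', hr', hsum'⟩ := CharInduce.IsChar.exists_eq_add hθc χ0.2 hχ0'
  obtain ⟨e, he⟩ := IsChar.exists_degree hr'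
  have h := congrFun hsum' 1
  rw [Pi.add_apply, hdeg, hθ1, hd1, he] at h
  have h' : I.index * d = (1 + a) * I.index * d + e := by exact_mod_cast h
  have hpos := Nat.mul_pos hidx hd
  rw [add_mul, add_mul, one_mul, mul_assoc] at h'
  have ha0 : a * (I.index * d) = 0 ∧ e = 0 := by omega
  have ha1 : a = 0 := (Nat.mul_eq_zero.1 ha0.1).resolve_right hpos.ne'
  rw [hsum', CharInduce.IsChar.eq_zero_of_one_eq_zero hr' (by rw [he, ha0.2, Nat.cast_zero]),
    add_zero]
  refine ⟨χ0.2, ?_⟩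
  rw [hover, ha1, Nat.cast_zero, add_zero]

/-- Induction from the inertia group is injective on extensions. -/
theorem indFun_ext_inj {φ : N → ℂ} (hφ : Cfsg.IsIrrCharacter N φ) (I : Subgroup G)
    (hI : I = CharInduce.inertia N φ) (hNI : N ≤ I) {ψ ψ' : I → ℂ}
    (hψi : Cfsg.IsIrrCharacter I ψ) (hψ : ∀ n : N, ψ (Subgroup.inclusion hNI n) = φ n)
    (hψi' : Cfsg.IsIrrCharacter I ψ') (hψ' : ∀ n : N, ψ' (Subgroup.inclusion hNI n) = φ n)
    (h : Cfsg.indFun I ψ = Cfsg.indFun I ψ') : ψ = ψ' := by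
  cases nonempty_fintype I
  by_contra hne
  obtain ⟨hirr, hm⟩ := isIrr_indFun_ext N hφ I hI hNI hψi hψ
  have hc : Cfsg.IsCharacter I (fun i : I => Cfsg.indFun I ψ i) :=
    CharInduce.IsChar.res (IsIrr.isCharacter hirr) I
  have key : ∀ η : I → ℂ, Cfsg.indFun I η = Cfsg.indFun I ψ →
      Cfsg.classInner (fun i : I => Cfsg.indFun I ψ i) η = 1 := fun η e => by
    rw [← CharInduce.classInner_indFun_right I η _ (IsIrr.isClassFunction hirr), e,
      classInner_irr_self hirr]
  obtain ⟨r, hr, hs⟩ := CharInduce.IsChar.exists_eq_add hc hψi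
    (by rw [key ψ rfl]; exact one_ne_zero)
  have h2 := key ψ' h.symm
  rw [hs, classInner_add_left, classInner_irr_of_ne hψi hψi' hne, zero_add] at h2
  obtain ⟨r2, hr2, hs2⟩ := CharInduce.IsChar.exists_eq_add hr hψi' (by rw [h2]; exact one_ne_zero)
  have hN : (fun n : N => Cfsg.indFun I ψ n) = φ + (φ + fun n => r2 (Subgroup.inclusion hNI n)) := by
    funext n
    have e1 := congrFun hs (Subgroup.inclusion hNI n)
    rw [Pi.add_apply, hs2, Pi.add_apply, hψ, hψ'] at e1
    exact e1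
  obtain ⟨a, ha⟩ := classInner_isChar_nat
    (CharInduce.IsChar.comp hr2 (Subgroup.inclusion hNI)) (IsIrr.isCharacter hφ)
  rw [hN, classInner_add_left, classInner_add_left, classInner_irr_self hφ, ha] at hm
  have : (1 : ℕ) + (1 + a) = 1 := by exact_mod_cast hm
  omega

end Cfsg.Agent.H85
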