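import Cfsg.Agent.H85.CliffordExt

/-!
# Strongly real characters of an odd elementary abelian group extended by a 2-group
-/

set_option linter.unusedSectionVars false

open scoped Classical ComplexConjugate

namespace Cfsg.Agent.H85

open Cfsg.Agent.CharBasic

/-- The group map onto a complement of a normal subgroup. -/
theorem exists_proj {G : Type*} [Group G] (N P : Subgroup G) [N.Normal] (hdisj : N ⊓ P = ⊥)
    (hprod : N ⊔ P = ⊤) : ∃ π : G →* G, (∀ g, π g ∈ P) ∧ (∀ g, g * (π g)⁻¹ ∈ N) ∧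
      (∀ n ∈ N, ∀ p ∈ P, π (n * p) = p) := by
  have huniq : ∀ n ∈ N, ∀ p ∈ P, ∀ n' ∈ N, ∀ p' ∈ P, n * p = n' * p' → p = p' := by
    intro n hn p hp n' hn' p' hp' h
    have : p' * p⁻¹ ∈ N ⊓ P := by
      refine Subgroup.mem_inf.2 ⟨?_, P.mul_mem hp' (P.inv_mem hp)⟩
      have : p' * p⁻¹ = n'⁻¹ * n := by rw [mul_inv_eq_iff_eq_mul, mul_assoc, h]; group
      rw [this]
      exact N.mul_mem (N.inv_mem hn') hn
    rw [hdisj, Subgroup.mem_bot, mul_inv_eq_one] at this
    exact this.symm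
  have hex : ∀ g : G, ∃ p ∈ P, g * p⁻¹ ∈ N := fun g => by
    have hg : g ∈ N ⊔ P := hprod ▸ Subgroup.mem_top g
    obtain ⟨n, hn, p, hp, rfl⟩ := Subgroup.mem_sup_of_normal_left.1 hg
    exact ⟨p, hp, by simpa using hn⟩
  choose f hfP hfN using hex
  have hval : ∀ n ∈ N, ∀ p ∈ P, f (n * p) = p := fun n hn p hp =>
    huniq _ (hfN (n * p)) _ (hfP _) n hn p hp (by group)
  refine ⟨MonoidHom.mk' f fun a b => ?_, hfP, hfN, hval⟩
  have e : a * b = (a * (f a)⁻¹ * (f a * (b * (f b)⁻¹) * (f a)⁻¹)) * (f a * f b) := by group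
  conv_lhs => rw [e]
  exact hval _ (N.mul_mem (hfN a) (Subgroup.Normal.conj_mem inferInstance _ (hfN b) _)) _
    (P.mul_mem (hfP a) (hfP b))

variable {G : Type*} [Group G] [Fintype G] (N P : Subgroup G) [N.Normal] [Fintype N]

/-- The Frobenius–Schur sum of a character induced from a subgroup. -/
theorem fs_indFun (T : Subgroup G) (η : T → ℂ) :
    ∑ g : G, Cfsg.indFun T η (g * g) =
      (Nat.card G : ℂ) * ((Nat.card T : ℂ)⁻¹ * ∑ g : G, Cfsg.extendByZero T η (g * g)) := by
  simp only [CharInduce.indFun_apply, ← Finset.mul_sum]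
  rw [Finset.sum_comm]
  have : ∀ x : G, ∑ g : G, Cfsg.extendByZero T η (x⁻¹ * (g * g) * x) =
      ∑ g : G, Cfsg.extendByZero T η (g * g) := fun x => by
    rw [← CharInduce.sum_conj (fun g => Cfsg.extendByZero T η (g * g)) x]
    refine Finset.sum_congr rfl fun g _ => congrArg _ ?_
    group
  rw [Finset.sum_congr rfl fun x _ => this x, Finset.sum_const, Finset.card_univ,
    nsmul_eq_mul, ← Nat.card_eq_fintype_card (α := G)]
  ring

variable {N P}

/-- For a nontrivial linear character of `N`, inverted by the central involution `z` of `P`, a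
family of strongly real irreducible characters of degree `|G : T|`, indexed by the linear characters
of square one of `T ∩ P`. -/
theorem exists_strongly_real (hdisj : N ⊓ P = ⊥) (hprod : N ⊔ P = ⊤) (lam : N →* ℂˣ)
    (hlam : ∃ n, lam n * lam n ≠ 1) {z : G} (hzP : z ∈ P) (hz2 : z * z = 1)
    (hzc : ∀ p ∈ P, p * z = z * p) (hinv : ∀ n ∈ N, z * n * z⁻¹ = n⁻¹)
    (T : Subgroup G) (hT : T = CharInduce.inertia N (fun n => (lam n : ℂ))) :
    z ∉ T ∧ (T ⊓ P).relIndex P = T.index ∧
    ∀ β : {β : ↥(T ⊓ P) →* ℂˣ // ∀ x, β x * β x = 1},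
      ∃ η : T →* ℂˣ, Cfsg.IsIrrCharacter G (Cfsg.indFun T fun t => (η t : ℂ)) ∧
        (∀ n : N, ∀ h : (n : G) ∈ T, η ⟨n, h⟩ = lam n) ∧
        (∀ (x : G) (h : x ∈ T ⊓ P), η ⟨x, h.1⟩ = β.1 ⟨x, h⟩) ∧
        ∑ g : G, Cfsg.indFun T (fun t => (η t : ℂ)) (g * g) = (Nat.card G : ℂ) := by
  classical
  set lc : N → ℂ := fun n => (lam n : ℂ) with hlc
  have hirr : Cfsg.IsIrrCharacter N lc := CharInduce.isIrrCharacter_hom lam
  have hNT : N ≤ T := hT ▸ CharInduce.le_inertia N (IsIrr.isClassFunction hirr)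
  have hTmem : ∀ x : G, x ∈ T ↔ ∀ n : N, lam (MulAut.conjNormal x n) = lam n := fun x => by
    rw [hT, CharInduce.mem_inertia, CharInduce.conjFun_eq_comp, funext_iff]
    exact ⟨fun h n => Units.ext (h n), fun h n => congrArg Units.val (h n)⟩
  have hconj_z : ∀ n : N, MulAut.conjNormal z n = n⁻¹ := fun n => Subtype.ext (by
    rw [MulAut.conjNormal_apply, hinv _ n.2, InvMemClass.coe_inv])
  obtain ⟨π, hπP, hπN, hπval⟩ := exists_proj N P hdisj hprod
  have hπp : ∀ p ∈ P, π p = p := fun p hp => by simpa using hπval 1 N.one_mem p hp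
  have hπn : ∀ n ∈ N, π n = 1 := fun n hn => by simpa using hπval n hn 1 P.one_mem
  have hπT : ∀ g, g ∈ T → π g ∈ T ⊓ P := fun g hg => by
    refine Subgroup.mem_inf.2 ⟨?_, hπP g⟩
    have := T.mul_mem (T.inv_mem (hNT (hπN g))) hg
    simpa using this
  -- the equivalence `G ≃ N × P`
  let e : N × P ≃ G :=
    { toFun := fun x => (x.1 : G) * x.2
      invFun := fun g => (⟨g * (π g)⁻¹, hπN g⟩, ⟨π g, hπP g⟩)
      left_inv := fun x => by
        have := hπval x.1 x.1.2 x.2 x.2.2
        ext <;> simp [this]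
      right_inv := fun g => by simp }
  refine ⟨?_, ?_, fun β => ?_⟩
  · intro hz
    obtain ⟨n, hn⟩ := hlam
    refine hn ?_
    have := (hTmem z).1 hz n
    rw [hconj_z, map_inv] at this
    calc lam n * lam n = (lam n)⁻¹ * lam n := by rw [this]
      _ = 1 := inv_mul_cancel _
  · have hcard : Nat.card T = Nat.card N * Nat.card ↥(T ⊓ P) := by
      rw [← Nat.card_prod]
      exact Nat.card_congr
        { toFun := fun t => (⟨(t : G) * (π t)⁻¹, hπN t⟩, ⟨π t, hπT t t.2⟩)
          invFun := fun x => ⟨(x.1 : G) * x.2, T.mul_mem (hNT x.1.2) x.2.2.1⟩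
          left_inv := fun t => by simp
          right_inv := fun x => by
            have := hπval x.1 x.1.2 x.2 x.2.2.2
            ext <;> simp [this] }
    have hG : Nat.card G = Nat.card N * Nat.card P := by
      rw [← Nat.card_prod]; exact (Nat.card_congr e).symm
    have h1 := Subgroup.index_mul_card T
    have h2 : (T ⊓ P).relIndex P * Nat.card ↥(T ⊓ P) = Nat.card P := by
      rw [← Subgroup.relIndex_bot_left (T ⊓ P), ← Subgroup.relIndex_bot_left P, mul_comm]
      exact Subgroup.relIndex_mul_relIndex _ _ _ bot_le inf_le_right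
    rw [hcard, hG, ← h2] at h1
    refine (Nat.eq_of_mul_eq_mul_left (Nat.mul_pos (Nat.card_pos (α := N))
      (Nat.card_pos (α := ↥(T ⊓ P)))) ?_).symm
    rw [mul_comm _ T.index, h1]
    ring
  -- the extension
  have hnu : ∀ g : G, g * (π g)⁻¹ ∈ N := hπN
  let η : T →* ℂˣ := MonoidHom.mk'
    (fun t => lam ⟨(t : G) * (π t)⁻¹, hπN t⟩ * β.1 ⟨π t, hπT t t.2⟩) fun a b => by
      have h1 : (⟨((a * b : T) : G) * (π ((a * b : T) : G))⁻¹, hπN _⟩ : N) =
          (⟨(a : G) * (π a)⁻¹, hπN a⟩ : N) *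
            MulAut.conjNormal (π (a : G)) (⟨(b : G) * (π b)⁻¹, hπN b⟩ : N) := by
        apply Subtype.ext
        simp only [Subgroup.coe_mul, MulAut.conjNormal_apply, map_mul]
        group
      have h2 : (⟨π ((a * b : T) : G), hπT _ (a * b).2⟩ : ↥(T ⊓ P)) =
          ⟨π a, hπT a a.2⟩ * ⟨π b, hπT b b.2⟩ := Subtype.ext (by simp)
      rw [h1, h2, map_mul, map_mul, (hTmem _).1 (hπT a a.2).1, mul_mul_mul_comm]
  have hηN : ∀ n : N, ∀ h : (n : G) ∈ T, η ⟨n, h⟩ = lam n := fun n h => by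
    show lam _ * β.1 _ = _
    have e1 : (⟨π (n : G), hπT n h⟩ : ↥(T ⊓ P)) = 1 := Subtype.ext (hπn n n.2)
    have e2 : (⟨(n : G) * (π n)⁻¹, hπN n⟩ : N) = n := Subtype.ext (by simp [hπn n n.2])
    rw [e2, e1, map_one, mul_one]
  have hηP : ∀ (x : G) (h : x ∈ T ⊓ P), η ⟨x, h.1⟩ = β.1 ⟨x, h⟩ := fun x h => by
    show lam _ * β.1 _ = _
    have e1 : (⟨π x, hπT x h.1⟩ : ↥(T ⊓ P)) = ⟨x, h⟩ := Subtype.ext (hπp x h.2)
    have e2 : (⟨x * (π x)⁻¹, hπN x⟩ : N) = 1 := Subtype.ext (by simp [hπp x h.2])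
    rw [e2, e1, map_one, one_mul]
  refine ⟨η, (isIrr_indFun_ext N hirr T hT hNT (CharInduce.isIrrCharacter_hom η) fun n => ?_).1,
    hηN, hηP, ?_⟩
  · exact congrArg Units.val (hηN n (hNT n.2))
  rw [fs_indFun]
  set η' : T → ℂ := fun t => (η t : ℂ) with hη'
  suffices h : ∑ g : G, Cfsg.extendByZero T η' (g * g) = (Nat.card T : ℂ) by
    rw [h, inv_mul_cancel₀ (CharInduce.card_ne_zero_complex _), mul_one]
  rw [← Equiv.sum_comp e, Fintype.sum_prod_type, Finset.sum_comm]
  -- the inner sum for a fixed element of `P`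
  have hinner : ∀ p : P, ∑ n : N, Cfsg.extendByZero T η' (e (n, p) * e (n, p)) =
      if (p : G) * z ∈ T then (Nat.card N : ℂ) else 0 := by
    intro p
    have hsq : ∀ n : N, e (n, p) * e (n, p) =
        ((n * MulAut.conjNormal (p : G) n : N) : G) * ((p : G) * p) := fun n => by
      show (n : G) * p * ((n : G) * p) = _
      rw [Subgroup.coe_mul, MulAut.conjNormal_apply]
      group
    set μ : N →* ℂ := (Units.coeHom ℂ).comp
      (lam * lam.comp (MulAut.conjNormal (p : G)).toMonoidHom) with hμ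
    have hmem : ∀ n : N, e (n, p) * e (n, p) ∈ T ↔ (p : G) * p ∈ T := fun n => by
      rw [hsq]
      exact T.mul_mem_cancel_left (hNT (Subtype.coe_prop _))
    by_cases hpz : (p : G) * z ∈ T
    · have hpp : (p : G) * p ∈ T ⊓ P := by
        refine Subgroup.mem_inf.2 ⟨?_, P.mul_mem p.2 p.2⟩
        have := T.mul_mem hpz hpz
        rwa [show (p : G) * z * ((p : G) * z) = (p : G) * p * (z * z) by
          rw [← mul_assoc, mul_assoc (p : G) z p, ← hzc p p.2]; group, hz2, mul_one] at this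
      have hterm : ∀ n : N, Cfsg.extendByZero T η' (e (n, p) * e (n, p)) = 1 := by
        intro n
        rw [CharInduce.extendByZero_of_mem _ ((hmem n).2 hpp.1)]
        have hμ1 : lam n * lam (MulAut.conjNormal (p : G) n) = 1 := by
          have h := (hTmem _).1 hpz (MulAut.conjNormal z n)
          rw [← MulAut.mul_apply, ← map_mul, mul_assoc, hz2, mul_one, hconj_z, map_inv] at h
          rw [h, mul_inv_cancel]
        have hb : β.1 ⟨(p : G) * p, hpp⟩ = 1 := by
          have hw : (p : G) * z ∈ T ⊓ P := ⟨hpz, P.mul_mem p.2 hzP⟩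
          have : (⟨(p : G) * p, hpp⟩ : ↥(T ⊓ P)) = ⟨_, hw⟩ * ⟨_, hw⟩ := Subtype.ext (by
            show (p : G) * p = (p : G) * z * ((p : G) * z)
            rw [show (p : G) * z * ((p : G) * z) = (p : G) * p * (z * z) by
              rw [← mul_assoc, mul_assoc (p : G) z p, ← hzc p p.2]; group, hz2, mul_one])
          rw [this, map_mul, β.2]
        have hmul : (⟨_, (hmem n).2 hpp.1⟩ : T) =
            (⟨((n * MulAut.conjNormal (p : G) n : N) : G), hNT (Subtype.coe_prop _)⟩ : T) *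
              ⟨(p : G) * p, hpp.1⟩ := Subtype.ext (hsq n)
        show ((η _ : ℂˣ) : ℂ) = 1
        rw [hmul, map_mul, hηN, hηP _ hpp, hb, map_mul, hμ1, one_mul, Units.val_one]
      rw [Finset.sum_congr rfl fun n _ => hterm n, if_pos hpz, Finset.sum_const, Finset.card_univ,
        nsmul_eq_mul, mul_one, Nat.card_eq_fintype_card]
    · rw [if_neg hpz]
      by_cases hpp : (p : G) * p ∈ T
      · have hterm : ∀ n : N, Cfsg.extendByZero T η' (e (n, p) * e (n, p)) =
            μ n * (η ⟨(p : G) * p, hpp⟩ : ℂ) := by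
          intro n
          rw [CharInduce.extendByZero_of_mem _ ((hmem n).2 hpp)]
          have hmul : (⟨_, (hmem n).2 hpp⟩ : T) =
              (⟨((n * MulAut.conjNormal (p : G) n : N) : G), hNT (Subtype.coe_prop _)⟩ : T) *
                ⟨(p : G) * p, hpp⟩ := Subtype.ext (hsq n)
          show ((η _ : ℂˣ) : ℂ) = _
          rw [hmul, map_mul, hηN, Units.val_mul, map_mul]
          rfl
        rw [Finset.sum_congr rfl fun n _ => hterm n, ← Finset.sum_mul,
          sum_hom_units_eq_zero μ, zero_mul]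
        intro h
        refine hpz ((hTmem _).2 fun n => ?_)
        have h1 : lam (MulAut.conjNormal z n) * lam (MulAut.conjNormal (p : G)
            (MulAut.conjNormal z n)) = 1 := Units.ext (DFunLike.congr_fun h _)
        rw [← MulAut.mul_apply, ← map_mul MulAut.conjNormal, hconj_z, map_inv] at h1
        exact (inv_mul_eq_one.1 h1).symm
      · exact Finset.sum_eq_zero fun n _ =>
          CharInduce.extendByZero_of_not_mem _ fun h => hpp ((hmem n).1 h)
  rw [Finset.sum_congr rfl fun p _ => hinner p, Finset.sum_ite, Finset.sum_const_zero, add_zero,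
    Finset.sum_const, nsmul_eq_mul, ← Nat.cast_mul, Nat.cast_inj]
  rw [Nat.card_eq_fintype_card (α := T), ← Fintype.card_subtype, mul_comm,
    Nat.card_eq_fintype_card, ← Fintype.card_prod]
  refine Fintype.card_congr
    { toFun := fun x => ⟨(x.1 : G) * ((x.2.1 : G) * z), T.mul_mem (hNT x.1.2) x.2.2⟩
      invFun := fun t => (⟨(t : G) * (π t)⁻¹, hπN t⟩,
        ⟨⟨π (t : G) * z, P.mul_mem (hπP _) hzP⟩, by
          show π (t : G) * z * z ∈ T
          rw [mul_assoc, hz2, mul_one]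
          exact (hπT t t.2).1⟩)
      left_inv := fun x => by
        have := hπval x.1 x.1.2 ((x.2.1 : G) * z) (P.mul_mem x.2.1.2 hzP)
        ext <;> simp [this, mul_assoc, hz2]
      right_inv := fun t => Subtype.ext (by simp [mul_assoc, hz2]) }

end Cfsg.Agent.H85
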