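import Cfsg.Agent.H82.PrincipalBlock
import Cfsg.Agent.H85.StrongReal
import Cfsg.Agent.H86.BlockInflation
import Cfsg.Agent.BlockBasic.Brauer
import Cfsg.Agent.Cores.Constrained
import Cfsg.Agent.S0081

/-!
# Characters of degree prime to `p` in the principal block of a `p`-solvable group
-/

set_option linter.unusedSectionVars false

open scoped Classical ComplexConjugate

namespace Cfsg.Agent.H85

open Cfsg.Agent.CharBasic

variable {G : Type*} [Group G] [Fintype G] {p : ℕ} [Fact p.Prime] {M : Ideal Cfsg.AlgInt}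

/-- A normal `p`-subgroup containing its centralizer leaves only the principal block. -/
theorem mem_principalBlock_of_centralizer_le {G : Type*} [Group G] [Fintype G]
    (hM : Cfsg.IsPModular p M) (U : Subgroup G) [U.Normal] (hU : IsPGroup p U)
    (hC : Subgroup.centralizer (U : Set G) ≤ U) (χ : Cfsg.IrrCharacter G) :
    χ ∈ Cfsg.principalBlock M G := by
  obtain ⟨ψ, hψ, htriv⟩ := H86.exists_trivial_on hM (BlockBasic.isPBlock_blockOf M χ) U hU
  have h1 : Cfsg.SameBlock M (fun _ : G => (1 : ℂ)) (ψ : G → ℂ) := by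
    intro g
    by_cases hg : g ∈ Subgroup.centralizer (U : Set G)
    · have : Cfsg.centralChar (ψ : G → ℂ) g = Cfsg.centralChar (fun _ : G => (1 : ℂ)) g := by
        simp only [Cfsg.centralChar]
        rw [htriv g (hC hg), mul_div_assoc, div_self (IsIrr.one_ne_zero ψ.2)]
        simp
      rw [this, sub_self]
      exact BlockBasic.memLocalIdeal_zero hM
    · exact BlockBasic.memLocalIdeal_sub hM
        (BlockBasic.centralChar_mem_of_not_centralizer hM U hU
          ⟨fun _ => 1, BlockBasic.isIrrCharacter_trivial⟩ hg)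
        (BlockBasic.centralChar_mem_of_not_centralizer hM U hU ψ hg)
  exact BlockBasic.sameBlock_trans hM h1 (BlockBasic.sameBlock_symm hψ)

/-- Characters trivial on the `p'`-core of a `p`-solvable group lie in the principal block. -/
theorem mem_principalBlock_of_trivial_on_core (hM : Cfsg.IsPModular p M)
    (hps : Cfsg.IsPSolvable p G) (χ : Cfsg.IrrCharacter G)
    (hχ : ∀ n ∈ Cfsg.pPrimeCore p G, (χ : G → ℂ) n = (χ : G → ℂ) 1) :
    χ ∈ Cfsg.principalBlock M G := by
  set N := Cfsg.pPrimeCore p G with hN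
  haveI : N.Normal := Subgroup.sSup_normal _ fun _ h => h.1
  obtain ⟨ψ, -, hψ, hψi⟩ := CharInduce.IsChar.exists_deflate (IsIrr.isCharacter χ.2) N hχ
  haveI : Fintype (G ⧸ N) := Fintype.ofFinite _
  haveI : (Cfsg.pCore p (G ⧸ N)).Normal := Subgroup.sSup_normal _ fun _ h => h.1
  have hmem := mem_principalBlock_of_centralizer_le hM (Cfsg.pCore p (G ⧸ N)) Cores.pCore_isPGroup
    (Cores.centralizer_pCore_le (Cores.isPSolvable_quotient hps N) Cores.pPrimeCore_quotient_pPrimeCore)
    ⟨ψ, hψi χ.2⟩
  intro g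
  obtain ⟨n, hn1, hn2⟩ := H86.centralChar_inflate N ψ g
  have hχeq : (χ : G → ℂ) = ψ ∘ QuotientGroup.mk := funext hψ
  have h := BlockBasic.memLocalIdeal_mul hM (BlockBasic.memLocalRing_natCast hM n) (hmem (g : G ⧸ N))
  rw [hχeq, hn1]
  convert h using 1
  rw [H82.centralChar_const_one, H82.centralChar_const_one, hn2, Nat.cast_mul]
  ring

/-- Every linear character of a Sylow subgroup lies under a `p'`-degree principal block
character. -/
theorem exists_block_constituent (hM : Cfsg.IsPModular p M) (hps : Cfsg.IsPSolvable p G)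
    (P : Sylow p G) (μ : ↥(P : Subgroup G) →* ℂˣ) :
    ∃ χ : Cfsg.IrrCharacter G, χ ∈ Cfsg.principalBlock M G ∧
      ¬ p ∣ Cfsg.charDegree (χ : G → ℂ) ∧
      ∀ x : (P : Subgroup G), (χ : G → ℂ) x = (χ : G → ℂ) 1 → μ x = 1 := by
  set N := Cfsg.pPrimeCore p G with hN
  haveI : N.Normal := Subgroup.sSup_normal _ fun _ h => h.1
  set H := N ⊔ (P : Subgroup G) with hH
  have hdisj : N ⊓ (P : Subgroup G) = ⊥ :=
    (inf_comm _ _).trans (Cores.disjoint_of_isPGroup_of_coprime P.isPGroup'
      Cores.coprime_card_pPrimeCore)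
  obtain ⟨π, hπP, -, hπval⟩ := exists_proj (N.subgroupOf H) ((P : Subgroup G).subgroupOf H) (by
      rw [Subgroup.subgroupOf, Subgroup.subgroupOf, ← Subgroup.comap_inf]; simp [hdisj]) (by
      rw [← Subgroup.subgroupOf_sup le_sup_left le_sup_right, Subgroup.subgroupOf_self])
  let τ : H →* ↥(P : Subgroup G) := MonoidHom.mk' (fun d => ⟨((π d : H) : G), hπP d⟩)
    fun a b => Subtype.ext (by simp)
  set η := μ.comp τ with hη
  have hηN : ∀ (n : G) (hn : n ∈ N), η ⟨n, Subgroup.mem_sup_left hn⟩ = 1 := fun n hn => by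
    have h1 : π ⟨n, Subgroup.mem_sup_left hn⟩ = 1 := by
      simpa using hπval _ (show (⟨n, Subgroup.mem_sup_left hn⟩ : H) ∈ N.subgroupOf H from hn) 1
        (Subgroup.one_mem _)
    rw [hη, MonoidHom.comp_apply, show τ ⟨n, Subgroup.mem_sup_left hn⟩ = 1 from
      Subtype.ext (by show ((π _ : H) : G) = 1; rw [h1]; rfl), map_one]
  have hηP : ∀ (x : G) (hx : x ∈ (P : Subgroup G)), η ⟨x, Subgroup.mem_sup_right hx⟩ = μ ⟨x, hx⟩ :=
    fun x hx => by
      have h1 : π ⟨x, Subgroup.mem_sup_right hx⟩ = ⟨x, Subgroup.mem_sup_right hx⟩ := by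
        simpa using hπval 1 (Subgroup.one_mem _) _
          (show (⟨x, Subgroup.mem_sup_right hx⟩ : H) ∈ (P : Subgroup G).subgroupOf H from hx)
      rw [hη, MonoidHom.comp_apply, show τ ⟨x, Subgroup.mem_sup_right hx⟩ = ⟨x, hx⟩ from
        Subtype.ext (by show ((π _ : H) : G) = x; rw [h1])]
  set ηc : H → ℂ := fun d => (η d : ℂ) with hηc
  have hηirr : Cfsg.IsIrrCharacter H ηc := CharInduce.isIrrCharacter_hom η
  set θ := Cfsg.indFun H ηc with hθ
  have hθc : Cfsg.IsCharacter G θ := CharInduce.IsChar.ind H (IsIrr.isCharacter hηirr)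
  choose c hc using fun χ : Cfsg.IrrCharacter G =>
    classInner_isChar_nat hθc (IsIrr.isCharacter χ.2)
  have hexp := congrFun (classFunction_expansion (IsChar.isClassFunction hθc)) 1
  simp only [Finset.sum_apply, Pi.smul_apply, smul_eq_mul, hc,
    BlockBasic.apply_one_eq_charDegree] at hexp
  rw [hθ, CharInduce.indFun_one, show ηc 1 = 1 by simp [hηc], mul_one] at hexp
  have hexp' : H.index = ∑ χ : Cfsg.IrrCharacter G, c χ * Cfsg.charDegree (χ : G → ℂ) := by
    exact_mod_cast hexp
  have hidx : ¬ p ∣ H.index := fun h =>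
    P.not_dvd_index (h.trans (Subgroup.index_dvd_of_le le_sup_right))
  obtain ⟨χ, hχ⟩ : ∃ χ, ¬ p ∣ c χ * Cfsg.charDegree (χ : G → ℂ) := by
    by_contra hcon
    push Not at hcon
    exact hidx (hexp' ▸ Finset.dvd_sum fun χ _ => hcon χ)
  have hc0 : Cfsg.classInner ηc (fun d : H => (χ : G → ℂ) d) ≠ 0 := by
    rw [← CharInduce.classInner_indFun_left H _ _ (IsIrr.isClassFunction χ.2), ← hθ, hc]
    exact_mod_cast fun h : c χ = 0 => hχ (by simp [h])
  obtain ⟨r, hr, hsum⟩ := CharInduce.IsChar.exists_eq_add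
    (CharInduce.IsChar.res (IsIrr.isCharacter χ.2) H) hηirr (classInner_ne_zero_symm hc0)
  haveI : Fintype N := Fintype.ofFinite N
  have htriv : ∀ n ∈ N, (χ : G → ℂ) n = (χ : G → ℂ) 1 := by
    refine H86.trivial_of_sum_ne_zero N χ.2 ?_
    have hNH : N ≤ H := le_sup_left
    obtain ⟨a, ha⟩ := classInner_isChar_nat (CharInduce.IsChar.comp hr (Subgroup.inclusion hNH))
      (CharInduce.IsChar.one (G := N))
    have e : Cfsg.classInner (fun n : N => (χ : G → ℂ) n) (fun _ => 1) = 1 + (a : ℂ) := by
      have e1 : (fun n : N => (χ : G → ℂ) n) =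
          (fun _ : N => (1 : ℂ)) + fun n => r (Subgroup.inclusion hNH n) := by
        funext n
        have := congrFun hsum (Subgroup.inclusion hNH n)
        rw [Pi.add_apply, Subgroup.coe_inclusion] at this
        rw [this, Pi.add_apply]
        congr 1
        show ((η _ : ℂˣ) : ℂ) = 1
        rw [show η (Subgroup.inclusion hNH n) = 1 from hηN n n.2, Units.val_one]
      rw [e1, classInner_add_left, ha, classInner_irr_self isIrrCharacter_one]
    intro h0
    simp only [classInner_def, map_one, mul_one, h0, mul_zero] at e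
    have : (0 : ℕ) = 1 + a := by exact_mod_cast e
    omega
  refine ⟨χ, mem_principalBlock_of_trivial_on_core hM hps χ htriv,
    fun h => hχ (Dvd.dvd.mul_left h _), fun x hx => ?_⟩
  obtain ⟨d, hd⟩ := IsChar.exists_degree hr
  have h1 := congrFun hsum ⟨x, Subgroup.mem_sup_right x.2⟩
  have h2 := congrFun hsum 1
  simp only [Pi.add_apply, Subgroup.coe_one] at h1 h2
  rw [hx, h2, show ηc 1 = 1 by simp [hηc],
    show ηc ⟨x, Subgroup.mem_sup_right x.2⟩ = (μ x : ℂ) from congrArg Units.val (hηP x x.2)] at h1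
  have hn := IsChar.norm_le hr ⟨x, Subgroup.mem_sup_right x.2⟩
  have hre := congrArg Complex.re h1
  rw [hd, Complex.add_re, Complex.add_re, Complex.one_re, Complex.natCast_re] at hre
  rw [hd] at hn
  simp only [Complex.norm_natCast, Complex.natCast_re] at hn
  have h3 := Complex.re_le_norm (r ⟨x, Subgroup.mem_sup_right x.2⟩)
  have h4 := Complex.re_le_norm (μ x : ℂ)
  rw [CharInduce.norm_hom] at h4
  have h5 : (μ x : ℂ).re = ‖(μ x : ℂ)‖ := by rw [CharInduce.norm_hom]; linarith
  refine Units.ext ?_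
  rw [Complex.re_eq_norm] at h5
  obtain ⟨hnn, him⟩ := Complex.nonneg_iff.1 h5
  apply Complex.ext
  · have := Complex.re_eq_norm.2 h5
    rw [CharInduce.norm_hom] at this
    simpa using this
  · simpa using him.symm

/-- A normal subgroup meeting a Sylow subgroup inside its derived group is `p`-nilpotent, hence an
contained in any normal subgroup containing the `p'`-core and that intersection. -/
theorem le_of_inf_le (P : Sylow p G) (W X : Subgroup G) [W.Normal] [X.Normal]
    (hW : W ⊓ (P : Subgroup G) ≤ ⁅(P : Subgroup G), (P : Subgroup G)⁆)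
    (hXc : Cfsg.pPrimeCore p G ≤ X) (hX : W ⊓ (P : Subgroup G) ≤ X) :
    W ≤ X := by
  have hP : HasNormalPComplement p W := by
    refine S0081.result P W (hW.trans ?_)
    have h := Subgroup.map_mono (f := (P : Subgroup G).subtype)
      (PGroups.commutator_le_frattini P.isPGroup')
    rwa [map_commutator_eq, Subgroup.range_subtype] at h
  set K := Cfsg.pResidual p W with hK
  have hKc : K.map W.subtype ≤ Cfsg.pPrimeCore p G := by
    haveI : (K.map W.subtype).Normal := by
      haveI : K.Characteristic := by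
        rw [hK]; infer_instance
      infer_instance
    refine Cores.le_pPrimeCore ?_
    rw [Subgroup.card_map_of_injective W.subtype_injective]
    exact ((Fact.out : p.Prime).coprime_iff_not_dvd.2
      (Fusion.hasNormalPComplement_iff_pResidual.1 hP)).symm
  intro w hw
  obtain ⟨S⟩ : Nonempty (Sylow p W) := inferInstance
  have hmem : (⟨w, hw⟩ : W) ∈ K ⊔ (S : Subgroup W) :=
    (Fusion.isComplement'_pResidual hP S).sup_eq_top ▸ Subgroup.mem_top _
  have hSX : (S : Subgroup W).map W.subtype ≤ X := by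
    obtain ⟨Q, hQ⟩ := (S.isPGroup'.map W.subtype).exists_le_sylow
    obtain ⟨g, hg⟩ := MulAction.exists_smul_eq G P Q
    intro x hx
    have hxQ := hQ hx
    rw [← hg, Sylow.coe_subgroup_smul, Subgroup.mem_pointwise_smul_iff_inv_smul_mem] at hxQ
    have hxW : x ∈ W := Subgroup.map_subtype_le _ hx
    have hxP : g⁻¹ * x * g ∈ (P : Subgroup G) := by simpa using hxQ
    have h1 := hX ⟨by simpa using Subgroup.Normal.conj_mem (inferInstance : W.Normal) x hxW g⁻¹, hxP⟩
    simpa [mul_assoc] using Subgroup.Normal.conj_mem (inferInstance : X.Normal) _ h1 g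
  have := Subgroup.mem_map_of_mem W.subtype hmem
  rw [Subgroup.map_sup] at this
  exact sup_le (hKc.trans hXc) hSX this

end Cfsg.Agent.H85
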