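import Cfsg.Agent.H85.GlaubermanNorm
import Cfsg.Agent.H59.ThompsonComplement

/-!
Glauberman's theorem on central elements fixed by the normalizer of the Thompson subgroup, for `p` odd and
for `p`-th powers: the one-step replacement and the two norm arguments.
-/

set_option autoImplicit false
set_option linter.style.haveILetI false

namespace Cfsg.Agent.H85

open Subgroup
open scoped Pointwise

universe u

variable {G : Type u} [Group G] [Finite G] {p : ℕ} [Fact p.Prime]

omit [Finite G] in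
theorem isMulCommutative_of_le {V W : Subgroup G} (hV : IsMulCommutative V) (h : W ≤ V) :
    IsMulCommutative W :=
  ⟨⟨fun u v => Subtype.ext (show (u : G) * v = v * u from
    congrArg (fun z : V => (z : G)) (hV.is_comm.comm (⟨u, h u.2⟩ : V) ⟨v, h v.2⟩))⟩⟩

/-- `A` is an abelian subgroup of `T` of largest order. -/
def IsMaxAbelianIn (T A : Subgroup G) : Prop :=
  A ≤ T ∧ IsMulCommutative A ∧ ∀ B : Subgroup G, B ≤ T → IsMulCommutative B → Nat.card B ≤ Nat.card A

omit [Finite G] in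
theorem IsMaxAbelianIn.commute {T A : Subgroup G} (h : IsMaxAbelianIn T A) {x y : G} (hx : x ∈ A)
    (hy : y ∈ A) : Commute x y :=
  congrArg Subtype.val (h.2.1.is_comm.comm (⟨x, hx⟩ : A) ⟨y, hy⟩)

omit [Finite G] in
theorem exists_maxAbelian_not_le {T W : Subgroup G} (h : ¬ thompsonSubgroupAOf T ≤ W) :
    ∃ A, IsMaxAbelianIn T A ∧ ¬ A ≤ W := by
  by_contra hcon
  push Not at hcon
  refine h (map_le_iff_le_comap.mpr (sSup_le fun A hA => map_le_iff_le_comap.mp ?_))
  refine hcon _ ⟨map_subtype_le A, H59.isMulCommutative_map _ hA.1, fun B hBT hB => ?_⟩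
  rw [card_map_of_injective (subtype_injective _),
    ← Nat.card_congr (subgroupOfEquivOfLe hBT).toEquiv]
  exact hA.2 _ ⟨⟨fun x y => Subtype.ext (Subtype.ext (congrArg (fun z : B => (z : G))
    (hB.is_comm.comm (⟨((x : T) : G), x.2⟩ : B) ⟨((y : T) : G), y.2⟩)))⟩⟩

theorem mem_normalizer_thompson_of_conj {T : Subgroup G} {g : G}
    (h : ∀ k ∈ thompsonSubgroupAOf T, g⁻¹ * k * g ∈ T) :
    g ∈ normalizer (thompsonSubgroupAOf T : Set G) := by
  set J := thompsonSubgroupAOf T
  have hle : J ≤ J.comap (MulAut.conj g⁻¹).toMonoidHom := by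
    by_contra hcon
    obtain ⟨A, hA, hAW⟩ := exists_maxAbelian_not_le hcon
    refine hAW fun a ha => ?_
    have hAJ : A ≤ J := H59.le_thompsonAOf hA.1 hA.2.1 hA.2.2
    refine H59.le_thompsonAOf (A := A.map (MulAut.conj g⁻¹).toMonoidHom) ?_ (H59.isMulCommutative_map _ hA.2.1)
      ?_ (mem_map_of_mem _ ha)
    · rintro _ ⟨b, hb, rfl⟩
      simpa using h b (hAJ hb)
    · intro B hB hBc
      rw [card_map_of_injective (MulAut.conj g⁻¹).injective]
      exact hA.2.2 B hB hBc
  have : g⁻¹ ∈ normalizer (J : Set G) :=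
    H59.mem_normalizer_of_forall fun u hu => by simpa using hle hu
  simpa using inv_mem this

omit [Fact p.Prime] [Finite G] in
/-- The elements of an abelian normal subgroup with central `n`-th power. -/
theorem pow_mem_center_of_normalClosure {V : Subgroup G} [V.Normal] (hV : IsMulCommutative V) {y : G}
    (hy : y ∈ V) {n : ℕ} (hyn : y ^ n ∈ center G) {v : G} (hv : v ∈ normalClosure ({y} : Set G)) :
    v ∈ V ∧ v ^ n ∈ center G := by
  let W : Subgroup G :=
    { carrier := {v | v ∈ V ∧ v ^ n ∈ center G}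
      one_mem' := ⟨one_mem _, by rw [one_pow]; exact one_mem _⟩
      mul_mem' := fun {a b} ha hb => ⟨mul_mem ha.1 hb.1, by
        rw [(show Commute a b from congrArg Subtype.val
          (hV.is_comm.comm (⟨a, ha.1⟩ : V) ⟨b, hb.1⟩)).mul_pow]
        exact mul_mem ha.2 hb.2⟩
      inv_mem' := fun {a} ha => ⟨inv_mem ha.1, by rw [inv_pow]; exact inv_mem ha.2⟩ }
  haveI : W.Normal := ⟨fun a ha g => ⟨Normal.conj_mem ‹_› a ha.1 g, by
    rw [conj_pow]
    exact (inferInstance : (center G).Normal).conj_mem _ ha.2 g⟩⟩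
  exact normalClosure_le_normal (Set.singleton_subset_iff.mpr (show y ∈ W from ⟨hy, hyn⟩)) hv

/-- The replacement step: an element fixed by a large part of `A` is moved quadratically by `A`. -/
theorem commute_of_replacement {T A A0 : Subgroup G} (hT : IsPGroup p T) (hA : IsMaxAbelianIn T A)
    (hA0 : A0 ≤ A) (hA0i : Nat.card A ≤ p * Nat.card A0) {a w : G} (ha : a ∈ A) (hap : a ^ p ∈ A0)
    (hwT : w ∈ T) (hw : ∀ x ∈ A0, Commute x w) (hwc : Commute w (a * w * a⁻¹ * w⁻¹)) :
    Commute a (a * w * a⁻¹ * w⁻¹) ∧ (a * w * a⁻¹ * w⁻¹) ^ p = 1 := by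
  classical
  set c := a * w * a⁻¹ * w⁻¹ with hc
  have hacw : a * w * a⁻¹ = c * w := by rw [hc]; group
  by_cases hwA : w ∈ A
  · have h1 : c = 1 := by
      rw [hc, (hA.commute ha hwA).eq]; group
    exact ⟨h1 ▸ Commute.one_right _, by rw [h1, one_pow]⟩
  have hwA0 : w ∉ A0 := fun h => hwA (hA0 h)
  have haA0 : ∀ x ∈ A0, Commute x (a * w * a⁻¹) := fun x hx =>
    (((hA.commute (hA0 hx) ha).mul_right (hw x hx)).mul_right (hA.commute (hA0 hx) ha).inv_right)
  have hcA0 : ∀ x ∈ A0, Commute x c := fun x hx => (haA0 x hx).mul_right (hw x hx).inv_right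
  -- the abelian group generated by `A0`, `w` and `c`
  set D := closure ((A0 : Set G) ∪ {w, c}) with hD
  have hcomm : ∀ x ∈ (A0 : Set G) ∪ {w, c}, ∀ y ∈ (A0 : Set G) ∪ {w, c}, x * y = y * x := by
    rintro x (hx | rfl | rfl) y (hy | rfl | rfl)
    · exact hA.commute (hA0 hx) (hA0 hy)
    · exact hw x hx
    · exact hcA0 x hx
    · exact (hw y hy).symm
    · rfl
    · exact hwc
    · exact (hcA0 y hy).symm
    · exact hwc.symm
    · rfl
  have hDc : IsMulCommutative D := by
    have h2 : D ≤ centralizer (D : Set G) := by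
      rw [hD, centralizer_closure, closure_le]
      exact fun x hx => mem_centralizer_iff.mpr fun y hy => hcomm y hy x hx
    exact ⟨⟨fun u v => Subtype.ext (mem_centralizer_iff.mp (h2 v.2) _ u.2)⟩⟩
  have hcT : c ∈ T :=
    mul_mem (mul_mem (mul_mem (hA.1 ha) hwT) (inv_mem (hA.1 ha))) (inv_mem hwT)
  have hDT : D ≤ T := (closure_le _).mpr (by
    rintro x (hx | rfl | rfl)
    · exact hA.1 (hA0 hx)
    · exact hwT
    · exact hcT)
  set D2 := A0 ⊔ zpowers w with hD2
  have hD2D : D2 ≤ D := sup_le (fun x hx => subset_closure (Or.inl hx))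
    (by rw [zpowers_le]; exact subset_closure (Or.inr (Or.inl rfl)))
  have hA0D2 : A0 < D2 := lt_of_le_of_ne le_sup_left fun h =>
    hwA0 (h.symm ▸ mem_sup_right (mem_zpowers w) : w ∈ A0)
  have hcard2 : p * Nat.card A0 ≤ Nat.card D2 := by
    have hp2 : IsPGroup p D2 := hT.to_le (hD2D.trans hDT)
    obtain ⟨k, hk⟩ := IsPGroup.iff_card.mp hp2
    obtain ⟨l, hl⟩ := IsPGroup.iff_card.mp (hp2.to_le le_sup_left : IsPGroup p A0)
    have hlt : Nat.card A0 < Nat.card D2 := lt_of_le_of_ne (card_le_of_le hA0D2.le)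
      fun h => hA0D2.ne (eq_of_le_of_card_ge hA0D2.le h.ge)
    rw [hk, hl] at hlt ⊢
    have := (Nat.pow_lt_pow_iff_right (Fact.out : p.Prime).one_lt).mp hlt
    rw [← pow_succ']
    exact Nat.pow_le_pow_right (Fact.out : p.Prime).pos this
  have hDmax : Nat.card D ≤ Nat.card A := hA.2.2 D hDT hDc
  have hDeq : D2 = D := eq_of_le_of_card_ge hD2D (hDmax.trans (hA0i.trans hcard2))
  have hD2card : Nat.card D2 ≤ p * Nat.card A0 := by rw [hDeq]; exact hDmax.trans hA0i
  have hA0n : (A0.subgroupOf D2).Normal := ⟨fun x hx g => by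
    have : g * x * g⁻¹ = x := by
      have h1 : (g : G) * (x : G) = (x : G) * (g : G) :=
        congrArg Subtype.val (hDc.is_comm.comm (⟨g, hD2D g.2⟩ : D) ⟨x, hD2D x.2⟩)
      exact Subtype.ext (mul_inv_eq_iff_eq_mul.mpr h1)
    rwa [this]⟩
  have hidx : (A0.subgroupOf D2).index = p := by
    have h1 := (A0.subgroupOf D2).card_mul_index
    rw [Nat.card_congr (subgroupOfEquivOfLe hA0D2.le).toEquiv,
      le_antisymm hD2card hcard2] at h1
    exact Nat.eq_of_mul_eq_mul_left Nat.card_pos (h1.trans (mul_comm _ _))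
  have hwp : w ^ p ∈ A0 := by
    have := (A0.subgroupOf D2).pow_index_mem ⟨w, mem_sup_right (mem_zpowers w)⟩
    rwa [hidx] at this
  have hdvd : ∀ n : ℤ, w ^ n ∈ A0 → (p : ℤ) ∣ n := by
    intro n hn
    by_contra hnd
    obtain ⟨u, v, huv⟩ := ((Nat.prime_iff_prime_int.mp (Fact.out : p.Prime)).coprime_iff_not_dvd.mpr hnd)
    refine hwA0 ?_
    have h1 : w ^ (u * (p : ℤ) + v * n) ∈ A0 := by
      rw [zpow_add, mul_comm u, mul_comm v, zpow_mul, zpow_mul, zpow_natCast]
      exact mul_mem (zpow_mem hwp u) (zpow_mem hn v)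
    rwa [huv, zpow_one] at h1
  obtain ⟨i, hi⟩ : ∃ i : ℤ, c * w ^ (-i) ∈ A0 := by
    have hcD : c ∈ (A0 : Set G) * (zpowers w : Set G) := by
      rw [← coe_mul_of_right_le_normalizer_left A0 (zpowers w)]
      · exact hDeq.ge (subset_closure (Or.inr (Or.inr rfl)))
      · rw [zpowers_le]
        refine mem_normalizer_iff.mpr fun x => ⟨fun hx => ?_, fun hx => ?_⟩
        · rwa [← (hw x hx).eq, mul_inv_cancel_right]
        · have := hw _ hx
          have h2 : w * x * w⁻¹ = x := by
            have h3 : w * x * w⁻¹ * w = w * (w * x * w⁻¹) := this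
            rw [inv_mul_cancel_right] at h3
            exact (mul_left_cancel h3).symm
          rwa [h2] at hx
    obtain ⟨x, hx, z, ⟨i, rfl⟩, he⟩ := Set.mem_mul.mp hcD
    refine ⟨i, ?_⟩
    rw [← he, zpow_neg, mul_inv_cancel_right]
    exact hx
  -- conjugation by `a` on the cyclic group `D2 / A0`
  have hconj : ∀ x ∈ A0, ∀ k : ℕ, a ^ k * x * (a ^ k)⁻¹ = x := fun x hx k => by
    rw [((hA.commute ha (hA0 hx)).pow_left k).eq, mul_inv_cancel_right]
  have hiter : ∀ k : ℕ, a ^ k * w * (a ^ k)⁻¹ * w ^ (-((1 + i) ^ k)) ∈ A0 := by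
    intro k
    induction k with
    | zero => simp [zpow_neg]
    | succ k ih =>
      set m := (1 + i) ^ k with hm
      set x0 := c * w ^ (-i) with hx0
      set xk := a ^ k * w * (a ^ k)⁻¹ * w ^ (-m) with hxk
      have h1 : a * w * a⁻¹ = x0 * w ^ (1 + i) := by
        rw [hacw, hx0, zpow_neg, zpow_add, zpow_one]
        have h2 : Commute w (w ^ i) := Commute.self_zpow w i
        rw [h2.eq, ← mul_assoc, inv_mul_cancel_right c (w ^ i)]
      have h3 : a ^ (k + 1) * w * (a ^ (k + 1))⁻¹ = xk * (x0 * w ^ (1 + i)) ^ m := by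
        rw [← h1, conj_zpow, pow_succ']
        have h4 : a ^ k * w * (a ^ k)⁻¹ = xk * w ^ m := by rw [hxk, zpow_neg, inv_mul_cancel_right]
        calc a * a ^ k * w * (a * a ^ k)⁻¹ = a * (a ^ k * w * (a ^ k)⁻¹) * a⁻¹ := by group
          _ = (a * xk * a⁻¹) * (a * w ^ m * a⁻¹) := by rw [h4]; group
          _ = xk * (a * w ^ m * a⁻¹) := by
            have := hconj xk ih 1
            rw [pow_one] at this
            rw [this]
      rw [h3, ((hw x0 hi).zpow_right (1 + i)).mul_zpow, ← zpow_mul, pow_succ,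
        show m * (1 + i) = (1 + i) * m from mul_comm _ _, zpow_neg, ← mul_assoc,
        mul_inv_cancel_right]
      exact mul_mem ih (zpow_mem hi m)
  have h1 : w ^ ((1 : ℤ) - (1 + i) ^ p) ∈ A0 := by
    have h2 := hiter p
    rw [((hw _ hap).eq), mul_inv_cancel_right, ← zpow_one_add, ← sub_eq_add_neg] at h2
    exact h2
  have hpi : (p : ℤ) ∣ i := by
    have h2 := hdvd _ h1
    rw [← ZMod.intCast_zmod_eq_zero_iff_dvd] at h2 ⊢
    push_cast at h2
    rw [ZMod.pow_card] at h2
    linear_combination -h2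
  have hcA : c ∈ A0 := by
    obtain ⟨j, hj⟩ := hpi
    have h2 : w ^ i ∈ A0 := by rw [hj, zpow_mul, zpow_natCast]; exact zpow_mem hwp j
    have := mul_mem hi h2
    rwa [zpow_neg, inv_mul_cancel_right] at this
  have hac : Commute a c := hA.commute ha (hA0 hcA)
  refine ⟨hac, ?_⟩
  have hpow : ∀ k : ℕ, a ^ k * w * (a ^ k)⁻¹ = c ^ k * w := by
    intro k
    induction k with
    | zero => simp
    | succ k ih =>
      calc a ^ (k + 1) * w * (a ^ (k + 1))⁻¹ = a * (a ^ k * w * (a ^ k)⁻¹) * a⁻¹ := by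
            rw [pow_succ']; group
        _ = (a * c ^ k) * w * a⁻¹ := by rw [ih]; group
        _ = c ^ k * (a * w * a⁻¹) := by rw [(hac.pow_right k).eq]; group
        _ = c ^ (k + 1) * w := by rw [hacw, pow_succ, mul_assoc (c ^ k)]
  have h2 := hpow p
  rw [(hw _ hap).eq, mul_inv_cancel_right] at h2
  exact mul_eq_right.mp h2.symm

/-- The step of the norm argument for `K = J(T)`. -/
theorem exists_quadratic_step (T : Sylow p G) (V : Subgroup G) (hV : IsMulCommutative V) [V.Normal]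
    (hVT : V ≤ T) (J0 : Subgroup ↥(thompsonSubgroupAOf (T : Subgroup G))) (hJ0 : J0.Normal)
    (hi : J0.index = p) {w : G} (hwV : w ∈ V) (hw : ∀ j ∈ J0, Commute (j : G) w) :
    ∃ a : ↥(thompsonSubgroupAOf (T : Subgroup G)), a ∉ J0 ∧ ∃ c ∈ V,
      Commute (a : G) c ∧ (a : G) * w * (a : G)⁻¹ = c * w ∧ Commute w c ∧ c ^ p = 1 := by
  haveI := hJ0
  obtain ⟨A, hA, hAJ0⟩ := exists_maxAbelian_not_le (T := (T : Subgroup G)) (W := J0.map (thompsonSubgroupAOf (T : Subgroup G)).subtype) (by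
    intro hle
    have h1 : J0 = ⊤ := eq_top_iff.mpr fun j _ => by
      obtain ⟨j', hj', e⟩ := hle j.2
      rwa [← Subtype.ext e]
    rw [h1, index_top] at hi
    exact (Fact.out : p.Prime).ne_one hi.symm)
  have hAJ : A ≤ (thompsonSubgroupAOf (T : Subgroup G)) := H59.le_thompsonAOf hA.1 hA.2.1 hA.2.2
  obtain ⟨a, haA, ha⟩ := SetLike.not_le_iff_exists.mp hAJ0
  set A0 := A ⊓ J0.map (thompsonSubgroupAOf (T : Subgroup G)).subtype with hA0
  have hA0i : Nat.card A ≤ p * Nat.card A0 := by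
    have h1 := card_mul_index (A0.subgroupOf A)
    rw [Nat.card_congr (subgroupOfEquivOfLe inf_le_left).toEquiv] at h1
    rw [← h1, mul_comm p]
    refine Nat.mul_le_mul_left _ ?_
    have h2 : (A0.subgroupOf A).index = J0.relIndex (A.subgroupOf (thompsonSubgroupAOf (T : Subgroup G))) := by
      rw [← relIndex, hA0, inf_relIndex_left]
      rw [← relIndex_map_map_of_injective (f := (thompsonSubgroupAOf (T : Subgroup G)).subtype) J0 _ (thompsonSubgroupAOf (T : Subgroup G)).subtype_injective,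
        map_subgroupOf_eq_of_le hAJ]
    rw [h2]
    exact (Nat.le_of_dvd (Nat.pos_of_ne_zero index_ne_zero_of_finite)
      (relIndex_dvd_index_of_normal J0 _)).trans hi.le
  have hap : a ^ p ∈ A0 := ⟨pow_mem haA p, (⟨a, hAJ haA⟩ : (thompsonSubgroupAOf (T : Subgroup G))) ^ p,
    by simpa [hi] using J0.pow_index_mem ⟨a, hAJ haA⟩, rfl⟩
  have hwA0 : ∀ x ∈ A0, Commute x w := by
    rintro x ⟨-, j, hj, rfl⟩
    exact hw j hj
  have hcV : a * w * a⁻¹ * w⁻¹ ∈ V := mul_mem (Normal.conj_mem ‹_› w hwV a) (inv_mem hwV)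
  have hwc : Commute w (a * w * a⁻¹ * w⁻¹) :=
    congrArg Subtype.val (hV.is_comm.comm (⟨w, hwV⟩ : V) ⟨_, hcV⟩)
  obtain ⟨h1, h2⟩ := commute_of_replacement T.isPGroup' hA inf_le_left hA0i haA hap (hVT hwV) hwA0 hwc
  exact ⟨⟨a, hAJ haA⟩, fun h => ha ⟨_, h, rfl⟩, _, hcV, h1, by group, hwc, h2⟩

/-- Glauberman's theorem for odd `p`. -/
theorem mem_center_glauberman_odd (hp : p ≠ 2) (T : Sylow p G) (V : Subgroup G) [V.Normal]
    (hV : IsMulCommutative V) (hVT : V ≤ T) {x : G} (hxV : x ∈ V)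
    (hx : ∀ t ∈ (T : Subgroup G), Commute t x)
    (hJ : ∀ g ∈ normalizer (thompsonSubgroupAOf (T : Subgroup G) : Set G), Commute g x) :
    x ∈ center G := by
  obtain ⟨n, hn⟩ := T.isPGroup' ⟨x, hVT hxV⟩
  replace hn : x ^ p ^ n = 1 := congrArg Subtype.val hn
  induction n generalizing x with
  | zero => rw [pow_zero, pow_one] at hn; exact hn ▸ one_mem _
  | succ n ih =>
    have hxp : x ^ p ∈ center G := ih (pow_mem hxV p) (fun t ht => (hx t ht).pow_right p)
      (fun g hg => (hJ g hg).pow_right p) (by rwa [← pow_mul, ← pow_succ'])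
    have hcl : normalClosure ({x} : Set G) ≤ V := normalClosure_le_normal (Set.singleton_subset_iff.mpr hxV)
    have hclc := isMulCommutative_of_le hV hcl
    have h := mem_center_of_norm T (thompsonSubgroupAOf (T : Subgroup G))
      (T.isPGroup'.to_le (H59.thompsonAOf_le _)) (normalClosure {x}) hclc x
      (subset_normalClosure rfl) (hVT hxV) hx 1
      (fun g hg => by rw [pow_one]; exact hJ g (mem_normalizer_thompson_of_conj hg))
      (fun J0 h0 hi w hwV hw => by
        obtain ⟨a, ha, c, hc, hac, hacw, -, hcp⟩ :=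
          exists_quadratic_step T _ hclc (hcl.trans hVT) J0 h0 hi hwV hw
        refine ⟨a, ha, c, hc, hac, hacw, ?_⟩
        obtain ⟨m, hm⟩ := (Fact.out : p.Prime).dvd_choose_self two_pos.ne'
          (lt_of_le_of_ne (Fact.out : p.Prime).two_le (Ne.symm hp))
        rw [pow_one, hm, pow_mul, hcp, one_pow, mul_one]
        exact (pow_mem_center_of_normalClosure hV hxV hxp hwV).2)
    rwa [pow_one] at h

/-- Glauberman's theorem for `p`-th powers of central elements. -/
theorem mem_center_glauberman_pow (T : Sylow p G) (V : Subgroup G) [V.Normal]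
    (hV : IsMulCommutative V) (hVT : V ≤ T) {z : G} (hzV : z ∈ V)
    (hz : ∀ t ∈ (T : Subgroup G), Commute t z)
    (hJ : ∀ g ∈ normalizer (thompsonSubgroupAOf (T : Subgroup G) : Set G), Commute g (z ^ p)) :
    z ^ p ∈ center G := by
  obtain ⟨n, hn⟩ := T.isPGroup' ⟨z, hVT hzV⟩
  replace hn : z ^ p ^ n = 1 := congrArg Subtype.val hn
  induction n generalizing z with
  | zero => rw [pow_zero, pow_one] at hn; rw [hn, one_pow]; exact one_mem _
  | succ n ih =>
    have hxp : z ^ (p * p) ∈ center G := by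
      rw [pow_mul]
      exact ih (pow_mem hzV p) (fun t ht => (hz t ht).pow_right p)
        (fun g hg => (hJ g hg).pow_right p) (by rwa [← pow_mul, ← pow_succ'])
    have hcl : normalClosure ({z} : Set G) ≤ V := normalClosure_le_normal (Set.singleton_subset_iff.mpr hzV)
    have hclc := isMulCommutative_of_le hV hcl
    refine mem_center_of_norm T (thompsonSubgroupAOf (T : Subgroup G))
      (T.isPGroup'.to_le (H59.thompsonAOf_le _)) (normalClosure {z}) hclc z
      (subset_normalClosure rfl) (hVT hzV) hz p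
      (fun g hg => hJ g (mem_normalizer_thompson_of_conj hg))
      (fun J0 h0 hi w hwV hw => ?_)
    obtain ⟨a, ha, c, hc, hac, hacw, hwc, hcp⟩ :=
      exists_quadratic_step T _ hclc (hcl.trans hVT) J0 h0 hi hwV hw
    refine ⟨a, ha, c, hc, hac, hacw, ?_⟩
    rw [(hwc.pow_pow _ _).mul_pow, ← pow_mul, ← pow_mul, mul_comm (p.choose 2), pow_mul c, hcp, one_pow,
      mul_one]
    exact (pow_mem_center_of_normalClosure hV hzV hxp hwV).2

end Cfsg.Agent.H85
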