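import Cfsg.Agent.H85.RealDegrees
import Cfsg.Agent.BlockBasic.Local
import Cfsg.Agent.CharInduce.Twist
import Mathlib.GroupTheory.GroupAction.Quotient
import Mathlib.RingTheory.Ideal.Quotient.Basic
import Mathlib.LinearAlgebra.FiniteDimensional.Basic

/-!
If all real irreducible characters have degree prime to `p`, every real class meets the normalizer of a Sylow
`p`-subgroup: the permutation modules on the classes and on the irreducible characters of a normal `p'`-subgroup
are isomorphic in characteristic `p`.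
-/

set_option autoImplicit false
set_option linter.style.haveILetI false
set_option linter.unusedSectionVars false

namespace Cfsg.Agent.H85

open Cfsg Subgroup Finset
open scoped ComplexConjugate

universe u

theorem sum_eq_zero_of_fixed_eq_zero {p : ℕ} [Fact p.Prime] {R A F : Type*} [Group R] [Fintype A]
    [MulAction R A] [CommRing F] (hpF : (p : F) = 0) (hR : IsPGroup p R) (h : A → F)
    (hinv : ∀ (r : R) a, h (r • a) = h a) (hfix : ∀ a, (∀ r : R, r • a = a) → h a = 0) :
    ∑ a, h a = 0 := by
  classical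
  rw [← Finset.sum_fiberwise univ (fun a : A => (Quotient.mk (MulAction.orbitRel R A) a))]
  refine Finset.sum_eq_zero fun q _ => ?_
  induction q using Quotient.inductionOn with
  | h a =>
    have hset : univ.filter (fun b : A => Quotient.mk (MulAction.orbitRel R A) b = Quotient.mk _ a) =
        (MulAction.orbit R a).toFinset := by
      ext b
      simp only [mem_filter, Finset.mem_univ, true_and, Quotient.eq, Set.mem_toFinset,
        MulAction.orbitRel_apply]
    rw [hset, Finset.sum_eq_card_nsmul (b := h a) fun b hb => by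
      obtain ⟨r, rfl⟩ := Set.mem_toFinset.mp hb
      exact hinv r a]
    obtain ⟨k, hk⟩ := hR.card_orbit a
    rw [Set.toFinset_card, ← Nat.card_eq_fintype_card, hk, nsmul_eq_mul]
    rcases k with _ | k
    · haveI := (Nat.card_eq_one_iff_unique.mp (by rw [hk, pow_zero] :
        Nat.card (MulAction.orbit R a) = 1)).1
      rw [hfix a fun r => congrArg Subtype.val (Subsingleton.elim
        (⟨r • a, MulAction.mem_orbit a r⟩ : MulAction.orbit R a) ⟨a, MulAction.mem_orbit_self a⟩), mul_zero]
    · rw [Nat.cast_pow, hpF, zero_pow k.succ_ne_zero, zero_mul]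

variable {p : ℕ} [Fact p.Prime] {G : Type u} [Group G] [Finite G]

theorem exists_sylow_le {C : Subgroup G} (hC : ¬ p ∣ C.index) :
    ∃ R : Sylow p G, (R : Subgroup G) ≤ C := by
  obtain ⟨R0⟩ := Sylow.nonempty (p := p) (G := C)
  have hi : ¬ p ∣ ((R0 : Subgroup C).map C.subtype).index := by
    rw [index_map_subtype]
    exact fun h => ((Fact.out : p.Prime).dvd_mul.mp h).elim R0.not_dvd_index hC
  exact ⟨(R0.isPGroup'.map C.subtype).toSylow hi, map_subtype_le _⟩

variable (K : Subgroup G) [K.Normal]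

/-- An element with image of odd order normalizes what its square normalizes. -/
theorem mem_of_sq_mem (hodd : Odd K.index) {S : Subgroup G} (hKS : K ≤ S) {g : G} (hg : g * g ∈ S) :
    g ∈ S := by
  obtain ⟨m, hm⟩ := hodd
  have h1 : g ^ (2 * m + 1) ∈ S := hKS (hm ▸ K.pow_index_mem g)
  have h2 : g ^ (2 * m) ∈ S := by rw [pow_mul, pow_two]; exact pow_mem hg m
  rw [pow_succ] at h1
  exact (Subgroup.mul_mem_cancel_left S h2).mp h1

/-- Over a real character of a normal subgroup of odd index lies a real character. -/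
theorem exists_real_above (hodd : Odd K.index) (θ : IrrCharacter K)
    (hθ : ∀ x, conj ((θ : K → ℂ) x) = (θ : K → ℂ) x) :
    ∃ χ : IrrCharacter G, (∀ g, ((χ : G → ℂ) g).im = 0) ∧
      (CharInduce.inertia K (θ : K → ℂ)).index ∣ charDegree (χ : G → ℂ) := by
  classical
  cases nonempty_fintype G
  haveI : Fintype K := Fintype.ofFinite _
  set f := indFun K (θ : K → ℂ) with hf
  have hfc : IsCharacter G f := CharInduce.IsChar.ind K (CharBasic.IsIrr.isCharacter θ.2)
  have hfcl := CharBasic.IsChar.isClassFunction hfc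
  set T := CharInduce.inertia K (θ : K → ℂ) with hT
  have hKT : K ≤ T := CharInduce.le_inertia K (CharBasic.IsIrr.isClassFunction θ.2)
  -- the norm of `f`
  have hres : classInner (fun n : K => f n) (θ : K → ℂ) = (K.relIndex T : ℂ) := by
    rw [hf, CharInduce.indFun_res_normal, CharBasic.classInner_smul_left, CharBasic.classInner_sum_left]
    simp only [CharBasic.classInner_irr (CharInduce.isIrrCharacter_conjFun K θ.2 _) θ.2, Finset.sum_boole]
    rw [show #(univ.filter fun x : G => CharInduce.conjFun K (θ : K → ℂ) x = (θ : K → ℂ)) = Nat.card T by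
        rw [Nat.card_eq_fintype_card, Fintype.card_subtype]
        congr 1
        ext x
        simp [hT, CharInduce.mem_inertia],
      ← (K.subgroupOf T).card_mul_index, Nat.card_congr (subgroupOfEquivOfLe hKT).toEquiv, Nat.cast_mul,
      inv_mul_cancel_left₀ (CharInduce.card_ne_zero_complex K)]
    rfl
  have hnorm : classInner f f = (K.relIndex T : ℂ) := by
    conv_lhs => arg 1; rw [hf]
    rw [CharInduce.classInner_indFun_left K (θ : K → ℂ) f hfcl, ← CharInduce.conj_classInner, hres,
      map_natCast]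
  have hoddT : Odd (K.relIndex T) := Odd.of_dvd_nat hodd (by
    rw [← relIndex_mul_index hKT]; exact dvd_mul_right _ _)
  choose c hc using fun χ : IrrCharacter G =>
    CharBasic.classInner_isChar_nat hfc (CharBasic.IsIrr.isCharacter χ.2)
  have hsum : ∑ χ : IrrCharacter G, c χ * c χ = K.relIndex T := by
    have h := hnorm
    conv_lhs at h => arg 1; rw [CharBasic.classFunction_expansion hfcl]
    rw [CharBasic.classInner_sum_left] at h
    simp only [CharBasic.classInner_smul_left] at h
    have h2 : ∀ χ : IrrCharacter G, classInner (χ : G → ℂ) f = (c χ : ℂ) := fun χ => by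
      rw [← CharInduce.conj_classInner, hc, map_natCast]
    simp only [h2, hc] at h
    exact_mod_cast h
  let bar : IrrCharacter G → IrrCharacter G := fun χ =>
    ⟨fun g => conj ((χ : G → ℂ) g), CharInduce.IsIrr.conj χ.2⟩
  have hfreal : ∀ g, conj (f g) = f g := fun g => by
    rw [hf, CharInduce.conj_indFun, show (fun x : K => conj ((θ : K → ℂ) x)) = (θ : K → ℂ) from funext hθ]
  have hcbar : ∀ χ, c (bar χ) = c χ := fun χ => by
    have h1 : classInner f (bar χ : G → ℂ) = conj (classInner f (χ : G → ℂ)) := by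
      simp only [bar, CharBasic.classInner_def, map_mul, map_inv₀, map_natCast, map_sum, hfreal]
    rw [hc, hc, map_natCast] at h1
    exact_mod_cast h1
  obtain ⟨χ, hχ, hχodd⟩ : ∃ χ, bar χ = χ ∧ Odd (c χ) := by
    by_contra hcon
    push Not at hcon
    have hz : ∑ χ : IrrCharacter G, ((c χ * c χ : ℕ) : ZMod 2) = 0 := by
      refine Finset.sum_involution (fun χ _ => bar χ) (fun χ _ => ?_) (fun χ _ hne he => hne ?_)
        (fun χ _ => Finset.mem_univ _) (fun χ _ => Subtype.ext (funext fun g => Complex.conj_conj _))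
      · rw [hcbar]; exact CharTwo.add_self_eq_zero _
      · obtain ⟨b, hb⟩ := Nat.not_odd_iff_even.mp (hcon χ he)
        rw [hb, Nat.cast_mul, Nat.cast_add, CharTwo.add_self_eq_zero, mul_zero]
    rw [← Nat.cast_sum, hsum, ZMod.natCast_eq_zero_iff_even] at hz
    exact (Nat.not_even_iff_odd.mpr hoddT) hz
  refine ⟨χ, fun g => Complex.conj_eq_iff_im.mp (congrFun (congrArg Subtype.val hχ) g), ?_⟩
  have hne : classInner (fun n : K => (χ : G → ℂ) n) (θ : K → ℂ) ≠ 0 := by
    intro h0
    have h3 : classInner f (χ : G → ℂ) = 0 := by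
      rw [hf, CharInduce.classInner_indFun_left K (θ : K → ℂ) _ (CharBasic.IsIrr.isClassFunction χ.2),
        ← CharInduce.conj_classInner, h0, map_zero]
    rw [hc, Nat.cast_eq_zero] at h3
    rw [h3] at hχodd
    exact Nat.not_odd_zero hχodd
  obtain ⟨e, he⟩ := CharBasic.classInner_isChar_nat
    (CharInduce.IsChar.res (CharBasic.IsIrr.isCharacter χ.2) K) (CharBasic.IsIrr.isCharacter θ.2)
  obtain ⟨d, -, hd⟩ := CharBasic.IsIrr.exists_degree θ.2
  have hdeg := CharInduce.clifford_degree K χ.2 θ.2 hne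
  rw [he, hd] at hdeg
  rw [charDegree, hdeg, ← Nat.cast_mul, ← Nat.cast_mul, Complex.natCast_re, Nat.floor_natCast]
  exact ⟨e * d, by ring⟩

section Modular

variable {F : Type*} [Field F] {A : Type*}

/-- The functions invariant under `act`, vanishing at the good points, with sign `ε` under `bar`. -/
def signedSpace (act : G → A → A) (good : A → Prop) (bar : A → A) (ε : F) : Submodule F (A → F) where
  carrier := {f | (∀ g a, f (act g a) = f a) ∧ (∀ a, good a → f a = 0) ∧ ∀ a, f (bar a) = ε * f a}
  zero_mem' := ⟨fun _ _ => rfl, fun _ _ => rfl, fun _ => by simp⟩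
  add_mem' := fun {f g} hf hg => ⟨fun x a => by simp [hf.1, hg.1], fun a ha => by simp [hf.2.1 a ha, hg.2.1 a ha],
    fun a => by simp [hf.2.2, hg.2.2, mul_add]⟩
  smul_mem' := fun c f hf => ⟨fun x a => by simp [hf.1], fun a ha => by simp [hf.2.1 a ha],
    fun a => by simp [hf.2.2]; ring⟩

/-- A sign antisymmetric under `bar`, invariant under `act`, nonzero off the self-paired orbits. -/
theorem exists_sign {C : Type*} [Finite C] (act : G → A → A) (bar : A → A) (c : A → C)
    (hc : ∀ g a, c (act g a) = c a) (hc' : ∀ g a, c (bar (act g a)) = c (bar a))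
    (hbar : ∀ a, bar (bar a) = a) :
    ∃ e : A → F, (∀ g a, e (act g a) = e a) ∧ (∀ a, e (bar a) = -e a) ∧
      ∀ a, c (bar a) ≠ c a → e a ≠ 0 := by
  classical
  haveI := Fintype.ofFinite C
  let i := Fintype.equivFin C
  refine ⟨fun a => if i (c a) < i (c (bar a)) then 1 else if i (c (bar a)) < i (c a) then -1 else 0,
    fun g a => by simp only [hc, hc'], fun a => ?_, fun a ha => ?_⟩
  · simp only [hbar]
    rcases lt_trichotomy (i (c a)) (i (c (bar a))) with h | h | h
    · simp [h, h.not_gt]
    · simp [h]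
    · simp [h, h.not_gt]
  · rcases lt_trichotomy (i (c a)) (i (c (bar a))) with h | h | h
    · simp [h]
    · exact absurd (i.injective h).symm ha
    · simp [h, h.not_gt]

end Modular

section Transfer

variable {F : Type*} [Field F] (q : AlgInt →+* F)

/-- The value of an irreducible character as an algebraic integer. -/
noncomputable def valI (θ : IrrCharacter K) (y : K) : AlgInt :=
  ⟨(θ : K → ℂ) y, CharBasic.IsChar.isIntegral (CharBasic.IsIrr.isCharacter θ.2) y⟩

/-- The conjugation action on the irreducible characters of a normal subgroup. -/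
def conjIrr (g : G) (θ : IrrCharacter K) : IrrCharacter K :=
  ⟨CharInduce.conjFun K (θ : K → ℂ) g⁻¹, CharInduce.isIrrCharacter_conjFun K θ.2 g⁻¹⟩

/-- The complex conjugate of an irreducible character. -/
noncomputable def barIrr (θ : IrrCharacter K) : IrrCharacter K :=
  ⟨fun y => conj ((θ : K → ℂ) y),
    (letI := Fintype.ofFinite K; CharInduce.IsIrr.conj θ.2)⟩

theorem barIrr_barIrr (θ : IrrCharacter K) : barIrr K (barIrr K θ) = θ :=
  Subtype.ext (funext fun _ => Complex.conj_conj _)

theorem conjIrr_one (θ : IrrCharacter K) : conjIrr K 1 θ = θ := Subtype.ext (by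
  change CharInduce.conjFun K _ _ = _
  rw [inv_one, CharInduce.conjFun_one])

theorem conjIrr_mul (g h : G) (θ : IrrCharacter K) : conjIrr K (g * h) θ = conjIrr K g (conjIrr K h θ) :=
  Subtype.ext (by
    change CharInduce.conjFun K _ _ = CharInduce.conjFun K (CharInduce.conjFun K _ _) _
    rw [CharInduce.conjFun_mul, mul_inv_rev])

theorem valI_conj (g : G) (θ : IrrCharacter K) (y : K) :
    valI K (conjIrr K g θ) (MulAut.conjNormal g y) = valI K θ y :=
  Subtype.ext (congrArg (θ : K → ℂ) (Subtype.ext (by simp [mul_assoc])))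

theorem valI_barIrr (θ : IrrCharacter K) (y : K) : valI K (barIrr K θ) y = valI K θ y⁻¹ :=
  Subtype.ext (CharBasic.IsChar.inv_apply (CharBasic.IsIrr.isCharacter θ.2) y).symm

/-- The signed functions on the irreducible characters. -/
noncomputable def spaceA (p : ℕ) (ε : F) : Submodule F (IrrCharacter K → F) :=
  signedSpace (G := G) (conjIrr K) (fun θ => ¬ p ∣ (CharInduce.inertia K (θ : K → ℂ)).index) (barIrr K) ε

/-- The signed functions on the elements. -/
def spaceB (p : ℕ) (ε : F) : Submodule F (K → F) :=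
  signedSpace (G := G) (fun g y => MulAut.conjNormal g y)
    (fun y => ¬ p ∣ (centralizer ({(y : G)} : Set G)).index) (·⁻¹) ε

variable [Fintype K] [Fintype (IrrCharacter K)]

/-- From functions on elements to functions on characters. -/
noncomputable def toIrr : (K → F) →ₗ[F] (IrrCharacter K → F) where
  toFun := fun f θ => (Nat.card K : F)⁻¹ * ∑ y, f y * q (valI K θ y⁻¹)
  map_add' := fun f g => by ext θ; simp [add_mul, Finset.sum_add_distrib, mul_add]
  map_smul' := fun a f => by ext θ; simp [Finset.mul_sum, mul_assoc, mul_left_comm]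

/-- From functions on characters to functions on elements. -/
noncomputable def toElt : (IrrCharacter K → F) →ₗ[F] (K → F) where
  toFun := fun f y => ∑ θ, f θ * q (valI K θ y)
  map_add' := fun f g => by ext θ; simp [add_mul, Finset.sum_add_distrib]
  map_smul' := fun a f => by ext θ; simp [Finset.mul_sum, mul_assoc]

theorem toIrr_apply (f : K → F) (θ : IrrCharacter K) :
    toIrr K q f θ = (Nat.card K : F)⁻¹ * ∑ y, f y * q (valI K θ y⁻¹) := rfl

theorem toElt_apply (f : IrrCharacter K → F) (y : K) :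
    toElt K q f y = ∑ θ, f θ * q (valI K θ y) := rfl

theorem toIrr_mem (hpF : (p : F) = 0) {ε : F} {f : K → F} (hf : f ∈ spaceB K p ε) :
    toIrr K q f ∈ spaceA K p ε := by
  obtain ⟨h1, h2, h3⟩ := hf
  refine ⟨fun g θ => ?_, fun θ hθ => ?_, fun θ => ?_⟩
  · rw [toIrr_apply, toIrr_apply]
    congr 1
    refine (Fintype.sum_equiv (MulAut.conjNormal g : MulAut K).toEquiv _ _ fun y => ?_).symm
    change f y * q (valI K θ y⁻¹) =
      f (MulAut.conjNormal g y) * q (valI K (conjIrr K g θ) (MulAut.conjNormal g y)⁻¹)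
    rw [h1, ← map_inv, valI_conj]
  · rw [toIrr_apply]
    obtain ⟨R, hR⟩ := exists_sylow_le hθ
    letI : MulAction ↥(R : Subgroup G) K :=
      { smul := fun r y => MulAut.conjNormal (r : G) y
        one_smul := fun y => by
          change MulAut.conjNormal ((1 : ↥(R : Subgroup G)) : G) y = y
          simp
        mul_smul := fun r s y => by
          change MulAut.conjNormal ((r * s : ↥(R : Subgroup G)) : G) y = _
          simp only [Subgroup.coe_mul, map_mul]
          rfl }
    rw [sum_eq_zero_of_fixed_eq_zero (R := ↥(R : Subgroup G)) hpF R.isPGroup' _ (fun r y => ?_)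
      (fun y hy => ?_), mul_zero]
    · have hfix : conjIrr K (r : G) θ = θ :=
        Subtype.ext ((CharInduce.mem_inertia K).mp (inv_mem (hR r.2)))
      change f (MulAut.conjNormal (r : G) y) * q (valI K θ (MulAut.conjNormal (r : G) y)⁻¹) = _
      rw [h1, ← map_inv]
      nth_rw 1 [← hfix]
      rw [valI_conj]
    · rw [h2 y fun hd => R.not_dvd_index (hd.trans (index_dvd_of_le fun r hr => by
        have e := congrArg Subtype.val (hy ⟨r, hr⟩)
        change ((MulAut.conjNormal r y : K) : G) = (y : G) at e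
        rw [MulAut.conjNormal_apply] at e
        exact mem_centralizer_singleton_iff.mpr (mul_inv_eq_iff_eq_mul.mp e))), zero_mul]
  · rw [toIrr_apply, toIrr_apply, mul_left_comm]
    congr 1
    rw [Finset.mul_sum]
    refine Fintype.sum_equiv (Equiv.inv K) _ _ fun y => ?_
    rw [Equiv.inv_apply, valI_barIrr, inv_inv, ← mul_assoc, ← h3]
    simp only [inv_inv]

theorem toElt_mem (hpF : (p : F) = 0) {ε : F} {f : IrrCharacter K → F} (hf : f ∈ spaceA K p ε) :
    toElt K q f ∈ spaceB K p ε := by
  obtain ⟨h1, h2, h3⟩ := hf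
  refine ⟨fun g y => ?_, fun y hy => ?_, fun y => ?_⟩
  · rw [toElt_apply, toElt_apply]
    refine (Fintype.sum_equiv ⟨conjIrr K g, conjIrr K g⁻¹,
      fun θ => by rw [← conjIrr_mul, inv_mul_cancel, conjIrr_one],
      fun θ => by rw [← conjIrr_mul, mul_inv_cancel, conjIrr_one]⟩ _ _ fun θ => ?_).symm
    change f θ * q (valI K θ y) = f (conjIrr K g θ) * q (valI K (conjIrr K g θ) (MulAut.conjNormal g y))
    rw [h1, valI_conj]
  · rw [toElt_apply]
    obtain ⟨R, hR⟩ := exists_sylow_le hy
    letI : MulAction ↥(R : Subgroup G) (IrrCharacter K) :=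
      { smul := fun r θ => conjIrr K r θ
        one_smul := conjIrr_one K
        mul_smul := fun r s θ => conjIrr_mul K r s θ }
    refine sum_eq_zero_of_fixed_eq_zero (R := ↥(R : Subgroup G)) hpF R.isPGroup' _ (fun r θ => ?_)
      (fun θ hθ => ?_)
    · change f (conjIrr K r θ) * q (valI K (conjIrr K r θ) y) = _
      have hfix : MulAut.conjNormal (r : G) y = y := Subtype.ext (by
        rw [MulAut.conjNormal_apply]
        exact mul_inv_eq_iff_eq_mul.mpr (mem_centralizer_singleton_iff.mp (hR r.2)))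
      nth_rw 1 [← hfix]
      rw [h1, valI_conj]
    · rw [h2 θ fun hd => R.not_dvd_index (hd.trans (index_dvd_of_le fun r hr => ?_)), zero_mul]
      have := (CharInduce.mem_inertia K).mpr (congrArg Subtype.val (hθ ⟨r, hr⟩))
      simpa using inv_mem this
  · rw [toElt_apply, toElt_apply, Finset.mul_sum]
    refine Fintype.sum_equiv ⟨barIrr K, barIrr K, barIrr_barIrr K, barIrr_barIrr K⟩ _ _ fun θ => ?_
    change f θ * q (valI K θ y⁻¹) = ε * (f (barIrr K θ) * q (valI K (barIrr K θ) y))
    rw [← mul_assoc, ← h3 (barIrr K θ), valI_barIrr, barIrr_barIrr]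

theorem toElt_toIrr [DecidableEq K] (hcard : (Nat.card K : F) ≠ 0) {f : K → F}
    (hcl : ∀ k y : K, f (k * y * k⁻¹) = f y) : toElt K q (toIrr K q f) = f := by
  funext y
  rw [toElt_apply]
  simp only [toIrr_apply, Finset.mul_sum, Finset.sum_mul]
  rw [Finset.sum_comm]
  have key : ∀ z : K, ∑ θ, valI K θ z⁻¹ * valI K θ y =
      ∑ t : K, (if t * z * t⁻¹ = y then (1 : AlgInt) else 0) := fun z => by
    rw [Finset.sum_boole]
    apply Subtype.ext
    rw [AddSubmonoidClass.coe_finsetSum, SubringClass.coe_natCast, ← Fintype.card_subtype,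
      ← Nat.card_eq_fintype_card, ← CharBasic.second_orthogonality_count y z]
    refine Finset.sum_congr (by ext; simp) fun θ _ => ?_
    rw [MulMemClass.coe_mul, mul_comm]
    congr 1
    exact CharBasic.IsChar.inv_apply (CharBasic.IsIrr.isCharacter θ.2) z
  calc ∑ z, ∑ θ, (Nat.card K : F)⁻¹ * (f z * q (valI K θ z⁻¹)) * q (valI K θ y)
      = ∑ z, (Nat.card K : F)⁻¹ * f z * q (∑ θ, valI K θ z⁻¹ * valI K θ y) := by
        refine Finset.sum_congr rfl fun z _ => ?_
        rw [map_sum, Finset.mul_sum]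
        refine Finset.sum_congr rfl fun θ _ => ?_
        rw [map_mul]; ring
    _ = ∑ t : K, ∑ z, if t * z * t⁻¹ = y then (Nat.card K : F)⁻¹ * f z else 0 := by
        rw [Finset.sum_comm]
        refine Finset.sum_congr rfl fun z _ => ?_
        rw [key, map_sum, Finset.mul_sum]
        refine Finset.sum_congr rfl fun t _ => ?_
        split_ifs <;> simp
    _ = ∑ _t : K, (Nat.card K : F)⁻¹ * f y := by
        refine Finset.sum_congr rfl fun t _ => ?_
        rw [Finset.sum_eq_single (t⁻¹ * y * t)]
        · rw [if_pos (by group)]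
          congr 1
          simpa using hcl t⁻¹ y
        · intro b _ hb
          exact if_neg fun e => hb (by rw [← e]; group)
        · simp
    _ = f y := by
        rw [Finset.sum_const, Finset.card_univ, nsmul_eq_mul, ← Nat.card_eq_fintype_card,
          mul_inv_cancel_left₀ hcard]

theorem toIrr_toElt (hcard : (Nat.card K : F) ≠ 0) (f : IrrCharacter K → F) :
    toIrr K q (toElt K q f) = f := by
  classical
  funext θ
  rw [toIrr_apply]
  simp only [toElt_apply, Finset.sum_mul, Finset.mul_sum]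
  rw [Finset.sum_comm]
  have key : ∀ φ, ∑ y, valI K φ y * valI K θ y⁻¹ = if φ = θ then ((Nat.card K : ℕ) : AlgInt) else 0 := fun φ => by
    apply Subtype.ext
    have h := CharBasic.classInner_irr φ.2 θ.2
    rw [CharBasic.classInner_def, inv_mul_eq_iff_eq_mul₀ (CharInduce.card_ne_zero_complex K)] at h
    rw [AddSubmonoidClass.coe_finsetSum]
    refine ((Finset.sum_congr (by ext; simp) fun y _ => ?_).trans h).trans ?_
    · rw [MulMemClass.coe_mul]
      congr 1
      exact CharBasic.IsChar.inv_apply (CharBasic.IsIrr.isCharacter θ.2) y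
    · by_cases e : φ = θ
      · rw [if_pos e, if_pos (congrArg Subtype.val e), mul_one, SubringClass.coe_natCast]
      · rw [if_neg e, if_neg fun h => e (Subtype.ext h), mul_zero]; rfl
  calc ∑ φ, ∑ y, (Nat.card K : F)⁻¹ * (f φ * q (valI K φ y) * q (valI K θ y⁻¹))
      = ∑ φ, (Nat.card K : F)⁻¹ * f φ * q (∑ y, valI K φ y * valI K θ y⁻¹) := by
        refine Finset.sum_congr rfl fun φ _ => ?_
        rw [map_sum, Finset.mul_sum]
        refine Finset.sum_congr rfl fun y _ => ?_
        rw [map_mul]; ring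
    _ = ∑ φ, if φ = θ then f φ else 0 := by
        refine Finset.sum_congr rfl fun φ _ => ?_
        rw [key]
        split_ifs
        · rw [map_natCast, mul_comm ((Nat.card K : F)⁻¹), mul_assoc, inv_mul_cancel₀ hcard, mul_one]
        · rw [map_zero, mul_zero]
    _ = f θ := by rw [Finset.sum_ite_eq' univ θ f]; simp

include q in
/-- A good real orbit exists when the characters with self-paired orbits are good. -/
theorem false_of_bad_real (hpF : (p : F) = 0) (hcard : (Nat.card K : F) ≠ 0) (htwo : (2 : F) ≠ 0)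
    (hgood : ∀ θ : IrrCharacter K, (∃ g, conjIrr K g θ = barIrr K θ) →
      ¬ p ∣ (CharInduce.inertia K (θ : K → ℂ)).index)
    {x : K} (hx : ∃ g : G, MulAut.conjNormal g x = x⁻¹)
    (hbad : p ∣ (centralizer ({(x : G)} : Set G)).index) : False := by
  classical
  cases nonempty_fintype G
  let cA : IrrCharacter K → Finset (IrrCharacter K) := fun θ => univ.image fun g => conjIrr K g θ
  have hcA : ∀ g θ, cA (conjIrr K g θ) = cA θ := fun g θ => by
    ext φ
    simp only [cA, Finset.mem_image, Finset.mem_univ, true_and, ← conjIrr_mul]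
    exact ⟨fun ⟨h, e⟩ => ⟨h * g, e⟩, fun ⟨h, e⟩ => ⟨h * g⁻¹, by rw [inv_mul_cancel_right, e]⟩⟩
  obtain ⟨eA, heA, heA', heA0⟩ := exists_sign (F := F) (G := G) (conjIrr K) (barIrr K) cA hcA
    (fun g θ => by
      rw [show barIrr K (conjIrr K g θ) = conjIrr K g (barIrr K θ) from rfl, hcA]) (barIrr_barIrr K)
  have hrealA : ∀ θ, cA (barIrr K θ) = cA θ → ∃ g, conjIrr K g θ = barIrr K θ := fun θ hθ => by
    have : barIrr K θ ∈ cA θ := by
      rw [← hθ]; exact Finset.mem_image.mpr ⟨1, Finset.mem_univ _, conjIrr_one K _⟩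
    simpa [cA] using this
  let cB : K → ConjClasses G := fun y => ConjClasses.mk (y : G)
  have hcB : ∀ g y, cB (MulAut.conjNormal g y) = cB y := fun g y =>
    ConjClasses.mk_eq_mk_iff_isConj.mpr (isConj_iff.mpr ⟨g⁻¹, by simp [mul_assoc]⟩)
  haveI : Finite (ConjClasses G) := Finite.of_surjective _ ConjClasses.mk_surjective
  obtain ⟨eB, heB, heB', heB0⟩ := exists_sign (F := F) (G := G) (fun g y => MulAut.conjNormal g y) (·⁻¹) cB hcB
    (fun g y => by simp only [← map_inv, hcB]) inv_inv
  have hmulA : ∀ f ∈ spaceA (F := F) K p 1, eA * f ∈ spaceA (F := F) K p (-1) := fun f hf =>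
    ⟨fun g θ => by simp [heA, hf.1], fun θ hθ => by simp [hf.2.1 θ hθ],
      fun θ => by simp [heA', hf.2.2]⟩
  have hmulB : ∀ f ∈ spaceB (F := F) K p (-1), eB * f ∈ spaceB (F := F) K p 1 := fun f hf =>
    ⟨fun g y => by simp [heB, hf.1], fun y hy => by simp [hf.2.1 y hy], fun y => by
      simp only [Pi.mul_apply, heB', one_mul, hf.2.2]; ring⟩
  let Φ : (K → F) →ₗ[F] (K → F) :=
    (LinearMap.mulLeft F eB).comp ((toElt K q).comp ((LinearMap.mulLeft F eA).comp (toIrr K q)))
  have hΦmem : ∀ f ∈ spaceB (F := F) K p 1, Φ f ∈ spaceB (F := F) K p 1 := fun f hf =>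
    hmulB _ (toElt_mem K q hpF (hmulA _ (toIrr_mem K q hpF hf)))
  -- antisymmetric functions vanish at real elements
  have hvanish : ∀ f ∈ spaceB (F := F) K p (-1), ∀ y : K, (∃ g : G, MulAut.conjNormal g y = y⁻¹) → f y = 0 := by
    rintro f hf y ⟨g, hg⟩
    have h4 := hf.2.2 y
    simp only [← hg, hf.1] at h4
    have h5 : (2 : F) * f y = 0 := by linear_combination h4
    exact (mul_eq_zero.mp h5).resolve_left htwo
  have hzero : ∀ f ∈ spaceB (F := F) K p 1, Φ f = 0 → f = 0 := fun f hf h0 => by
    have h1 : toIrr K q f ∈ spaceA (F := F) K p 1 := toIrr_mem K q hpF hf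
    have h2 := toElt_mem K q hpF (hmulA _ h1)
    have h3 : toElt K q (eA * toIrr K q f) = 0 := funext fun y => by
      by_cases hy : cB y⁻¹ = cB y
      · obtain ⟨g, hg⟩ := isConj_iff.mp (ConjClasses.mk_eq_mk_iff_isConj.mp hy.symm)
        exact hvanish _ h2 y ⟨g, Subtype.ext (by simp [← hg])⟩
      · exact (mul_eq_zero.mp (congrFun h0 y)).resolve_left (heB0 y hy)
    have h6 : eA * toIrr K q f = 0 := by rw [← toIrr_toElt K q hcard (eA * toIrr K q f), h3, map_zero]
    rw [← toElt_toIrr K q hcard (f := f) (fun k y => by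
      have := hf.1 (k : G) y
      simp only at this
      rwa [show MulAut.conjNormal (k : G) y = k * y * k⁻¹ from Subtype.ext (by simp)] at this),
      show toIrr K q f = 0 from funext fun θ => by
        by_cases hθ : cA (barIrr K θ) = cA θ
        · exact h1.2.1 θ (hgood θ (hrealA θ hθ))
        · exact (mul_eq_zero.mp (congrFun h6 θ)).resolve_left (heA0 θ hθ), map_zero]
  -- the indicator of the bad real class
  set ind : K → F := fun y => if cB y = cB x then 1 else 0 with hind
  have hindmem : ind ∈ spaceB (F := F) K p 1 := by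
    refine ⟨fun g y => by simp only [ind, hcB], fun y hy => if_neg fun e => hy ?_, fun y => ?_⟩
    · obtain ⟨g, hg⟩ := isConj_iff.mp (ConjClasses.mk_eq_mk_iff_isConj.mp e)
      have hle : centralizer ({(x : G)} : Set G) =
          (centralizer ({(y : G)} : Set G)).map (MulAut.conj g).toMonoidHom := by
        ext z
        rw [Subgroup.mem_map_equiv, mem_centralizer_singleton_iff, mem_centralizer_singleton_iff, ← hg,
          MulAut.conj_symm_apply]
        constructor <;> intro h
        · calc g⁻¹ * z * g * y = g⁻¹ * (z * (g * y * g⁻¹)) * g := by group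
            _ = g⁻¹ * ((g * y * g⁻¹) * z) * g := by rw [h]
            _ = y * (g⁻¹ * z * g) := by group
        · calc z * (g * y * g⁻¹) = g * (g⁻¹ * z * g * y) * g⁻¹ := by group
            _ = g * (y * (g⁻¹ * z * g)) * g⁻¹ := by rw [h]
            _ = g * y * g⁻¹ * z := by group
      rwa [hle, index_map_of_bijective (MulAut.conj g).bijective] at hbad
    · simp only [ind, one_mul]
      obtain ⟨g, hg⟩ := hx
      have e1 : cB x⁻¹ = cB x := by rw [← hg, hcB]
      have e2 : ∀ a b : K, cB a = cB b → cB a⁻¹ = cB b⁻¹ := fun a b e => by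
        obtain ⟨c, hc⟩ := isConj_iff.mp (ConjClasses.mk_eq_mk_iff_isConj.mp e)
        exact ConjClasses.mk_eq_mk_iff_isConj.mpr (isConj_iff.mpr ⟨c, by
          simp only [Subgroup.coe_inv, ← hc]; group⟩)
      congr 1
      refine propext ⟨fun e => ?_, fun e => (e2 y x e).trans e1⟩
      have := (e2 _ _ e).trans e1
      rwa [inv_inv] at this
  have hsurj : Function.Surjective (Φ.restrict hΦmem) := LinearMap.injective_iff_surjective.mp
    ((injective_iff_map_eq_zero _).mpr fun f hf =>
      Subtype.ext (hzero f.1 f.2 (congrArg Subtype.val hf)))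
  obtain ⟨f, hf⟩ := hsurj ⟨ind, hindmem⟩
  have h1 := congrFun (congrArg Subtype.val hf) x
  rw [LinearMap.coe_restrict_apply] at h1
  change eB x * toElt K q (eA * toIrr K q f.1) x = _ at h1
  rw [hvanish _ (toElt_mem K q hpF (hmulA _ (toIrr_mem K q hpF f.2))) x hx, mul_zero] at h1
  exact zero_ne_one (h1.trans (if_pos rfl))

end Transfer

/-- A real element of a normal `p'`-subgroup of odd index centralizes a Sylow `p`-subgroup. -/
theorem exists_sylow_le_centralizer (hp : p ≠ 2) (hK : ¬ p ∣ Nat.card K) (hodd : Odd K.index)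
    (hreal : RealPPrime p G) {x : G} (hxK : x ∈ K) (hx : IsConj x x⁻¹) :
    ∃ R : Sylow p G, ∀ r ∈ R, r * x * r⁻¹ = x := by
  classical
  haveI : Fintype K := Fintype.ofFinite _
  haveI : Finite (IrrCharacter K) := CharBasic.finite_irrCharacter
  haveI : Fintype (IrrCharacter K) := Fintype.ofFinite _
  by_contra hcon
  obtain ⟨M, hM⟩ := BlockBasic.exists_isPModular (Fact.out : p.Prime)
  haveI := hM.2.1
  letI : Field (AlgInt ⧸ M) := Ideal.Quotient.field M
  have hnat : ∀ n : ℕ, (n : AlgInt ⧸ M) = 0 ↔ p ∣ n := fun n => by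
    rw [← map_natCast (Ideal.Quotient.mk M), Ideal.Quotient.eq_zero_iff_mem]
    exact BlockBasic.natCast_mem_iff hM n
  refine false_of_bad_real K (Ideal.Quotient.mk M) ((hnat p).mpr dvd_rfl) (fun h => hK ((hnat _).mp h))
    (fun h => hp ((Nat.prime_dvd_prime_iff_eq (Fact.out : p.Prime) Nat.prime_two).mp
      ((hnat 2).mp (by exact_mod_cast h)))) ?_ (x := ⟨x, hxK⟩) ?_ ?_
  · rintro θ ⟨g, hg⟩
    have hgg : conjIrr K (g * g) θ = θ := by
      rw [conjIrr_mul, hg, show conjIrr K g (barIrr K θ) = barIrr K (conjIrr K g θ) from rfl, hg,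
        barIrr_barIrr]
    have hgI : g⁻¹ ∈ CharInduce.inertia K (θ : K → ℂ) := mem_of_sq_mem K hodd
      (CharInduce.le_inertia K (CharBasic.IsIrr.isClassFunction θ.2))
      ((CharInduce.mem_inertia K).mpr (by rw [← mul_inv_rev]; exact congrArg Subtype.val hgg))
    have hreal' : barIrr K θ = θ := hg ▸ Subtype.ext ((CharInduce.mem_inertia K).mp hgI)
    obtain ⟨χ, hχ, hdvd⟩ := exists_real_above K hodd θ fun y => congrFun (congrArg Subtype.val hreal') y
    exact fun hd => hreal χ hχ (hd.trans hdvd)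
  · obtain ⟨g, hg⟩ := isConj_iff.mp hx
    exact ⟨g, Subtype.ext (by simp [← hg])⟩
  · by_contra hgood
    obtain ⟨R, hR⟩ := exists_sylow_le hgood
    exact hcon ⟨R, fun r hr => mul_inv_eq_iff_eq_mul.mpr (mem_centralizer_singleton_iff.mp (hR hr))⟩

/-- If all real irreducible characters have degree prime to `p`, every real class meets the normalizer of a
Sylow `p`-subgroup. -/
theorem exists_conj_mem_normalizer_of_real (hsol : Group.IsSolvable (pElemClosure p G))
    (hreal : RealPPrime p G) (P : Sylow p G) {x : G} (hx : IsConj x x⁻¹) :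
    ∃ y ∈ normalizer ((P : Subgroup G) : Set G), IsConj x y := by
  haveI : Fact (Nat.Prime 2) := ⟨Nat.prime_two⟩
  set K := pElemClosure 2 G with hK
  have hodd : Odd K.index := Nat.not_even_iff_odd.mp fun h => not_dvd_index_pElemClosure (p := 2)
    (even_iff_two_dvd.mp h)
  -- real elements lie in `K`
  have hxK : x ∈ K := by
    obtain ⟨g, hg⟩ := isConj_iff.mp hx
    have hgi : (g : G ⧸ K) * (x : G ⧸ K) * (g : G ⧸ K)⁻¹ = (x : G ⧸ K)⁻¹ := congrArg QuotientGroup.mk hg
    have hoddx : ∀ z : G ⧸ K, z * z = 1 → z = 1 := fun z hz => by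
      obtain ⟨m, hm⟩ := hodd
      have h1 : z ^ (2 * m + 1) = 1 := hm ▸ (index_eq_card K ▸ pow_card_eq_one')
      rwa [pow_succ, pow_mul, pow_two, hz, one_pow, one_mul] at h1
    obtain ⟨m, hm⟩ := hodd
    have h1 : (g : G ⧸ K) ^ (2 * m + 1) = 1 := hm ▸ (index_eq_card K ▸ pow_card_eq_one')
    have h2 : ∀ i : ℕ, Commute ((g : G ⧸ K) ^ (2 * i)) (x : G ⧸ K) := fun i => by
      rw [pow_mul]
      refine Commute.pow_left ?_ i
      rw [pow_two]
      have e : (g : G ⧸ K) * (x : G ⧸ K)⁻¹ * (g : G ⧸ K)⁻¹ = x := by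
        calc _ = ((g : G ⧸ K) * x * (g : G ⧸ K)⁻¹)⁻¹ := by group
          _ = x := by rw [hgi, inv_inv]
      show (g : G ⧸ K) * g * x = x * (g * g)
      calc (g : G ⧸ K) * g * x = g * (g * x * (g : G ⧸ K)⁻¹) * g := by group
        _ = g * (x : G ⧸ K)⁻¹ * g := by rw [hgi]
        _ = (g * (x : G ⧸ K)⁻¹ * (g : G ⧸ K)⁻¹) * (g * g) := by group
        _ = x * (g * g) := by rw [e]
    have h3 : Commute (g : G ⧸ K) (x : G ⧸ K) := by
      have h4 := (h2 (m + 1))
      rwa [show 2 * (m + 1) = 2 * m + 1 + 1 by ring, pow_succ, h1, one_mul] at h4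
    rw [h3.eq, mul_inv_cancel_right] at hgi
    exact (QuotientGroup.eq_one_iff x).mp (hoddx _ (eq_inv_iff_mul_eq_one.mp hgi))
  -- the Sylow subgroup of `K` is normal
  obtain ⟨Q⟩ := Sylow.nonempty (p := p) (G := K)
  set Q0 := (Q : Subgroup K).map K.subtype with hQ0
  haveI hQn : Q0.Normal := sylow_normal_of_realPPrime _ G le_rfl hsol hreal K inferInstance le_rfl
    (fun z hz => ⟨0, by simpa using hz⟩) Q
  have hQP : Q0 ≤ P := by
    obtain ⟨R, hR⟩ := (Q.isPGroup'.map K.subtype).exists_le_sylow
    obtain ⟨g, rfl⟩ := MulAction.exists_smul_eq G R P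
    intro z hz
    rw [Sylow.coe_subgroup_smul, Subgroup.mem_pointwise_smul_iff_inv_smul_mem]
    refine hR ?_
    have := hQn.conj_mem z hz g⁻¹
    rw [inv_inv] at this
    rw [MulAut.smul_def, MulAut.conj_inv_apply]
    exact this
  set f := QuotientGroup.mk' Q0 with hf
  have hfs : Function.Surjective f := QuotientGroup.mk'_surjective Q0
  set P' := P.mapSurjective hfs with hP'
  suffices h : ∃ y ∈ normalizer ((P' : Subgroup (G ⧸ Q0)) : Set (G ⧸ Q0)), IsConj (f x) y by
    obtain ⟨y, hy, hc⟩ := h
    obtain ⟨c, hc⟩ := isConj_iff.mp hc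
    obtain ⟨c, rfl⟩ := hfs c
    refine ⟨c * x * c⁻¹, H59.mem_normalizer_of_forall fun u hu => ?_, isConj_iff.mpr ⟨c, rfl⟩⟩
    have h1 := (mem_normalizer_iff.mp hy (f u)).mp ⟨u, hu, rfl⟩
    rw [← hc, ← map_mul, ← map_inv, ← map_mul, ← map_mul, ← map_inv, ← map_mul,
      Sylow.coe_mapSurjective, ← mem_comap, comap_map_eq_self (by rwa [hf, QuotientGroup.ker_mk'])] at h1
    exact h1
  rcases eq_or_ne p 2 with rfl | hp
  · -- `O^{2'}(G)` is a normal Sylow subgroup
    refine ⟨f x, ?_, IsConj.refl _⟩
    have hKQ : K ≤ Q0 := pElemClosure_le_of_normal fun hd => by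
      rw [hQ0, index_map_subtype] at hd
      exact ((Fact.out : (2 : ℕ).Prime).dvd_mul.mp hd).elim Q.not_dvd_index
        (not_dvd_index_pElemClosure (p := 2))
    rw [(QuotientGroup.eq_one_iff x).mpr (hKQ hxK) |> (fun e => (e : f x = 1))]
    exact one_mem _
  haveI : (K.map f).Normal := Normal.map inferInstance f hfs
  have hKcard : ¬ p ∣ Nat.card ↥(K.map f) := by
    have h1 := Q0.relIndex_dvd_index_of_normal K
    have h2 : Nat.card ↥(K.map f) = Q0.relIndex K := by
      have h3 := index_ker (f.subgroupMap K)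
      rw [MonoidHom.range_eq_top.mpr (f.subgroupMap_surjective K),
        Nat.card_congr topEquiv.toEquiv] at h3
      rw [← h3, relIndex]
      congr 1
      ext z
      rw [MonoidHom.mem_ker, mem_subgroupOf, Subtype.ext_iff]
      exact (QuotientGroup.eq_one_iff (z : G))
    rw [h2, relIndex, hQ0, subgroupOf, comap_map_eq_self_of_injective K.subtype_injective]
    exact Q.not_dvd_index
  have hx' : IsConj (f x) (f x)⁻¹ := by
    obtain ⟨g, hg⟩ := isConj_iff.mp hx
    exact isConj_iff.mpr ⟨f g, by rw [← map_inv f x, ← hg, map_mul, map_mul, map_inv]⟩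
  obtain ⟨R, hR⟩ := exists_sylow_le_centralizer (K.map f) hp hKcard
    (Odd.of_dvd_nat hodd (index_map_dvd _ hfs)) (hreal.of_surjective f hfs) ⟨x, hxK, rfl⟩ hx'
  obtain ⟨g, hg⟩ := MulAction.exists_smul_eq (G ⧸ Q0) R P'
  refine ⟨g * f x * g⁻¹, centralizer_le_normalizer _ ?_, isConj_iff.mpr ⟨g, rfl⟩⟩
  refine mem_centralizer_iff.mpr fun z hz => ?_
  rw [← hg, Sylow.coe_subgroup_smul] at hz
  obtain ⟨r, hr, rfl⟩ := hz
  have h4 := mul_inv_eq_iff_eq_mul.mp (hR r hr)
  change g * r * g⁻¹ * (g * f x * g⁻¹) = g * f x * g⁻¹ * (g * r * g⁻¹)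
  calc g * r * g⁻¹ * (g * f x * g⁻¹) = g * (r * f x) * g⁻¹ := by group
    _ = g * (f x * r) * g⁻¹ := by rw [h4]
    _ = _ := by group

end Cfsg.Agent.H85
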