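import Cfsg.Agent.CharInduce.Correspondence
import Cfsg.Agent.H59.ThompsonComplement
import Cfsg.Agent.Hall.MinimalNormal
import Cfsg.Agent.Cores.Basic
import Cfsg.Prelude.Def_Blocks
import Mathlib.GroupTheory.Sylow
import Mathlib.GroupTheory.FiniteAbelian.Duality
import Mathlib.RingTheory.RootsOfUnity.AlgebraicallyClosed
import Mathlib.Analysis.Complex.Polynomial.Basic

/-!
Groups in which all real irreducible characters have degree prime to `p`: the Sylow `p`-subgroups of
`O^{2'}(G)`, and of its `p`-power index normal extensions, are normal.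
-/

set_option autoImplicit false
set_option linter.style.haveILetI false
set_option linter.unusedSectionVars false

namespace Cfsg.Agent.H85

open Cfsg Subgroup
open scoped ComplexConjugate

universe u

/-- The subgroup generated by the elements of `p`-power order. -/
def pElemClosure (p : ℕ) (G : Type u) [Group G] : Subgroup G :=
  closure {g : G | ∃ k : ℕ, orderOf g = p ^ k}

section Basic

variable {p : ℕ} [Fact p.Prime] {G : Type u} [Group G]

instance pElemClosure_normal : (pElemClosure p G).Normal :=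
  ⟨fun x hx c => by
    have h : pElemClosure p G ≤ (pElemClosure p G).comap (MulAut.conj c).toMonoidHom :=
      (closure_le _).mpr fun b ⟨k, hk⟩ =>
        subset_closure ⟨k, hk ▸ MulEquiv.orderOf_eq (MulAut.conj c) b⟩
    exact h hx⟩

theorem mem_pElemClosure {g : G} (hg : ∃ k : ℕ, g ^ p ^ k = 1) : g ∈ pElemClosure p G := by
  obtain ⟨k, hk⟩ := hg
  obtain ⟨i, -, hi⟩ := (Nat.dvd_prime_pow (Fact.out : p.Prime)).mp (orderOf_dvd_of_pow_eq_one hk)
  exact subset_closure ⟨i, hi⟩

theorem sylow_le_pElemClosure (P : Sylow p G) : (P : Subgroup G) ≤ pElemClosure p G := fun x hx => by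
  obtain ⟨k, hk⟩ := P.isPGroup' ⟨x, hx⟩
  exact mem_pElemClosure ⟨k, congrArg Subtype.val hk⟩

theorem pElemClosure_le_of_normal [Finite G] {N : Subgroup G} [N.Normal] (hN : ¬ p ∣ N.index) :
    pElemClosure p G ≤ N := (closure_le _).mpr fun g ⟨k, hk⟩ => by
  have h1 : orderOf (g : G ⧸ N) ∣ p ^ k := hk ▸ orderOf_map_dvd (QuotientGroup.mk' N) g
  have h2 : orderOf (g : G ⧸ N) ∣ N.index := orderOf_dvd_natCard _
  have h3 := Nat.dvd_gcd h1 h2
  rw [Nat.Coprime.gcd_eq_one (Nat.Coprime.pow_left k ((Fact.out : p.Prime).coprime_iff_not_dvd.mpr hN)),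
    Nat.dvd_one, orderOf_eq_one_iff] at h3
  exact (QuotientGroup.eq_one_iff g).mp h3

theorem not_dvd_index_pElemClosure [Finite G] : ¬ p ∣ (pElemClosure p G).index := by
  obtain ⟨P⟩ := Sylow.nonempty (p := p) (G := G)
  exact fun h => P.not_dvd_index (h.trans (index_dvd_of_le (sylow_le_pElemClosure P)))

theorem pElemClosure_map {H : Type u} [Group H] [Finite G] [Finite H] (f : G →* H)
    (hf : Function.Surjective f) : pElemClosure p H = (pElemClosure p G).map f := by
  haveI : ((pElemClosure p G).map f).Normal := Normal.map inferInstance f hf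
  refine le_antisymm (pElemClosure_le_of_normal fun h => not_dvd_index_pElemClosure (p := p) (G := G)
    (h.trans (index_map_dvd _ hf))) ?_
  rw [pElemClosure, MonoidHom.map_closure, closure_le]
  rintro _ ⟨g, ⟨k, hk⟩, rfl⟩
  exact mem_pElemClosure ⟨k, by rw [← map_pow, ← hk, pow_orderOf_eq_one, map_one]⟩

end Basic

/-- All real irreducible characters have degree prime to `p`. -/
def RealPPrime (p : ℕ) (G : Type u) [Group G] : Prop :=
  ∀ χ : IrrCharacter G, (∀ g : G, ((χ : G → ℂ) g).im = 0) → ¬ p ∣ charDegree (χ : G → ℂ)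

theorem RealPPrime.of_surjective {p : ℕ} {G H : Type u} [Group G] [Group H] (h : RealPPrime p G)
    (f : G →* H) (hf : Function.Surjective f) : RealPPrime p H := fun χ hχ => by
  have := h ⟨fun g => (χ : H → ℂ) (f g), CharInduce.IsIrr.comp χ.2 f hf⟩ fun g => hχ _
  simpa [charDegree] using this

section Inverted

variable {G : Type u} [Group G] [Finite G]

/-- An element whose square centralizes an abelian normal subgroup inverts a nontrivial linear character. -/
theorem exists_inverted_hom (N : Subgroup G) [N.Normal] (hNc : IsMulCommutative N) (s : G)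
    (hs2 : ∀ n ∈ N, s * (s * n * s⁻¹) * s⁻¹ = n) (hs : ¬ ∀ n ∈ N, s * n * s⁻¹ = n) :
    ∃ l : N →* ℂˣ, l ≠ 1 ∧ ∀ n : N, l (MulAut.conjNormal s n) = (l n)⁻¹ := by
  letI : CommGroup N := { (inferInstance : Group N) with mul_comm := hNc.is_comm.comm }
  push Not at hs
  obtain ⟨n0, hn0, hne⟩ := hs
  set σ := (MulAut.conjNormal s : MulAut N) with hσ
  have hσσ : ∀ n, σ (σ n) = n := fun n => Subtype.ext (hs2 n n.2)
  let φ : N →* N :=
    { toFun := fun n => n * (σ n)⁻¹
      map_one' := by simp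
      map_mul' := fun a b => by rw [map_mul, mul_inv]; exact mul_mul_mul_comm _ _ _ _ }
  have h0 : φ ⟨n0, hn0⟩ ≠ 1 := fun h => hne
    ((congrArg Subtype.val (mul_inv_eq_one.mp h) : n0 = s * n0 * s⁻¹)).symm
  obtain ⟨μ, hμ⟩ := CommGroup.exists_apply_ne_one_of_hasEnoughRootsOfUnity N ℂ h0
  refine ⟨μ.comp φ, fun h => hμ ?_, fun n => ?_⟩
  · have := congrArg (fun f : N →* ℂˣ => f ⟨n0, hn0⟩) h
    simpa using this
  · change μ (σ n * (σ (σ n))⁻¹) = (μ (n * (σ n)⁻¹))⁻¹
    rw [hσσ, ← map_inv, mul_inv_rev, inv_inv]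

/-- Some power of a two-element moving `N` has square centralizing `N`. -/
theorem exists_square_centralizing (N : Subgroup G) (k : ℕ) : ∀ t : G, t ^ 2 ^ k = 1 →
    (¬ ∀ n ∈ N, t * n * t⁻¹ = n) →
      ∃ s : G, (∀ n ∈ N, s * (s * n * s⁻¹) * s⁻¹ = n) ∧ ¬ ∀ n ∈ N, s * n * s⁻¹ = n := by
  induction k with
  | zero =>
    intro t ht h
    rw [pow_zero, pow_one] at ht
    subst ht
    exact absurd (fun n _ => by group) h
  | succ k ih =>
    intro t ht h
    by_cases h2 : ∀ n ∈ N, t ^ 2 * n * (t ^ 2)⁻¹ = n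
    · refine ⟨t, fun n hn => ?_, h⟩
      conv_rhs => rw [← h2 n hn, pow_two]
      group
    · exact ih (t ^ 2) (by rw [← pow_mul, ← pow_succ', ht]) h2

end Inverted

variable {p : ℕ} [Fact p.Prime]

/-- A complement of a minimal abelian normal subgroup moved by a Sylow subgroup, and an inverted linear
character, give a real character of degree divisible by `p`. -/
theorem exists_real_dvd {G : Type u} [Group G] [Finite G] (N H Q : Subgroup G) [N.Normal]
    (hNc : IsMulCommutative N) (hmin : ∀ K : Subgroup G, K.Normal → K ≤ N → K = ⊥ ∨ K = N)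
    (hdisj : N ⊓ H = ⊥) (htop : N ⊔ H = ⊤) (hQ : IsPGroup p Q) (hM : (Q ⊔ N).Normal)
    (hQN : ¬ ∀ q ∈ Q, ∀ n ∈ N, Commute q n) (h : G) (hh : h ∈ H) (l : N →* ℂˣ) (hl : l ≠ 1)
    (hinv : ∀ n : N, l (MulAut.conjNormal h n) = (l n)⁻¹) :
    ∃ χ : IrrCharacter G, (∀ g : G, ((χ : G → ℂ) g).im = 0) ∧ p ∣ charDegree (χ : G → ℂ) := by
  classical
  cases nonempty_fintype G
  haveI : Fintype N := Fintype.ofFinite _
  set lf : N → ℂ := fun n => (l n : ℂ) with hlf
  have hlirr : IsIrrCharacter N lf := CharInduce.isIrrCharacter_hom l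
  set T := CharInduce.inertia N lf with hT
  haveI : Fintype T := Fintype.ofFinite _
  have hNT : N ≤ T := CharInduce.le_inertia N (CharBasic.IsIrr.isClassFunction hlirr)
  have hTmem : ∀ x : G, x ∈ T ↔ ∀ n : N, l (MulAut.conjNormal x n) = l n := fun x => by
    rw [hT, CharInduce.mem_inertia]
    exact ⟨fun e n => Units.ext (congrFun e n), fun e => funext fun n => congrArg Units.val (e n)⟩
  have hdec : ∀ g : G, ∃ n : N, (n : G)⁻¹ * g ∈ H := fun g => by
    obtain ⟨y, hy, z, hz, rfl⟩ := mem_sup_of_normal_left.mp (htop ▸ mem_top g : g ∈ N ⊔ H)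
    exact ⟨⟨y, hy⟩, by simpa using hz⟩
  choose π hπ using hdec
  have huniq : ∀ (g : G) (n : N), (n : G)⁻¹ * g ∈ H → π g = n := fun g n hn => by
    have h1 : (π g : G)⁻¹ * n ∈ N ⊓ H := mem_inf.mpr ⟨mul_mem (inv_mem (π g).2) n.2, by
      have := mul_mem (hπ g) (inv_mem hn)
      simpa [mul_assoc] using this⟩
    rw [hdisj, mem_bot, inv_mul_eq_one] at h1
    exact Subtype.ext h1
  have hπmul : ∀ a b : G, π (a * b) =
      π a * MulAut.conjNormal ((π a : G)⁻¹ * a) (π b) := fun a b => by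
    refine huniq _ _ ?_
    rw [Subgroup.coe_mul, MulAut.conjNormal_apply]
    have := mul_mem (hπ a) (hπ b)
    convert this using 1
    group
  let ψ : T →* ℂˣ := MonoidHom.mk' (fun g => l (π (g : G))) fun a b => by
    rw [Subgroup.coe_mul, hπmul, map_mul]
    congr 1
    exact (hTmem _).mp (mul_mem (inv_mem (hNT (π (a : G)).2)) a.2) _
  have hψN : ∀ n : N, ψ ⟨n, hNT n.2⟩ = l n := fun n =>
    congrArg l (huniq _ _ (by simp))
  have hψirr : IsIrrCharacter T (fun t => (ψ t : ℂ)) := CharInduce.isIrrCharacter_hom ψ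
  obtain ⟨hirr, -, -⟩ := CharInduce.clifford_correspondence N hlirr hNT hψirr (by
    rw [show CharInduce.resTo N hNT (fun t => (ψ t : ℂ)) = lf from funext fun n => congrArg Units.val (hψN n),
      CharBasic.classInner_irr_self hlirr]
    exact one_ne_zero)
  refine ⟨⟨_, hirr⟩, fun g => ?_, ?_⟩
  · -- the conjugation by `h` inverts `ψ`
    have hTh : ∀ x : G, h * x * h⁻¹ ∈ T ↔ x ∈ T := by
      have hinv' : ∀ n : N, l (MulAut.conjNormal h⁻¹ n) = (l n)⁻¹ := fun n => by
        have := hinv (MulAut.conjNormal h⁻¹ n)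
        rw [← MulAut.mul_apply, ← map_mul, mul_inv_cancel, map_one, MulAut.one_apply] at this
        rw [this, inv_inv]
      intro x
      rw [hTmem, hTmem]
      constructor
      · intro e n
        have := e (MulAut.conjNormal h n)
        rw [show MulAut.conjNormal (h * x * h⁻¹) (MulAut.conjNormal h n) =
          MulAut.conjNormal h (MulAut.conjNormal x n) from Subtype.ext (by simp [mul_assoc]), hinv, hinv] at this
        exact inv_injective this
      · intro e n
        rw [show MulAut.conjNormal (h * x * h⁻¹) n =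
          MulAut.conjNormal h (MulAut.conjNormal x (MulAut.conjNormal h⁻¹ n)) from
            Subtype.ext (by simp [mul_assoc]), hinv, e, hinv', inv_inv]
    have hψh : ∀ t : T, ψ ⟨h * t * h⁻¹, (hTh t).mpr t.2⟩ = (ψ t)⁻¹ := fun t => by
      change l (π (h * (t : G) * h⁻¹)) = (l (π (t : G)))⁻¹
      rw [huniq (h * (t : G) * h⁻¹) (MulAut.conjNormal h (π (t : G))) ?_, hinv]
      rw [MulAut.conjNormal_apply]
      have := mul_mem (mul_mem hh (hπ (t : G))) (inv_mem hh)
      convert this using 1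
      group
    have hconj : conj (indFun T (fun t => (ψ t : ℂ)) g) = indFun T (fun t => (ψ t : ℂ)) (h * g * h⁻¹) := by
      rw [CharInduce.conj_indFun, CharInduce.indFun_apply, CharInduce.indFun_apply]
      congr 1
      refine Finset.sum_equiv (MulAut.conj h).toEquiv (by simp) fun x _ => ?_
      have e1 : (MulAut.conj h x)⁻¹ * (h * g * h⁻¹) * MulAut.conj h x = h * (x⁻¹ * g * x) * h⁻¹ := by
        rw [MulAut.conj_apply]; group
      change _ = extendByZero T (fun t => (ψ t : ℂ)) ((MulAut.conj h x)⁻¹ * (h * g * h⁻¹) * MulAut.conj h x)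
      rw [e1]
      by_cases hx : x⁻¹ * g * x ∈ T
      · rw [CharInduce.extendByZero_of_mem _ hx, CharInduce.extendByZero_of_mem _ ((hTh _).mpr hx),
          hψh ⟨_, hx⟩, Units.val_inv_eq_inv_val,
          Complex.inv_eq_conj (CharInduce.norm_hom ψ _)]
      · rw [CharInduce.extendByZero_of_not_mem _ hx,
          CharInduce.extendByZero_of_not_mem _ fun hc => hx ((hTh _).mp hc)]
    rw [CharInduce.isClassFunction_indFun T (fun t => (ψ t : ℂ)) g h] at hconj
    exact Complex.conj_eq_iff_im.mp hconj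
  · -- `p` divides the index of the inertia group
    have hdeg : charDegree (indFun T (fun t => (ψ t : ℂ))) = T.index := by
      rw [charDegree, CharInduce.indFun_one, map_one, Units.val_one, mul_one, Complex.natCast_re,
        Nat.floor_natCast]
    change p ∣ charDegree (indFun T (fun t => (ψ t : ℂ)))
    rw [hdeg]
    by_contra hp
    haveI := hM
    have h1 : T.relIndex (Q ⊔ N) ∣ T.index := by
      have e1 := Cores.card_sup_mul_card_inf T (Q ⊔ N)
      have e2 := T.relIndex_mul_index (le_sup_left : T ≤ T ⊔ (Q ⊔ N))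
      have e3 := (T.subgroupOf (T ⊔ (Q ⊔ N))).card_mul_index
      have e4 := (T.subgroupOf (Q ⊔ N)).card_mul_index
      rw [Nat.card_congr (subgroupOfEquivOfLe (le_sup_left : T ≤ T ⊔ (Q ⊔ N))).toEquiv] at e3
      rw [← inf_subgroupOf_right, Nat.card_congr (subgroupOfEquivOfLe
        (inf_le_right : T ⊓ (Q ⊔ N) ≤ Q ⊔ N)).toEquiv, inf_subgroupOf_right] at e4
      have e5 : T.relIndex (Q ⊔ N) = T.relIndex (T ⊔ (Q ⊔ N)) := by
        refine Nat.eq_of_mul_eq_mul_left (mul_pos (Nat.card_pos (α := T))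
          (Nat.card_pos (α := ↥(T ⊓ (Q ⊔ N))))) ?_
        change Nat.card T * Nat.card ↥(T ⊓ (Q ⊔ N)) * (T.subgroupOf (Q ⊔ N)).index =
          Nat.card T * Nat.card ↥(T ⊓ (Q ⊔ N)) * (T.subgroupOf (T ⊔ (Q ⊔ N))).index
        rw [mul_assoc, e4, mul_right_comm, e3, e1]
      rw [e5, ← e2]
      exact dvd_mul_right _ _
    have h2 : T.relIndex (Q ⊔ N) ∣ Nat.card Q := by
      refine (relIndex_dvd_of_le_left (Q ⊔ N) hNT).trans ?_
      rw [relIndex_sup_right]
      exact index_dvd_card _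
    obtain ⟨k, hk⟩ := IsPGroup.iff_card.mp hQ
    have h3 : T.relIndex (Q ⊔ N) = 1 := Nat.eq_one_of_dvd_coprimes
      ((Nat.Coprime.pow_left k ((Fact.out : p.Prime).coprime_iff_not_dvd.mpr hp))) (hk ▸ h2) h1
    have hMT : Q ⊔ N ≤ T := relIndex_eq_one.mp h3
    let W : Subgroup G :=
      { carrier := {n | ∀ g : G, ∃ hn : g * n * g⁻¹ ∈ N, l ⟨g * n * g⁻¹, hn⟩ = 1}
        one_mem' := fun g => ⟨by simp, by
          rw [show (⟨g * 1 * g⁻¹, _⟩ : N) = 1 from Subtype.ext (by simp), map_one]⟩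
        mul_mem' := fun {a b} ha hb g => by
          obtain ⟨ha1, ha2⟩ := ha g
          obtain ⟨hb1, hb2⟩ := hb g
          have e : g * (a * b) * g⁻¹ = g * a * g⁻¹ * (g * b * g⁻¹) := by group
          refine ⟨e ▸ mul_mem ha1 hb1, ?_⟩
          rw [show (⟨g * (a * b) * g⁻¹, _⟩ : N) = ⟨_, ha1⟩ * ⟨_, hb1⟩ from Subtype.ext e,
            map_mul, ha2, hb2, one_mul]
        inv_mem' := fun {a} ha g => by
          obtain ⟨ha1, ha2⟩ := ha g
          have e : g * a⁻¹ * g⁻¹ = (g * a * g⁻¹)⁻¹ := by group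
          refine ⟨e ▸ inv_mem ha1, ?_⟩
          rw [show (⟨g * a⁻¹ * g⁻¹, _⟩ : N) = ⟨_, ha1⟩⁻¹ from Subtype.ext e, map_inv, ha2,
            inv_one] }
    have hWn : W.Normal := ⟨fun n hn c g => by
      obtain ⟨h1, h2⟩ := hn (g * c)
      have e : g * (c * n * c⁻¹) * g⁻¹ = g * c * n * (g * c)⁻¹ := by group
      exact ⟨e ▸ h1, by simpa only [e] using h2⟩⟩
    have hWN : W ≤ N := fun n hn => by
      obtain ⟨h1, -⟩ := hn 1
      simpa using h1
    push Not at hQN
    obtain ⟨q, hq, n, hn, hqn⟩ := hQN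
    have hmem : q * n * q⁻¹ * n⁻¹ ∈ W := fun g => by
      have hgN : g * n * g⁻¹ ∈ N := (inferInstance : N.Normal).conj_mem n hn g
      have hgT : g * q * g⁻¹ ∈ T := hMT (hM.conj_mem q (mem_sup_left hq) g)
      refine ⟨(inferInstance : N.Normal).conj_mem _
        (mul_mem ((inferInstance : N.Normal).conj_mem n hn q) (inv_mem hn)) g, ?_⟩
      rw [show (⟨g * (q * n * q⁻¹ * n⁻¹) * g⁻¹, _⟩ : N) =
          MulAut.conjNormal (g * q * g⁻¹) (⟨_, hgN⟩ : N) * (⟨_, hgN⟩ : N)⁻¹ from
        Subtype.ext (by simp; group), map_mul, (hTmem _).mp hgT, map_inv, mul_inv_cancel]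
    rcases hmin W hWn hWN with hW | hW
    · rw [hW, mem_bot, mul_inv_eq_one, mul_inv_eq_iff_eq_mul] at hmem
      exact hqn hmem
    · refine hl (MonoidHom.ext fun m => ?_)
      obtain ⟨h4, h5⟩ := (hW.symm ▸ m.2 : (m : G) ∈ W) 1
      simpa using h5

/-- The Sylow `p`-subgroups of a normal subgroup `U ≥ O^{2'}(G)` with `U / O^{2'}(G)` a `p`-group are normal. -/
theorem sylow_normal_of_realPPrime : ∀ (n : ℕ) (G : Type u) [Group G] [Finite G], Nat.card G ≤ n →
    Group.IsSolvable (pElemClosure p G) → RealPPrime p G → ∀ U : Subgroup G, U.Normal →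
      pElemClosure 2 G ≤ U → (∀ x ∈ U, ∃ a : ℕ, x ^ p ^ a ∈ pElemClosure 2 G) →
        ∀ Q : Sylow p U, ((Q : Subgroup U).map U.subtype).Normal := by
  intro n
  induction n with
  | zero => intro G _ _ hn; exact absurd hn (by have := Nat.card_pos (α := G); omega)
  | succ n ih =>
    intro G _ _ hcard hsol hreal U hUn hKU hUp Q
    haveI := hUn
    haveI : Fact (Nat.Prime 2) := ⟨Nat.prime_two⟩
    set Q0 := (Q : Subgroup U).map U.subtype with hQ0
    have hQ0p : IsPGroup p Q0 := Q.isPGroup'.map _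
    rcases eq_or_ne (pElemClosure p G) ⊥ with hL | hL
    · have h0 : Q0 = ⊥ := le_bot_iff.mp fun x hx => by
        obtain ⟨k, hk⟩ := hQ0p ⟨x, hx⟩
        rw [← hL]
        exact mem_pElemClosure ⟨k, congrArg Subtype.val hk⟩
      rw [h0]
      exact inferInstance
    obtain ⟨N, hNn, hN, hNL, hmin⟩ := Hall.exists_minimal_normal_le (pElemClosure p G) hL
    haveI := hNn
    haveI := hsol
    obtain ⟨hNc, r, hr, hNr, -⟩ := Hall.minimal_normal_elementary hN hmin
      (solvable_of_solvable_injective (f := inclusion hNL) (inclusion_injective hNL))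
    haveI := Fact.mk hr
    -- the quotient
    set f := QuotientGroup.mk' N with hf
    have hfs : Function.Surjective f := QuotientGroup.mk'_surjective N
    haveI : (U.map f).Normal := hUn.map f hfs
    have hlt : Nat.card (G ⧸ N) ≤ n := by
      have h1 := card_eq_card_quotient_mul_card_subgroup N
      have h2 : 1 < Nat.card N := (one_lt_card_iff_ne_bot N).mpr hN
      have h3 := Nat.card_pos (α := G ⧸ N)
      nlinarith
    have hKmap : pElemClosure 2 (G ⧸ N) = (pElemClosure 2 G).map f := pElemClosure_map f hfs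
    have hQbar : (((Q.mapSurjective (MonoidHom.subgroupMap_surjective f U) : Sylow p (U.map f)) :
        Subgroup (U.map f)).map (U.map f).subtype) = Q0.map f := by
      rw [Sylow.coe_mapSurjective, map_map, hQ0, map_map]
      rfl
    have hMn : (Q0 ⊔ N).Normal := by
      have hsol' : Group.IsSolvable (pElemClosure p (G ⧸ N)) := by
        rw [pElemClosure_map f hfs]
        exact solvable_of_surjective (MonoidHom.subgroupMap_surjective f (pElemClosure p G))
      have := ih (G ⧸ N) hlt hsol' (hreal.of_surjective f hfs) (U.map f) inferInstance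
        (hKmap ▸ map_mono hKU) (by
          rintro _ ⟨x, hx, rfl⟩
          obtain ⟨a, ha⟩ := hUp x hx
          exact ⟨a, hKmap ▸ ⟨_, ha, map_pow f x _⟩⟩)
        (Q.mapSurjective (MonoidHom.subgroupMap_surjective f U))
      rw [hQbar] at this
      have h1 := this.comap f
      rwa [comap_map_eq, hf, QuotientGroup.ker_mk'] at h1
    rcases eq_or_ne r p with rfl | hrp
    · -- `N` is a `p`-group
      have hMp : IsPGroup r ↥(Q0 ⊔ N) := hQ0p.to_sup_of_normal_right hNr
      have hle : (Q : Subgroup U) ≤ ((Q0 ⊔ N) ⊓ U).subgroupOf U := fun x hx =>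
        mem_subgroupOf.mpr ⟨mem_sup_left ⟨x, hx, rfl⟩, x.2⟩
      have heq := Q.3 (((hMp.to_le inf_le_left : IsPGroup r ↥((Q0 ⊔ N) ⊓ U))).comap_of_injective _
        U.subtype_injective) hle
      rw [hQ0, ← heq]
      exact (map_subgroupOf_eq_of_le (inf_le_right : (Q0 ⊔ N) ⊓ U ≤ U)).symm ▸
        (haveI := hMn; inferInstance : ((Q0 ⊔ N) ⊓ U).Normal)
    have hcop : ∀ x : G, ∀ k j : ℕ, x ^ p ^ k = 1 → x ^ r ^ j = 1 → x = 1 := fun x k j h1 h2 => by
      have h := pow_gcd_eq_one.mpr ⟨h1, h2⟩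
      rwa [Nat.Coprime.gcd_eq_one (Nat.Coprime.pow k j
        ((Nat.coprime_primes (Fact.out : p.Prime) hr).mpr hrp.symm)), pow_one] at h
    have hdisjQ : Q0 ⊓ N = ⊥ := eq_bot_iff.mpr fun x hx => by
      obtain ⟨k, hk⟩ := hQ0p ⟨x, hx.1⟩
      obtain ⟨j, hj⟩ := hNr ⟨x, hx.2⟩
      exact mem_bot.mpr (hcop x k j (congrArg Subtype.val hk) (congrArg Subtype.val hj))
    by_cases hQN : ∀ q ∈ Q0, ∀ x ∈ N, Commute q x
    · refine ⟨fun q hq g => ?_⟩
      obtain ⟨q', hq', x, hx, he⟩ := mem_sup_of_normal_right.mp (hMn.conj_mem q (mem_sup_left hq) g)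
      obtain ⟨k, hk⟩ := hQ0p ⟨q, hq⟩
      obtain ⟨k', hk'⟩ := hQ0p ⟨q', hq'⟩
      obtain ⟨j, hj⟩ := hNr ⟨x, hx⟩
      have hk1 : q ^ p ^ (k + k') = 1 := by
        rw [pow_add, pow_mul, show q ^ p ^ k = 1 from congrArg Subtype.val hk, one_pow]
      have hk2 : q' ^ p ^ (k + k') = 1 := by
        rw [pow_add, mul_comm, pow_mul, show q' ^ p ^ k' = 1 from congrArg Subtype.val hk', one_pow]
      have h3 : (q' * x) ^ p ^ (k + k') = 1 := by rw [he, conj_pow, hk1, mul_one, mul_inv_cancel]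
      rw [(hQN q' hq' x hx).mul_pow, hk2, one_mul] at h3
      rw [← he, hcop x (k + k') j h3 (congrArg Subtype.val hj), mul_one]
      exact hq'
    -- a complement
    exfalso
    haveI := hMn
    have hQ0Mi : ¬ p ∣ (Q0.subgroupOf (Q0 ⊔ N)).index := by
      have h1 := Cores.card_sup_mul_card_inf Q0 N
      rw [hdisjQ, card_bot, mul_one] at h1
      have h2 := (Q0.subgroupOf (Q0 ⊔ N)).card_mul_index
      rw [Nat.card_congr (subgroupOfEquivOfLe (le_sup_left : Q0 ≤ Q0 ⊔ N)).toEquiv, h1] at h2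
      rw [Nat.eq_of_mul_eq_mul_left Nat.card_pos h2]
      obtain ⟨j, hj⟩ := IsPGroup.iff_card.mp hNr
      rw [hj]
      exact fun hd => hrp ((Nat.prime_dvd_prime_iff_eq (Fact.out : p.Prime) hr).mp
        ((Fact.out : p.Prime).dvd_of_dvd_pow hd)).symm
    set QM : Sylow p ↥(Q0 ⊔ N) := (hQ0p.comap_of_injective (Q0 ⊔ N).subtype
      (Q0 ⊔ N).subtype_injective).toSylow hQ0Mi with hQM
    have hfr := Sylow.normalizer_sup_eq_top QM
    rw [show (QM : Subgroup ↥(Q0 ⊔ N)).map (Q0 ⊔ N).subtype = Q0 from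
      map_subgroupOf_eq_of_le (le_sup_left : Q0 ≤ Q0 ⊔ N)] at hfr
    set H := normalizer (Q0 : Set G) with hH
    have htop : N ⊔ H = ⊤ := top_le_iff.mp (hfr ▸ sup_le le_sup_right
      (sup_le (le_normalizer.trans le_sup_right) le_sup_left))
    have hdisj : N ⊓ H = ⊥ := by
      have hn : (N ⊓ H).Normal := normalizer_eq_top_iff.mp (top_le_iff.mp (htop ▸ sup_le (fun x hx =>
          H59.mem_normalizer_of_forall fun y hy => by
            have hc : x * y = y * x := congrArg (fun z : N => (z : G))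
              (hNc.is_comm.comm (⟨x, hx⟩ : N) ⟨y, hy.1⟩)
            rwa [hc, mul_inv_cancel_right])
        (fun x hx => H59.mem_normalizer_of_forall fun y hy =>
          mem_inf.mpr ⟨hNn.conj_mem y hy.1 x, mul_mem (mul_mem hx hy.2) (inv_mem hx)⟩)))
      refine (hmin _ hn inf_le_left).resolve_right fun he => hQN fun q hq x hx => ?_
      have hxH : x ∈ H := (he.symm ▸ hx : x ∈ N ⊓ H).2
      have h1 : q * x * q⁻¹ * x⁻¹ ∈ Q0 ⊓ N := mem_inf.mpr ⟨by
          rw [show q * x * q⁻¹ * x⁻¹ = q * (x * q⁻¹ * x⁻¹) by group]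
          exact mul_mem hq ((mem_normalizer_iff.mp hxH q⁻¹).mp (inv_mem hq)),
        mul_mem (hNn.conj_mem x hx q) (inv_mem hx)⟩
      rw [hdisjQ, mem_bot, mul_inv_eq_one, mul_inv_eq_iff_eq_mul] at h1
      exact h1
    obtain ⟨h, hh, l, hl, hinv⟩ : ∃ h ∈ H, ∃ l : N →* ℂˣ, l ≠ 1 ∧
        ∀ x : N, l (MulAut.conjNormal h x) = (l x)⁻¹ := by
      by_cases hr2 : r = 2
      · subst hr2
        letI : CommGroup N := { (inferInstance : Group N) with mul_comm := hNc.is_comm.comm }
        obtain ⟨⟨x0, hx0⟩, hx0'⟩ := ne_bot_iff_exists_ne_one.mp hN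
        obtain ⟨j, hj⟩ := IsPGroup.iff_card.mp hNr
        obtain ⟨μ, hμ⟩ := CommGroup.exists_apply_ne_one_of_hasEnoughRootsOfUnity N ℂ hx0'
        have hex : ∀ x : N, x ^ 2 ^ j = 1 := fun x => hj ▸ pow_card_eq_one'
        -- a power of `μ` of order two
        have hμj : μ ^ 2 ^ j = 1 := MonoidHom.ext fun x => by
          rw [MonoidHom.pow_apply, ← map_pow, hex, map_one, MonoidHom.one_apply]
        have hμ1 : μ ≠ 1 := fun e => hμ (by rw [e]; rfl)
        obtain ⟨i, -, hi⟩ := (Nat.dvd_prime_pow Nat.prime_two).mp (orderOf_dvd_of_pow_eq_one hμj)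
        obtain ⟨i, rfl⟩ : ∃ i', i = i' + 1 := ⟨i - 1, by
          have : i ≠ 0 := fun h0 => hμ1 (orderOf_eq_one_iff.mp (by rw [hi, h0, pow_zero]))
          omega⟩
        refine ⟨1, one_mem _, μ ^ 2 ^ i, fun e => ?_, fun x => ?_⟩
        · have := Nat.le_of_dvd (by positivity) (orderOf_dvd_of_pow_eq_one e)
          rw [hi, pow_succ] at this
          have : 0 < 2 ^ i := by positivity
          omega
        · rw [map_one, MulAut.one_apply]
          refine eq_inv_of_mul_eq_one_left ?_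
          have : (μ ^ 2 ^ i) * (μ ^ 2 ^ i) = 1 := by
            rw [← pow_two, ← pow_mul, ← pow_succ, ← hi, pow_orderOf_eq_one]
          exact (DFunLike.congr_fun this x)
      obtain ⟨t, ⟨k, hk⟩, hmove⟩ : ∃ t : G, (∃ k, orderOf t = 2 ^ k) ∧ ¬ ∀ x ∈ N, t * x * t⁻¹ = x := by
        by_contra hcon
        push Not at hcon
        have hNU : N ≤ U := by
          rcases hmin (N ⊓ U) inferInstance inf_le_left with h1 | h1
          · refine absurd (fun q hq x hx => ?_) hQN
            obtain ⟨u, -, rfl⟩ := hq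
            have h2 : (u : G) * x * (u : G)⁻¹ * x⁻¹ ∈ N ⊓ U := mem_inf.mpr ⟨mul_mem (hNn.conj_mem x hx _) (inv_mem hx), by
              rw [show (u : G) * x * (u : G)⁻¹ * x⁻¹ = u * (x * (u : G)⁻¹ * x⁻¹) by group]
              exact mul_mem u.2 (hUn.conj_mem _ (inv_mem u.2) x)⟩
            rw [h1, mem_bot, mul_inv_eq_one, mul_inv_eq_iff_eq_mul] at h2
            exact h2
          · exact h1 ▸ inf_le_right
        have hodd : Nat.Coprime r 2 := (Nat.coprime_primes hr Nat.prime_two).mpr hr2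
        have hNK : N ≤ pElemClosure 2 G := fun x hx => by
          obtain ⟨a, ha⟩ := hUp x (hNU hx)
          obtain ⟨j, hj⟩ := hNr ⟨x, hx⟩
          obtain ⟨w, hw⟩ := exists_pow_eq_self_of_coprime (G := G) (x := x) (n := p ^ a)
            (Nat.Coprime.coprime_dvd_right (orderOf_dvd_of_pow_eq_one (congrArg Subtype.val hj))
              (Nat.Coprime.pow a j ((Nat.coprime_primes (Fact.out : p.Prime) hr).mpr hrp.symm)))
          exact hw ▸ pow_mem ha w
        have hKH : pElemClosure 2 G ≤ H := (closure_le _).mpr fun g hg => by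
          obtain ⟨y, hy, z, hz, rfl⟩ := mem_sup_of_normal_left.mp (htop ▸ mem_top g : g ∈ N ⊔ H)
          obtain ⟨k, hk⟩ := hg
          have hcy : Commute (y * z) y := mul_inv_eq_iff_eq_mul.mp (hcon (y * z) ⟨k, hk⟩ y hy)
          have hcyz : Commute y z := by
            have h5 : y * z * y = y * (y * z) := hcy
            rw [mul_assoc] at h5
            exact (mul_left_cancel h5).symm
          have h4 : y ^ 2 ^ k * z ^ 2 ^ k = 1 := by rw [← hcyz.mul_pow, ← hk, pow_orderOf_eq_one]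
          have h6 : y ^ 2 ^ k ∈ N ⊓ H := mem_inf.mpr ⟨pow_mem hy _, by
            rw [eq_inv_of_mul_eq_one_left h4]
            exact inv_mem (pow_mem hz _)⟩
          rw [hdisj, mem_bot] at h6
          obtain ⟨j, hj⟩ := hNr ⟨y, hy⟩
          have hy1 : y = 1 := by
            have h := pow_gcd_eq_one.mpr ⟨h6, (congrArg Subtype.val hj : y ^ r ^ j = 1)⟩
            rwa [Nat.Coprime.gcd_eq_one (Nat.Coprime.pow k j hodd.symm), pow_one] at h
          rw [hy1, one_mul]
          exact hz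
        exact hN (le_bot_iff.mp (hdisj ▸ le_inf le_rfl (hNK.trans hKH)))
      obtain ⟨s, hs2, hs⟩ := exists_square_centralizing N k t (hk ▸ pow_orderOf_eq_one t) hmove
      obtain ⟨l, hl, hli⟩ := exists_inverted_hom N hNc s hs2 hs
      obtain ⟨y, hy, z, hz, rfl⟩ := mem_sup_of_normal_left.mp (htop ▸ mem_top s : s ∈ N ⊔ H)
      refine ⟨z, hz, l, hl, fun x => ?_⟩
      rw [← hli x]
      congr 1
      apply Subtype.ext
      have hc : y * (z * x * z⁻¹) = z * x * z⁻¹ * y := congrArg (fun w : N => (w : G))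
        (hNc.is_comm.comm (⟨y, hy⟩ : N) ⟨_, hNn.conj_mem x x.2 z⟩)
      rw [MulAut.conjNormal_apply, MulAut.conjNormal_apply,
        show y * z * (x : G) * (y * z)⁻¹ = y * (z * x * z⁻¹) * y⁻¹ by group, hc, mul_inv_cancel_right]
    obtain ⟨χ, hχ, hdvd⟩ := exists_real_dvd N H Q0 hNc hmin hdisj htop hQ0p hMn hQN h hh l hl hinv
    exact hreal χ hχ hdvd

end Cfsg.Agent.H85
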