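import Cfsg.Agent.CharBasic.Indicator
import Cfsg.Agent.BlockBasic.Basic
import Mathlib.LinearAlgebra.Trace
import Mathlib.LinearAlgebra.Matrix.DotProduct
import Mathlib.LinearAlgebra.Dual.Lemmas

/-!
# A symplectic character meets the trivial character of any subgroup with even multiplicity
-/

set_option linter.unusedSectionVars false

open Matrix Module
open scoped ComplexConjugate

namespace Cfsg.Agent.H85

open Cfsg.Agent.CharBasic

/-- The rank of an idempotent is even if it is self adjoint for a nondegenerate skew form. -/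
theorem even_rank_of_skew {n : ℕ} {B E : Matrix (Fin n) (Fin n) ℂ} (hB : Bᵀ = -B)
    (hdet : B.det ≠ 0) (hEE : E * E = E) (hBE : Eᵀ * B = B * E) :
    ∃ c : ℕ, Even c ∧ E.trace = (c : ℂ) := by
  set f := Matrix.toLin' E with hf
  have hff : ∀ x, f (f x) = f x := fun x => by
    rw [hf, Matrix.toLin'_apply, Matrix.toLin'_apply, Matrix.mulVec_mulVec, hEE]
  have hproj : LinearMap.IsProj (LinearMap.range f) f :=
    ⟨fun x => LinearMap.mem_range_self f x, fun x hx => by obtain ⟨y, rfl⟩ := hx; exact hff y⟩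
  set c := finrank ℂ (LinearMap.range f) with hc
  have htr : E.trace = (c : ℂ) := by
    rw [hc, ← hproj.trace, hf, Matrix.trace_toLin'_eq]
  refine ⟨c, ?_, htr⟩
  let b : Basis (Fin c) ℂ (LinearMap.range f) := Module.finBasis ℂ _
  let W : Matrix (Fin n) (Fin c) ℂ := Matrix.of fun i j => (b j : Fin n → ℂ) i
  have hWv : ∀ v : Fin c → ℂ, W *ᵥ v = ((∑ j, v j • b j : LinearMap.range f) : Fin n → ℂ) := by
    intro v
    funext i
    simp [W, Matrix.mulVec, dotProduct, Finset.sum_apply, mul_comm]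
  have hEW : ∀ v : Fin c → ℂ, E *ᵥ (W *ᵥ v) = W *ᵥ v := fun v => by
    rw [hWv]
    have := hproj.map_id _ (Subtype.coe_prop (∑ j, v j • b j : LinearMap.range f))
    exact this
  have hE : ∀ x : Fin n → ℂ, ∃ v, E *ᵥ x = W *ᵥ v := fun x => by
    refine ⟨fun j => b.repr ⟨f x, LinearMap.mem_range_self f x⟩ j, ?_⟩
    rw [hWv, Basis.sum_repr]
    rfl
  set A := Wᵀ * B * W with hA
  have hAdet : A.det ≠ 0 := by
    intro h
    obtain ⟨v, hv, hAv⟩ := Matrix.exists_mulVec_eq_zero_iff.2 h
    have h0 : B *ᵥ (W *ᵥ v) = 0 := by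
      refine dotProduct_eq_zero _ fun x => ?_
      rw [dotProduct_comm, ← hEW v, Matrix.mulVec_mulVec, ← hBE, ← Matrix.mulVec_mulVec,
        Matrix.dotProduct_mulVec x Eᵀ, Matrix.vecMul_transpose]
      obtain ⟨u, hu⟩ := hE x
      rw [hu, dotProduct_comm, dotProduct_comm _ (W *ᵥ u), ← Matrix.vecMul_transpose W u,
        ← Matrix.dotProduct_mulVec, Matrix.mulVec_mulVec, Matrix.mulVec_mulVec, ← hA, hAv,
        dotProduct_zero]
    have h1 : W *ᵥ v = 0 := by
      by_contra hne
      exact hdet (Matrix.exists_mulVec_eq_zero_iff.1 ⟨_, hne, h0⟩)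
    rw [hWv, ZeroMemClass.coe_eq_zero] at h1
    exact hv (funext fun j => Fintype.linearIndependent_iff.1 b.linearIndependent v h1 j)
  have hAskew : Aᵀ = -A := by
    rw [hA, Matrix.transpose_mul, Matrix.transpose_mul, Matrix.transpose_transpose, hB,
      Matrix.neg_mul, Matrix.mul_neg, Matrix.mul_assoc]
  by_contra hodd
  rw [Nat.not_even_iff_odd] at hodd
  refine hAdet ?_
  have := congrArg Matrix.det hAskew
  rw [Matrix.det_transpose, Matrix.det_neg, Fintype.card_fin, hodd.neg_one_pow, neg_one_mul] at this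
  linear_combination this / 2

/-- The indicator of a real irreducible character is a sign. -/
theorem indicator_eq_one_or_neg_one {G : Type*} [Group G] [Fintype G] {χ : G → ℂ}
    (hχ : Cfsg.IsIrrCharacter G χ) (hreal : ∀ g, (χ g).im = 0) :
    (Nat.card G : ℂ)⁻¹ * ∑ s : G, χ (s * s) = 1 ∨
      (Nat.card G : ℂ)⁻¹ * ∑ s : G, χ (s * s) = -1 := by
  obtain ⟨n, ρ, hρ, rfl⟩ := hχ
  obtain ⟨B, hB0, hB⟩ := exists_invariant_of_real ρ hreal
  set ε := (Nat.card G : ℂ)⁻¹ * ∑ s : G, ρ.character (s * s)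
  have h1 : Bᵀ = ε • B := transpose_eq_indicator_smul ρ hB
  have h2 : (ε * ε) • B = (1 : ℂ) • B := by
    rw [one_smul, ← smul_smul, ← h1, ← Matrix.transpose_smul, ← h1, Matrix.transpose_transpose]
  have h3 : ε * ε = 1 := smul_left_injective ℂ hB0 h2
  exact mul_self_eq_one_iff.1 h3

/-- A real irreducible character of odd multiplicity on the trivial character of a subgroup is of
orthogonal type. -/
theorem indicator_eq_one_of_odd {G : Type*} [Group G] [Fintype G] (S : Subgroup G) [Fintype S]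
    {χ : G → ℂ} (hχ : Cfsg.IsIrrCharacter G χ) (hreal : ∀ g, (χ g).im = 0) {m : ℕ}
    (hm : Cfsg.classInner (fun s : S => χ s) (fun _ => 1) = m) (hodd : Odd m) :
    (Nat.card G : ℂ)⁻¹ * ∑ s : G, χ (s * s) = 1 := by
  refine (indicator_eq_one_or_neg_one hχ hreal).resolve_right fun hneg => ?_
  obtain ⟨n, ρ, hρ, rfl⟩ := hχ
  obtain ⟨B, hB0, hB⟩ := exists_invariant_of_real ρ hreal
  have hskew : Bᵀ = -B := by rw [transpose_eq_indicator_smul ρ hB, hneg, neg_one_smul]
  set E : Matrix (Fin n) (Fin n) ℂ := (Nat.card S : ℂ)⁻¹ • ∑ s : S, repMat ρ (s : G) with hE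
  have hcard : (Nat.card S : ℂ) ≠ 0 := Nat.cast_ne_zero.2 Nat.card_pos.ne'
  have hsE : ∀ t : S, repMat ρ (t : G) * E = E := fun t => by
    rw [hE, Matrix.mul_smul, Finset.mul_sum]
    congr 1
    exact Fintype.sum_equiv (Equiv.mulLeft t) _ _ fun s => by simp [repMat_mul]
  have hEE : E * E = E := by
    conv_lhs => arg 1; rw [hE]
    rw [Matrix.smul_mul, Finset.sum_mul, Finset.sum_congr rfl fun t _ => hsE t, Finset.sum_const,
      Finset.card_univ, ← Nat.card_eq_fintype_card, ← Nat.cast_smul_eq_nsmul ℂ, smul_smul,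
      inv_mul_cancel₀ hcard, one_smul]
  have hBE : Eᵀ * B = B * E := by
    rw [hE, Matrix.transpose_smul, Matrix.smul_mul, Matrix.mul_smul, Matrix.transpose_sum,
      Finset.sum_mul, Finset.mul_sum]
    congr 1
    refine Fintype.sum_equiv (Equiv.inv S) _ _ fun s => ?_
    conv_rhs => rw [Equiv.inv_apply, ← hB (s : G)]
    rw [InvMemClass.coe_inv, Matrix.mul_assoc _ (repMat ρ (s : G)), ← repMat_mul, mul_inv_cancel,
      repMat_one, Matrix.mul_one]
  obtain ⟨c, hc, htr⟩ := even_rank_of_skew hskew (det_ne_zero_of_invariant ρ hB hB0) hEE hBE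
  have : (m : ℂ) = (c : ℂ) := by
    rw [← hm, ← htr, classInner_def, hE, Matrix.trace_smul, Matrix.trace_sum, smul_eq_mul]
    congr 1
    exact Finset.sum_congr rfl fun s _ => by rw [map_one, mul_one, character_eq_trace_repMat]
  rw [Nat.cast_inj] at this
  exact Nat.not_even_iff_odd.2 hodd (this ▸ hc)

end Cfsg.Agent.H85
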