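import Cfsg.Agent.CharBasic.Complete
import Cfsg.Agent.CharInduce.Ops
import Mathlib.LinearAlgebra.Matrix.ToLin

/-!
# The number of square roots as a character sum
-/

set_option linter.unusedSectionVars false

open scoped ComplexConjugate

namespace Cfsg.Agent.H85

open Cfsg.Agent.CharBasic

variable {G : Type*} [Group G] [Fintype G]

section Forms

variable {n : ℕ} (ρ : Representation ℂ G (Fin n → ℂ))

/-- The matrix of `ρ g`. -/
noncomputable def repMat (g : G) : Matrix (Fin n) (Fin n) ℂ := LinearMap.toMatrixAlgEquiv' (ρ g)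

theorem repMat_mul (g h : G) : repMat ρ (g * h) = repMat ρ g * repMat ρ h := by
  simp [repMat, map_mul]

theorem repMat_one : repMat ρ 1 = 1 := by simp [repMat]

theorem repMat_mul_inv (g : G) : repMat ρ g * repMat ρ g⁻¹ = 1 := by
  rw [← repMat_mul, mul_inv_cancel, repMat_one]

theorem trace_repMat (g : G) : (repMat ρ g).trace = ρ.character g := by
  rw [Representation.character, LinearMap.trace_eq_matrix_trace ℂ (Pi.basisFun ℂ (Fin n))]
  rfl

theorem toLin_repMat (g : G) : ρ g = Matrix.toLinAlgEquiv' (repMat ρ g) :=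
  (Matrix.toLinAlgEquiv'_toMatrixAlgEquiv' (ρ g)).symm

/-- The contragredient representation in the standard coordinates. -/
noncomputable def coRep : Representation ℂ G (Fin n → ℂ) where
  toFun g := Matrix.toLinAlgEquiv' (repMat ρ g⁻¹).transpose
  map_one' := by simp [repMat_one]
  map_mul' g h := by rw [mul_inv_rev, repMat_mul, Matrix.transpose_mul, map_mul]

theorem character_coRep : (coRep ρ).character = fun g => conj (ρ.character g) := by
  funext g
  show LinearMap.trace ℂ _ (Matrix.toLinAlgEquiv' (repMat ρ g⁻¹).transpose) = _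
  rw [← character_inv, ← trace_repMat, ← Matrix.trace_transpose (repMat ρ g⁻¹),
    LinearMap.trace_eq_matrix_trace ℂ (Pi.basisFun ℂ (Fin n))]
  congr 1
  exact LinearMap.toMatrixAlgEquiv'_toLinAlgEquiv' _

/-- The matrices of invariant bilinear forms. -/
def IsInvForm (T : Matrix (Fin n) (Fin n) ℂ) : Prop :=
  ∀ h, (repMat ρ h).transpose * T * repMat ρ h = T

/-- The average of a form. -/
noncomputable def avgForm (B : Matrix (Fin n) (Fin n) ℂ) : Matrix (Fin n) (Fin n) ℂ :=
  ∑ g : G, (repMat ρ g).transpose * B * repMat ρ g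

theorem isInvForm_avgForm (B : Matrix (Fin n) (Fin n) ℂ) : IsInvForm ρ (avgForm ρ B) := by
  intro h
  rw [avgForm, Finset.mul_sum, Finset.sum_mul]
  refine Fintype.sum_equiv (Equiv.mulRight h) _ _ fun g => ?_
  rw [Equiv.coe_mulRight, repMat_mul, Matrix.transpose_mul]
  simp only [mul_assoc]

theorem isInvForm_transpose {T : Matrix (Fin n) (Fin n) ℂ} (hT : IsInvForm ρ T) :
    IsInvForm ρ T.transpose := by
  intro h
  conv_rhs => rw [← hT h]
  simp [Matrix.transpose_mul, mul_assoc]

theorem exists_intertwining {T : Matrix (Fin n) (Fin n) ℂ} (hT : IsInvForm ρ T) :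
    ∃ f : Representation.IntertwiningMap ρ (coRep ρ),
      f.toLinearMap = Matrix.toLinAlgEquiv' T :=
  ⟨⟨Matrix.toLinAlgEquiv' T, fun h => by
    show Matrix.toLinAlgEquiv' T * ρ h = Matrix.toLinAlgEquiv' (repMat ρ h⁻¹).transpose * _
    rw [toLin_repMat ρ h, ← map_mul, ← map_mul]
    congr 1
    conv_rhs => rw [← hT h]
    rw [← mul_assoc, ← mul_assoc, ← Matrix.transpose_mul, repMat_mul_inv, Matrix.transpose_one,
      one_mul]⟩, rfl⟩

theorem character_mul_self (g : G) :
    ρ.character (g * g) = ∑ i, ∑ j, repMat ρ g i j * repMat ρ g j i := by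
  rw [← trace_repMat, repMat_mul]
  rfl

theorem sum_sq_eq_sum_avgForm :
    ∑ g : G, ρ.character (g * g) = ∑ i, ∑ j, avgForm ρ (Matrix.single i j 1) j i := by
  classical
  simp only [character_mul_self]
  rw [Finset.sum_comm]
  refine Finset.sum_congr rfl fun i _ => ?_
  rw [Finset.sum_comm]
  refine Finset.sum_congr rfl fun j _ => ?_
  simp [avgForm, Matrix.sum_apply, Matrix.mul_apply, Matrix.single_apply, ite_and]

theorem sum_mul_self_eq_sum_avgForm :
    ∑ g : G, ρ.character g * ρ.character g = ∑ i, ∑ j, avgForm ρ (Matrix.single i j 1) i j := by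
  classical
  simp only [← trace_repMat, Matrix.trace, Matrix.diag, Finset.sum_mul, Finset.mul_sum]
  rw [Finset.sum_comm]
  refine Finset.sum_congr rfl fun i _ => ?_
  rw [Finset.sum_comm]
  refine Finset.sum_congr rfl fun j _ => ?_
  simp [avgForm, Matrix.sum_apply, Matrix.mul_apply, Matrix.single_apply, ite_and, mul_comm]

end Forms

/-- The Frobenius-Schur sum vanishes at characters that are not real valued. -/
theorem sum_sq_eq_zero_of_nonreal {χ : G → ℂ} (hχ : Cfsg.IsIrrCharacter G χ)
    (hreal : ¬ ∀ g, conj (χ g) = χ g) : ∑ g : G, χ (g * g) = 0 := by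
  classical
  obtain ⟨n, ρ, hρ, rfl⟩ := hχ
  have h0 : Cfsg.classInner (coRep ρ).character ρ.character = 0 := by
    rw [character_coRep]
    exact classInner_irr_of_ne (CharInduce.IsIrr.conj ⟨n, ρ, hρ, rfl⟩) ⟨n, ρ, hρ, rfl⟩
      fun h => hreal fun g => congrFun h g
  have hrank : Module.finrank ℂ (Representation.IntertwiningMap ρ (coRep ρ)) = 0 := by
    have h := classInner_character ρ (coRep ρ)
    rw [h0] at h
    exact_mod_cast h.symm
  have := Module.finrank_zero_iff.1 hrank
  have hzero : ∀ B, avgForm ρ B = 0 := by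
    intro B
    obtain ⟨f, hf⟩ := exists_intertwining ρ (isInvForm_avgForm ρ B)
    rw [Subsingleton.elim f 0] at hf
    exact (map_eq_zero_iff _ (Matrix.toLinAlgEquiv' (R := ℂ) (n := Fin n)).injective).1 hf.symm
  rw [sum_sq_eq_sum_avgForm]
  simp [hzero]

/-- At a real character the Frobenius-Schur sum is plus or minus the group order. -/
theorem exists_sign_sum_sq {χ : G → ℂ} (hχ : Cfsg.IsIrrCharacter G χ)
    (hreal : ∀ g, conj (χ g) = χ g) :
    ∃ ε : ℂ, (ε = 1 ∨ ε = -1) ∧ ∑ g : G, χ (g * g) = ε * (Nat.card G : ℂ) := by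
  classical
  obtain ⟨n, ρ, hρ, rfl⟩ := hχ
  have h1 := classInner_irr_self (χ := ρ.character) ⟨n, ρ, hρ, rfl⟩
  have hcard : ∑ g : G, ρ.character g * ρ.character g = (Nat.card G : ℂ) := by
    rw [classInner_def, inv_mul_eq_iff_eq_mul₀ (Nat.cast_ne_zero.2 Nat.card_pos.ne'), mul_one]
      at h1
    simpa [hreal] using h1
  have hrank : Module.finrank ℂ (Representation.IntertwiningMap ρ (coRep ρ)) = 1 := by
    have h := classInner_character ρ (coRep ρ)
    rw [character_coRep, show (fun g => conj (ρ.character g)) = ρ.character from funext hreal,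
      classInner_irr_self (χ := ρ.character) ⟨n, ρ, hρ, rfl⟩] at h
    exact_mod_cast h.symm
  obtain ⟨v, hv0, hv⟩ := finrank_eq_one_iff'.1 hrank
  set T0 := LinearMap.toMatrixAlgEquiv' v.toLinearMap with hT0
  have hline : ∀ T, IsInvForm ρ T → ∃ c : ℂ, T = c • T0 := by
    intro T hT
    obtain ⟨f, hf⟩ := exists_intertwining ρ hT
    obtain ⟨c, rfl⟩ := hv f
    refine ⟨c, ?_⟩
    have := congrArg LinearMap.toMatrixAlgEquiv' hf
    rw [LinearMap.toMatrixAlgEquiv'_toLinAlgEquiv'] at this
    rw [← this, hT0]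
    exact map_smul (LinearMap.toMatrixAlgEquiv' (R := ℂ) (n := Fin n)) c v.toLinearMap
  obtain ⟨B, hB⟩ : ∃ B, avgForm ρ B ≠ 0 := by
    by_contra h
    push Not at h
    rw [sum_mul_self_eq_sum_avgForm] at hcard
    simp [h] at hcard
    exact Fintype.card_ne_zero (α := G) (by exact_mod_cast hcard.symm)
  obtain ⟨c, hc⟩ := hline _ (isInvForm_avgForm ρ B)
  have hc0 : c ≠ 0 := by rintro rfl; exact hB (by rw [hc, zero_smul])
  obtain ⟨d, hd⟩ := hline _ (isInvForm_transpose ρ (isInvForm_avgForm ρ B))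
  set ε := d / c with hε
  have hT : ∀ T, IsInvForm ρ T → T.transpose = ε • T := by
    intro T hT
    obtain ⟨e, he⟩ := hline T hT
    rw [hc, Matrix.transpose_smul] at hd
    have h0 : T0.transpose = (d / c) • T0 := by
      calc T0.transpose = c⁻¹ • (c • T0.transpose) := (inv_smul_smul₀ hc0 _).symm
        _ = (d / c) • T0 := by rw [hd, smul_smul, mul_comm, div_eq_mul_inv]
    rw [he, Matrix.transpose_smul, h0, smul_smul, smul_smul, hε, mul_comm e]
  have hεε : ε = 1 ∨ ε = -1 := by
    have h := hT _ (isInvForm_transpose ρ (isInvForm_avgForm ρ B))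
    rw [Matrix.transpose_transpose, hT _ (isInvForm_avgForm ρ B), smul_smul] at h
    rw [← mul_self_eq_one_iff]
    by_contra hne
    refine hB ?_
    have : (ε * ε - 1) • avgForm ρ B = 0 := by rw [sub_smul, one_smul, ← h, sub_self]
    exact (smul_eq_zero.1 this).resolve_left (sub_ne_zero.2 hne)
  refine ⟨ε, hεε, ?_⟩
  rw [sum_sq_eq_sum_avgForm, ← hcard, sum_mul_self_eq_sum_avgForm, Finset.mul_sum]
  refine Finset.sum_congr rfl fun i _ => ?_
  rw [Finset.mul_sum]
  refine Finset.sum_congr rfl fun j _ => ?_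
  have h := congrFun (congrFun (hT _ (isInvForm_avgForm ρ (Matrix.single i j 1))) i) j
  simpa using h

/-- The Frobenius-Schur sum is real. -/
theorem conj_sum_sq {χ : G → ℂ} (hχ : Cfsg.IsIrrCharacter G χ) :
    conj (∑ g : G, χ (g * g)) = ∑ g : G, χ (g * g) := by
  by_cases h : ∀ g, conj (χ g) = χ g
  · rw [map_sum]
    exact Finset.sum_congr rfl fun g _ => h _
  · rw [sum_sq_eq_zero_of_nonreal hχ h, map_zero]

/-- The number of square roots of `g`. -/
theorem card_sqrt_eq_sum (g : G) :
    (Nat.card {u : G // u * u = g} : ℂ) = ∑ χ : Cfsg.IrrCharacter G,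
      (Nat.card G : ℂ)⁻¹ * (∑ u : G, (χ : G → ℂ) (u * u)) * (χ : G → ℂ) g := by
  classical
  let r : G → ℂ := fun a => ∑ u : G, if u * u = a then (1 : ℂ) else 0
  have hr : Cfsg.IsClassFunction G r := by
    intro a x
    refine Fintype.sum_equiv (MulAut.conj x⁻¹).toEquiv _ _ fun u => ?_
    have he : (MulAut.conj x⁻¹).toEquiv u = x⁻¹ * u * x := by simp
    rw [he]
    refine if_congr ?_ rfl rfl
    constructor
    · intro h
      calc x⁻¹ * u * x * (x⁻¹ * u * x) = x⁻¹ * (u * u) * x := by group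
        _ = a := by rw [h]; group
    · intro h
      calc u * u = x * (x⁻¹ * u * x * (x⁻¹ * u * x)) * x⁻¹ := by group
        _ = x * a * x⁻¹ := by rw [h]
  have h1 := congrFun (classFunction_expansion hr) g
  have h2 : r g = (Nat.card {u : G // u * u = g} : ℂ) := by
    rw [Nat.card_eq_fintype_card, Fintype.card_subtype]
    simp [r, Finset.sum_boole]
  rw [← h2, h1, Finset.sum_apply]
  refine Finset.sum_congr rfl fun χ _ => ?_
  rw [Pi.smul_apply, smul_eq_mul, ← conj_sum_sq χ.2, classInner_def, map_sum]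
  congr 2
  simp only [r, Finset.sum_mul, ite_mul, one_mul, zero_mul]
  rw [Finset.sum_comm]
  simp

end Cfsg.Agent.H85
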