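import Cfsg.Agent.H82.PrincipalBlock
import Cfsg.Agent.BlockBasic.Orth
import Cfsg.Agent.BlockBasic.Basic
import Cfsg.Agent.CharInduce.Ops
import Cfsg.Agent.CharBasic.Kernel
import Cfsg.Agent.Fusion.Tate

/-!
# Principal blocks all of whose characters of degree prime to `p` are linear
-/

set_option linter.unusedSectionVars false

open scoped Classical ComplexConjugate

namespace Cfsg.Agent.H85

open Cfsg.Agent.CharBasic

variable {G : Type*} [Group G] [Fintype G] {p : ℕ} [Fact p.Prime] {M : Ideal Cfsg.AlgInt}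

theorem finite_hom : Finite (G →* ℂˣ) :=
  Finite.of_injective (fun l : G →* ℂˣ =>
    (⟨fun g => (l g : ℂ), CharInduce.isIrrCharacter_hom l⟩ : Cfsg.IrrCharacter G)) fun a b h =>
    MonoidHom.ext fun g =>
      Units.ext (congrArg (fun z : Cfsg.IrrCharacter G => (z : G → ℂ) g) h)

theorem memLocalRing_hom (hM : Cfsg.IsPModular p M) (l : G →* ℂˣ) (g : G) :
    Cfsg.MemLocalRing M (l g : ℂ) := by
  have h := IsChar.isIntegral (CharInduce.isCharacter_hom l) g
  exact BlockBasic.memLocalRing_of_isIntegral hM h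

theorem centralChar_hom (l : G →* ℂˣ) (g : G) :
    Cfsg.centralChar (fun x => (l x : ℂ)) g =
      ((Subgroup.centralizer ({g} : Set G)).index : ℂ) * (l g : ℂ) := by
  simp [Cfsg.centralChar]

/-- The linear characters of the principal block form a group. -/
theorem exists_linearGroup (hM : Cfsg.IsPModular p M) :
    ∃ L : Subgroup (G →* ℂˣ), ∀ l, l ∈ L ↔
      Cfsg.SameBlock M (fun _ : G => (1 : ℂ)) (fun x => (l x : ℂ)) := by
  haveI := finite_hom (G := G)
  have hmul : ∀ a b : G →* ℂˣ, Cfsg.SameBlock M (fun _ : G => (1 : ℂ)) (fun x => (a x : ℂ)) →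
      Cfsg.SameBlock M (fun _ : G => (1 : ℂ)) (fun x => (b x : ℂ)) →
      Cfsg.SameBlock M (fun _ : G => (1 : ℂ)) (fun x => ((a * b) x : ℂ)) := by
    intro a b ha hb g
    have h1 := BlockBasic.memLocalIdeal_mul hM (memLocalRing_hom hM b g) (ha g)
    have := BlockBasic.memLocalIdeal_add hM (hb g) h1
    convert this using 1
    rw [centralChar_hom, centralChar_hom, centralChar_hom, H82.centralChar_const_one,
      MonoidHom.mul_apply, Units.val_mul]
    ring
  let S : Submonoid (G →* ℂˣ) :=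
    { carrier := {l | Cfsg.SameBlock M (fun _ : G => (1 : ℂ)) (fun x => (l x : ℂ))}
      one_mem' := by
        show Cfsg.SameBlock M (fun _ : G => (1 : ℂ)) (fun x => ((1 : G →* ℂˣ) x : ℂ))
        simpa using BlockBasic.sameBlock_refl hM (fun _ : G => (1 : ℂ))
      mul_mem' := fun ha hb => hmul _ _ ha hb }
  refine ⟨{ S with inv_mem' := fun {a} ha => ?_ }, fun l => Iff.rfl⟩
  have ho : IsOfFinOrder a := isOfFinOrder_of_finite a
  have : a⁻¹ = a ^ (orderOf a - 1) := by
    refine MonoidHom.ext fun g => ?_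
    rw [MonoidHom.inv_apply]
    refine inv_eq_of_mul_eq_one_right ?_
    rw [← MonoidHom.mul_apply, ← pow_succ', Nat.sub_add_cancel ho.orderOf_pos, pow_orderOf_eq_one,
      MonoidHom.one_apply]
  rw [this]
  exact S.pow_mem ha _

/-- If all characters of degree prime to `p` in the principal block are linear, then every linear
character of a Sylow `p`-subgroup extends. -/
theorem exists_extension (hM : Cfsg.IsPModular p M)
    (h : ∀ χ : Cfsg.IrrCharacter G, χ ∈ Cfsg.principalBlock M G →
      ¬ p ∣ Cfsg.charDegree (χ : G → ℂ) → Cfsg.charDegree (χ : G → ℂ) = 1)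
    (P : Sylow p G) (μ : ↥(P : Subgroup G) →* ℂˣ) :
    ∃ l : G →* ℂˣ, l.comp (P : Subgroup G).subtype = μ := by
  haveI := finite_hom (G := G)
  set B := Cfsg.principalBlock M G with hB
  have hBb : Cfsg.IsPBlock M B := BlockBasic.isPBlock_principalBlock M
  set s := Finset.univ.filter fun χ : Cfsg.IrrCharacter G => χ ∈ B with hs
  set F : ↥(P : Subgroup G) → ℂ :=
    fun x => ∑ χ ∈ s, (Cfsg.charDegree (χ : G → ℂ) : ℂ) * (χ : G → ℂ) x with hF
  have hF0 : ∀ x : (P : Subgroup G), x ≠ 1 → F x = 0 := by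
    intro x hx
    have hdvd : p ∣ orderOf ((x : G)⁻¹) := by
      rw [orderOf_inv, Subgroup.orderOf_coe]
      obtain ⟨k, hk⟩ := IsPGroup.iff_orderOf.1 P.isPGroup' x
      rcases k with _ | k
      · exact absurd (orderOf_eq_one_iff.1 (by simpa using hk)) hx
      · exact hk ▸ dvd_pow_self p k.succ_ne_zero
    have h0 := BlockBasic.blockCoeff_eq_zero_of_singular hM hBb hdvd
    rw [Cfsg.blockCoeff, mul_eq_zero, BlockBasic.finsum_mem_eq_sum_ite, ← Finset.sum_filter,
      ← hs] at h0
    refine Eq.trans (Finset.sum_congr rfl fun χ _ => ?_)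
      (h0.resolve_left (inv_ne_zero (Nat.cast_ne_zero.2 Nat.card_pos.ne')))
    rw [BlockBasic.apply_one_eq_charDegree, BlockBasic.conj_apply_eq_inv, inv_inv]
  choose m hm using fun (χ : Cfsg.IrrCharacter G) (ν : ↥(P : Subgroup G) →* ℂˣ) =>
    classInner_isChar_nat (CharInduce.IsChar.res (IsIrr.isCharacter χ.2) (P : Subgroup G))
      (IsIrr.isCharacter (CharInduce.isIrrCharacter_hom ν))
  have hconst : ∀ ν, ((∑ χ ∈ s, Cfsg.charDegree (χ : G → ℂ) * m χ ν : ℕ) : ℂ) =
      (Nat.card (P : Subgroup G) : ℂ)⁻¹ * F 1 := by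
    intro ν
    rw [Nat.cast_sum]
    simp only [Nat.cast_mul, ← hm, classInner_def]
    have : ∀ χ : Cfsg.IrrCharacter G, (Cfsg.charDegree (χ : G → ℂ) : ℂ) *
        ((Nat.card (P : Subgroup G) : ℂ)⁻¹ *
          ∑ x : (P : Subgroup G), (χ : G → ℂ) x * conj (ν x : ℂ)) =
        (Nat.card (P : Subgroup G) : ℂ)⁻¹ * ∑ x : (P : Subgroup G),
          ((Cfsg.charDegree (χ : G → ℂ) : ℂ) * (χ : G → ℂ) x) * conj (ν x : ℂ) := fun χ => by
      rw [mul_left_comm, Finset.mul_sum]
      simp only [mul_assoc]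
    rw [Finset.sum_congr rfl fun χ _ => this χ, ← Finset.mul_sum, Finset.sum_comm]
    congr 1
    simp only [← Finset.sum_mul]
    rw [Finset.sum_eq_single (1 : (P : Subgroup G))]
    · simp [hF]
    · intro x _ hx
      exact mul_eq_zero_of_left (hF0 x hx) _
    · simp
  -- the fibres modulo `p`
  let E : (↥(P : Subgroup G) →* ℂˣ) → Finset (Cfsg.IrrCharacter G) := fun ν =>
    s.filter fun χ => Cfsg.charDegree (χ : G → ℂ) = 1 ∧
      (fun x : (P : Subgroup G) => (χ : G → ℂ) x) = fun x => (ν x : ℂ)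
  have hmod : ∀ ν, ((∑ χ ∈ s, Cfsg.charDegree (χ : G → ℂ) * m χ ν : ℕ) : ZMod p) =
      ((E ν).card : ZMod p) := by
    intro ν
    rw [Finset.card_filter, Nat.cast_sum, Nat.cast_sum]
    refine Finset.sum_congr rfl fun χ hχ => ?_
    rw [hs, Finset.mem_filter] at hχ
    by_cases hd : p ∣ Cfsg.charDegree (χ : G → ℂ)
    · have hne : Cfsg.charDegree (χ : G → ℂ) ≠ 1 := fun e => Fact.out (p := p.Prime) |>.not_dvd_one
        (e ▸ hd)
      rw [if_neg fun hc => hne hc.1, Nat.cast_mul, (ZMod.natCast_eq_zero_iff _ _).2 hd]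
      simp
    · have hd1 := h χ hχ.2 hd
      obtain ⟨l, hl⟩ := CharInduce.IsChar.exists_hom_of_degree_one (IsIrr.isCharacter χ.2) (by
        rw [BlockBasic.apply_one_eq_charDegree, hd1, Nat.cast_one])
      have hmv := hm χ ν
      rw [classInner_irr (by
        convert CharInduce.isIrrCharacter_hom (l.comp (P : Subgroup G).subtype) using 1
        funext x; exact hl _) (CharInduce.isIrrCharacter_hom ν)] at hmv
      by_cases he : (fun x : (P : Subgroup G) => (χ : G → ℂ) x) = fun x => (ν x : ℂ)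
      · rw [if_pos he] at hmv
        rw [if_pos ⟨hd1, he⟩, hd1, one_mul]
        congr 1
        exact_mod_cast hmv.symm
      · rw [if_neg he] at hmv
        rw [if_neg fun hc => he hc.2, hd1, one_mul]
        congr 1
        exact_mod_cast hmv.symm
  -- the fibre of the trivial character
  obtain ⟨L, hL⟩ := exists_linearGroup (G := G) hM
  set L1 := L ⊓ (MonoidHom.compHom' (P := ℂˣ) (P : Subgroup G).subtype).ker with hL1
  haveI : Fintype L1 := Fintype.ofFinite L1
  have hE1 : (E 1).card = Nat.card L1 := by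
    rw [Nat.card_eq_fintype_card, ← Finset.card_univ]
    symm
    refine Finset.card_bij
      (fun l _ => (⟨fun g => (l.1 g : ℂ), CharInduce.isIrrCharacter_hom l.1⟩ :
        Cfsg.IrrCharacter G)) ?_ ?_ ?_
    · intro l _
      have h1 := (hL l.1).1 l.2.1
      have h2 := MonoidHom.mem_ker.1 l.2.2
      simp only [E, Finset.mem_filter, hs, Finset.mem_univ, true_and]
      refine ⟨h1, by simp [Cfsg.charDegree], funext fun x => congrArg Units.val ?_⟩
      exact DFunLike.congr_fun h2 x
    · intro a _ b _ e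
      exact Subtype.ext (MonoidHom.ext fun g =>
        Units.ext (congrArg (fun z : Cfsg.IrrCharacter G => (z : G → ℂ) g) e))
    · intro χ hχ
      simp only [E, Finset.mem_filter, hs, Finset.mem_univ, true_and] at hχ
      obtain ⟨l, hl⟩ := CharInduce.IsChar.exists_hom_of_degree_one (IsIrr.isCharacter χ.2) (by
        rw [BlockBasic.apply_one_eq_charDegree, hχ.2.1, Nat.cast_one])
      have e : (fun g => (l g : ℂ)) = (χ : G → ℂ) := funext fun g => (hl g).symm
      refine ⟨⟨l, (hL l).2 (e ▸ hχ.1), ?_⟩, Finset.mem_univ _, Subtype.ext e⟩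
      exact MonoidHom.mem_ker.2 (MonoidHom.ext fun x => Units.ext
        ((hl _).symm.trans (congrFun hχ.2.2 x)))
  have hne : ((E 1).card : ZMod p) ≠ 0 := by
    rw [hE1, Ne, ZMod.natCast_eq_zero_iff]
    intro hdvd
    obtain ⟨l, hl⟩ := exists_prime_orderOf_dvd_card' (G := L1) p hdvd
    have hl1 : (l : G →* ℂˣ) ≠ 1 := fun e => by
      rw [← Subgroup.orderOf_coe, e, orderOf_one] at hl
      exact (Fact.out : p.Prime).ne_one hl.symm
    obtain ⟨g, hg⟩ : ∃ g, (l : G →* ℂˣ) g ≠ 1 := by
      by_contra hcon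
      push Not at hcon
      exact hl1 (MonoidHom.ext hcon)
    have hgp : (l : G →* ℂˣ) g ^ p = 1 := by
      have := DFunLike.congr_fun (congrArg Subtype.val (hl ▸ pow_orderOf_eq_one l)) g
      simpa using this
    have hker : (P : Subgroup G) ≤ (l : G →* ℂˣ).ker := fun x hx =>
      MonoidHom.mem_ker.2 (DFunLike.congr_fun (MonoidHom.mem_ker.1 l.2.2) ⟨x, hx⟩)
    refine P.not_dvd_index (dvd_trans ?_ (Subgroup.index_dvd_of_le hker))
    rw [Subgroup.index_ker, ← orderOf_eq_prime hgp hg, ← Subgroup.orderOf_mk _ (show (l : G →* ℂˣ) g ∈ (l : G →* ℂˣ).range from ⟨g, rfl⟩)]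
    exact orderOf_dvd_natCard _
  have hall : ((E μ).card : ZMod p) ≠ 0 := by
    rw [← hmod]
    rw [← hmod] at hne
    have e := (hconst μ).trans (hconst 1).symm
    rw [Nat.cast_inj] at e
    rwa [e]
  obtain ⟨χ, hχ⟩ : (E μ).Nonempty := Finset.card_ne_zero.1 fun e => hall (by rw [e, Nat.cast_zero])
  simp only [E, Finset.mem_filter] at hχ
  obtain ⟨l, hl⟩ := CharInduce.IsChar.exists_hom_of_degree_one (IsIrr.isCharacter χ.2) (by
    rw [BlockBasic.apply_one_eq_charDegree, hχ.2.1, Nat.cast_one])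
  exact ⟨l, MonoidHom.ext fun x => Units.ext ((hl _).symm.trans (congrFun hχ.2.2 x))⟩

/-- A normal `p`-complement from linearity of the `p'`-degree principal block characters. -/
theorem hasNormalPComplement_of_linear (hM : Cfsg.IsPModular p M)
    (h : ∀ χ : Cfsg.IrrCharacter G, χ ∈ Cfsg.principalBlock M G →
      ¬ p ∣ Cfsg.charDegree (χ : G → ℂ) → Cfsg.charDegree (χ : G → ℂ) = 1) :
    Cfsg.HasNormalPComplement p G := by
  obtain ⟨P⟩ : Nonempty (Sylow p G) := inferInstance
  refine Fusion.hasNormalPComplement_of_commutator_eq P le_rfl ?_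
    (Fusion.hasNormalPComplement_of_isPGroup P.isPGroup')
  rintro x ⟨hxG, hxP⟩
  have hxd : (⟨x, hxP⟩ : (P : Subgroup G)) ∈ commutator (P : Subgroup G) := by
    by_contra hx
    have hx' : Abelianization.of (⟨x, hxP⟩ : (P : Subgroup G)) ≠ 1 := fun e => hx (by
      rw [← Abelianization.ker_of (P : Subgroup G)]; exact e)
    obtain ⟨φ, hφ⟩ := CommGroup.exists_apply_ne_one_of_hasEnoughRootsOfUnity
      (G := Abelianization (P : Subgroup G)) (M := ℂ) hx'
    obtain ⟨l, hl⟩ := exists_extension hM h P (φ.comp Abelianization.of)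
    refine hφ ?_
    have := DFunLike.congr_fun hl ⟨x, hxP⟩
    simp only [MonoidHom.comp_apply, Subgroup.coe_subtype] at this
    rw [← this]
    exact MonoidHom.mem_ker.1 (Abelianization.commutator_subset_ker l hxG)
  have := Subgroup.mem_map_of_mem (P : Subgroup G).subtype hxd
  rw [map_commutator_eq, Subgroup.range_subtype] at this
  exact this

end Cfsg.Agent.H85
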