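import Cfsg.Agent.H85.GlaubermanFree
import Cfsg.Agent.H59.Offender

/-!
Glauberman's generation lemma: the `p`-th powers of a central subgroup of a Sylow subgroup are normalized
by the group as soon as `N(J(T))` normalizes them, and the central subgroup generates an abelian normal
subgroup.
-/

set_option autoImplicit false
set_option linter.style.haveILetI false
set_option linter.unusedSectionVars false

namespace Cfsg.Agent.H85

open Subgroup
open scoped Pointwise

universe u v

section Quadratic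

variable {H : Type u} [Group H] {A : Type v} [AddCommGroup A] [Finite H] [Finite A] {p : ℕ} [Fact p.Prime]

/-- A minimal abelian offender acts quadratically. -/
theorem quadratic_of_minimal_pGroup (ρ : H →* AddMonoid.End A) (hA : ∃ n : ℕ, Nat.card A = p ^ n) (B : Subgroup H)
    (hB : IsPGroup p B) (hcom : IsMulCommutative B) (hoff : H59.IsOff ρ B)
    (hmin : ∀ B0 : Subgroup H, B0 ≤ B → H59.IsOff ρ B0 → B0 = ⊥ ∨ B0 = B) :
    ∀ b ∈ B, ∀ b' ∈ B, ∀ a : A, ρ b (ρ b' a - a) = ρ b' a - a := by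
  classical
  have hc : ∀ b ∈ B, ∀ b' ∈ B, b * b' = b' * b := fun b hb b' hb' =>
    congrArg Subtype.val (hcom.is_comm.comm (⟨b, hb⟩ : B) ⟨b', hb'⟩)
  have hcc : ∀ b ∈ B, ∀ b' ∈ B, ∀ a, ρ b (ρ b' a) = ρ b' (ρ b a) := by
    intro b hb b' hb' a
    change (ρ b * ρ b') a = (ρ b' * ρ b) a
    rw [← map_mul, ← map_mul, hc b hb b' hb']
  let C := H59.fixed ρ B
  let N : AddSubgroup A :=
    { carrier := {a | ∀ b ∈ B, ρ b a - a ∈ C}
      zero_mem' := fun b _ => by simp [zero_mem]
      add_mem' := fun {x y} hx hy b hb => by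
        have : ρ b (x + y) - (x + y) = (ρ b x - x) + (ρ b y - y) := by rw [map_add]; abel
        rw [this]; exact add_mem (hx b hb) (hy b hb)
      neg_mem' := fun {x} hx b hb => by
        have : ρ b (-x) - (-x) = -(ρ b x - x) := by rw [map_neg]; abel
        rw [this]; exact neg_mem (hx b hb) }
  have hCN : C ≤ N := fun a ha b hb => by rw [ha b hb, sub_self]; exact zero_mem _
  suffices hN : N = ⊤ by
    intro b hb b' hb' a
    have : a ∈ N := hN ▸ AddSubgroup.mem_top a
    exact this b' hb' b hb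
  by_contra hN
  -- a point outside `N` fixed modulo `N`
  obtain ⟨x, hx, hxN⟩ : ∃ x : A, x ∉ N ∧ ∀ b ∈ B, ρ b x - x ∈ N := by
    have hstab : ∀ b ∈ B, N ≤ N.comap (ρ b : A →+ A) := by
      intro b hb a ha b' hb'
      change ρ b' (ρ b a) - ρ b a ∈ C
      rw [hcc b' hb' b hb, ← map_sub, ha b' hb' b hb]
      exact ha b' hb'
    let act : MulAction B (A ⧸ N) :=
      { smul := fun b q => QuotientAddGroup.map N N (ρ (b : H) : A →+ A) (hstab b b.2) q
        one_smul := fun q => by
          induction q using QuotientAddGroup.induction_on with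
          | H a =>
            change QuotientAddGroup.map N N _ _ (a : A ⧸ N) = _
            apply congrArg ((↑) : A → A ⧸ N)
            change ρ ((1 : B) : H) a = a
            rw [Subgroup.coe_one, map_one]; rfl
        mul_smul := fun b c q => by
          induction q using QuotientAddGroup.induction_on with
          | H a =>
            change QuotientAddGroup.map N N _ _ (a : A ⧸ N) =
              QuotientAddGroup.map N N _ _ (QuotientAddGroup.map N N _ _ (a : A ⧸ N))
            simp only [Subgroup.coe_mul, map_mul]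
            rfl }
    have hd : p ∣ Nat.card (A ⧸ N) := by
      obtain ⟨n, hn⟩ := hA
      have h1 : Nat.card (A ⧸ N) ∣ p ^ n := hn ▸ AddSubgroup.card_quotient_dvd_card N
      obtain ⟨k, -, hk⟩ := (Nat.dvd_prime_pow (Fact.out : p.Prime)).mp h1
      rcases k with _ | k
      · exact absurd (AddSubgroup.index_eq_one.mp (by rw [AddSubgroup.index_eq_card, hk, pow_zero])) hN
      · exact hk ▸ dvd_pow_self p k.succ_ne_zero
    have h0 : (0 : A ⧸ N) ∈ MulAction.fixedPoints B (A ⧸ N) := fun b => by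
      change QuotientAddGroup.map N N _ _ (0 : A ⧸ N) = 0
      exact map_zero _
    obtain ⟨q, hq, hq0⟩ := hB.exists_fixed_point_of_prime_dvd_card_of_fixed_point
      (A ⧸ N) hd h0
    induction q using QuotientAddGroup.induction_on with
    | H a =>
      refine ⟨a, fun h => hq0 ((QuotientAddGroup.eq_zero_iff a).mpr h).symm, fun b hb => ?_⟩
      have h1 : ((ρ b a : A) : A ⧸ N) = (a : A ⧸ N) := hq ⟨b, hb⟩
      exact (QuotientAddGroup.eq_iff_sub_mem).mp h1
  -- the homomorphism `b ↦ [x, b]` modulo `C`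
  let β : Additive B →+ A ⧸ C :=
    AddMonoidHom.mk' (fun b => ((ρ ((Additive.toMul b : B) : H) x - x : A) : A ⧸ C)) (by
      intro b c
      rw [← QuotientAddGroup.mk_add, QuotientAddGroup.eq_iff_sub_mem]
      set b' : H := ((Additive.toMul b : B) : H)
      set c' : H := ((Additive.toMul c : B) : H)
      have : ρ (((Additive.toMul (b + c) : B)) : H) x - x - ((ρ b' x - x) + (ρ c' x - x)) =
          ρ b' (ρ c' x - x) - (ρ c' x - x) := by
        rw [toMul_add, Subgroup.coe_mul, map_mul, map_sub]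
        change ρ b' (ρ c' x) - x - _ = _
        abel
      rw [this]
      exact hxN c' (Additive.toMul c).2 b' (Additive.toMul b).2)
  let B0 : Subgroup H := B ⊓ H59.stab ρ {d | ∃ b' ∈ B, d = ρ b' x - x}
  have hker : Nat.card β.ker ≤ Nat.card B0 := by
    have hm : ∀ z : β.ker, ((Additive.toMul (z : Additive B) : B) : H) ∈ B0 := by
      rintro ⟨z, hz⟩
      refine ⟨(Additive.toMul z).2, ?_⟩
      rintro d ⟨c, hc', rfl⟩
      have h1 : ρ ((Additive.toMul z : B) : H) x - x ∈ C :=
        (QuotientAddGroup.eq_zero_iff _).mp hz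
      have h2 := h1 c hc'
      rw [map_sub, ← hcc _ (Additive.toMul z).2 c hc'] at h2
      rw [map_sub]
      exact sub_eq_sub_iff_add_eq_add.mpr (by
        have := sub_eq_sub_iff_add_eq_add.mp h2
        rw [this]; abel)
    refine Nat.card_le_card_of_injective (fun z => (⟨_, hm z⟩ : B0)) ?_
    intro z z' h
    apply Subtype.ext
    apply Additive.toMul.injective
    apply Subtype.ext
    exact congrArg (fun w : B0 => (w : H)) h
  let K : AddSubgroup A := β.range.comap (QuotientAddGroup.mk' C)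
  have hK : ∀ a ∈ K, ∃ b ∈ B, a - (ρ b x - x) ∈ C := by
    rintro a ⟨b, hb⟩
    exact ⟨_, (Additive.toMul b).2, QuotientAddGroup.eq_iff_sub_mem.mp hb.symm⟩
  have hKN : K ≤ N := fun a ha => by
    obtain ⟨b, hb, h⟩ := hK a ha
    have := add_mem (hCN h) (hxN b hb)
    rwa [sub_add_cancel] at this
  have hKB0 : K ≤ H59.fixed ρ B0 := fun a ha b0 hb0 => by
    obtain ⟨b, hb, h⟩ := hK a ha
    have h1 := h b0 hb0.1
    have h2 : ρ b0 (ρ b x - x) = ρ b x - x := hb0.2 _ ⟨b, hb, rfl⟩
    rw [map_sub, h2] at h1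
    exact sub_left_inj.mp h1
  have hcard : Nat.card A ≤ Nat.card B0 * Nat.card K := by
    have h1 : Nat.card K = Nat.card β.range * Nat.card C := by
      have e1 := AddSubgroup.card_mul_index K
      have e2 := AddSubgroup.card_mul_index C
      have e3 := AddSubgroup.card_mul_index β.range
      have e4 : K.index = β.range.index :=
        AddSubgroup.index_comap_of_surjective _ (QuotientAddGroup.mk'_surjective C)
      rw [e4] at e1
      rw [AddSubgroup.index_eq_card] at e2
      rw [← e3] at e2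
      have hpos : 0 < β.range.index := Nat.pos_of_ne_zero AddSubgroup.index_ne_zero_of_finite
      apply Nat.eq_of_mul_eq_mul_right hpos
      rw [e1, ← e2]; ring
    have h2 : Nat.card B = Nat.card β.ker * Nat.card β.range := by
      rw [Nat.card_congr (Additive.ofMul : B ≃ Additive B), ← AddSubgroup.card_mul_index β.ker,
        AddSubgroup.index_ker]
    calc Nat.card A ≤ Nat.card B * Nat.card C := hoff
      _ = Nat.card β.ker * Nat.card K := by rw [h2, h1]; ring
      _ ≤ Nat.card B0 * Nat.card K := Nat.mul_le_mul_right _ hker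
  have hoff0 : H59.IsOff ρ B0 :=
    hcard.trans (Nat.mul_le_mul_left _ (AddSubgroup.card_le_of_le hKB0))
  rcases hmin B0 inf_le_left hoff0 with h0 | h0
  · rw [h0, Subgroup.card_bot, one_mul] at hcard
    exact hN (AddSubgroup.eq_top_of_le_card _
      (hcard.trans (AddSubgroup.card_le_of_le hKN)))
  · apply hx
    intro b hb b' hb'
    have : b' ∈ B0 := h0 ▸ hb'
    exact this.2 _ ⟨b, hb, rfl⟩

end Quadratic

/-- Glauberman's covering lemma: a normal subgroup centralizing the `p`-th powers of a central subgroup has a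
Sylow intersection which is not normal or contains `J(T)`. -/
theorem exists_cover {p : ℕ} [Fact p.Prime] {G : Type u} [Group G] [Finite G] (T : Sylow p G) (W : Subgroup G)
    [W.Normal] (hW : IsMulCommutative W) (hWT : W ≤ T) (Z : Subgroup G) (hZW : Z ≤ W)
    (hcT : ∀ t ∈ (T : Subgroup G), ∀ z ∈ Z, Commute t z) :
    ∃ N : Subgroup G, N.Normal ∧ (∀ g ∈ N, ∀ z ∈ Z, Commute g (z ^ p)) ∧
      (normalizer (((T : Subgroup G) ⊓ N : Subgroup G) : Set G) ≠ ⊤ ∨
        thompsonSubgroupAOf (T : Subgroup G) ≤ N) := by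
    classical
    by_contra hcon
    simp only [not_exists, not_and, not_or, not_not] at hcon
    set Wn := normalClosure (Z : Set G) with hWn
    have hWnW : Wn ≤ W := normalClosure_le_normal hZW
    have hWnc : IsMulCommutative Wn := isMulCommutative_of_le hW hWnW
    have hZWn : Z ≤ Wn := subset_normalClosure
    set C := centralizer (Wn : Set G) with hC
    have hCZ : ∀ g ∈ C, ∀ z ∈ Z, Commute g (z ^ p) := fun g hg z hz =>
      Commute.pow_right (mem_centralizer_iff.mp hg z (hZWn hz)).symm p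
    have hnormT : ∀ U : Subgroup G, U.Normal → U ≤ T → U ≤ C := by
      intro U hU hUT u hu
      have hle : Wn ≤ centralizer (U : Set G) := normalClosure_le_normal (N := centralizer (U : Set G))
        fun z hz => mem_centralizer_iff.mpr fun t ht => (hcT t (hUT ht) z hz).eq
      exact mem_centralizer_iff.mpr fun w hw => (mem_centralizer_iff.mp (hle hw) u hu).symm
    -- a `p`-element centralizing the `p`-th powers of `Wn` centralizes `Wn`
    let Cn : Subgroup G := ⨅ w ∈ Wn, centralizer ({w ^ p} : Set G)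
    have hCn : ∀ g, g ∈ Cn ↔ ∀ w ∈ Wn, Commute (w ^ p) g := fun g => by
      simp only [Cn, Subgroup.mem_iInf, mem_centralizer_iff, Set.mem_singleton_iff, forall_eq]
      rfl
    haveI : Cn.Normal := ⟨fun g hg c => (hCn _).mpr fun w hw => by
      have h1 := (hCn g).mp hg _ (by simpa using Normal.conj_mem (inferInstance : Wn.Normal) w hw c⁻¹ :
        c⁻¹ * w * c ∈ Wn)
      have e : w ^ p = c * (c⁻¹ * w * c) ^ p * c⁻¹ := by
        rw [show c⁻¹ * w * c = c⁻¹ * w * c⁻¹⁻¹ by rw [inv_inv], conj_pow]; group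
      rw [e]
      exact (Commute.conj_iff c).mpr h1⟩
    have hTCn : ∀ t ∈ (T : Subgroup G), t ∈ Cn → t ∈ C := fun t ht htC =>
      hnormT _ (normalizer_eq_top_iff.mp (hcon Cn inferInstance
        fun g hg z hz => ((hCn g).mp hg z (hZWn hz)).symm).1) inf_le_left (mem_inf.mpr ⟨ht, htC⟩)
    -- an abelian subgroup of largest order outside `C`
    obtain ⟨A, hA, hAC⟩ : ∃ A, IsMaxAbelianIn (T : Subgroup G) A ∧ ¬ A ≤ C :=
      exists_maxAbelian_not_le (hcon C inferInstance hCZ).2
    -- the module `Wn` for `G ⧸ C`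
    letI : CommGroup Wn := { (inferInstance : Group Wn) with mul_comm := hWnc.is_comm.comm }
    let ρ0 : G →* AddMonoid.End (Additive Wn) :=
      { toFun := fun g => MonoidHom.toAdditive ((MulAut.conjNormal g : MulAut Wn).toMonoidHom)
        map_one' := by
          refine AddMonoidHom.ext fun a => ?_
          change Additive.ofMul ((MulAut.conjNormal (1 : G) : MulAut Wn) (Additive.toMul a)) = a
          simp
        map_mul' := fun g h => by
          refine AddMonoidHom.ext fun a => ?_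
          change Additive.ofMul ((MulAut.conjNormal (g * h) : MulAut Wn) (Additive.toMul a)) =
            Additive.ofMul ((MulAut.conjNormal g : MulAut Wn)
              ((MulAut.conjNormal h : MulAut Wn) (Additive.toMul a)))
          rw [map_mul]; rfl }
    have hρ0 : ∀ (g : G) (a : Additive Wn),
        ((Additive.toMul (ρ0 g a) : Wn) : G) = g * ((Additive.toMul a : Wn) : G) * g⁻¹ := fun g a => rfl
    have hC0 : C ≤ ρ0.ker := fun c hc => MonoidHom.mem_ker.mpr (AddMonoidHom.ext fun a =>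
      Additive.toMul.injective (Subtype.ext (show c * ((Additive.toMul a : Wn) : G) * c⁻¹ = _ from
        mul_inv_eq_iff_eq_mul.mpr (mem_centralizer_iff.mp hc _ (Additive.toMul a).2).symm)))
    let ρ : G ⧸ C →* AddMonoid.End (Additive Wn) := QuotientGroup.lift C ρ0 hC0
    set f := QuotientGroup.mk' C with hf
    set B := A.map f with hB
    have hWnT : Wn ≤ T := hWnW.trans hWT
    have hoff : H59.IsOff ρ B := by
      have hab : IsMulCommutative ↥((A ⊓ C) ⊔ Wn) := by
        have h1 : ((A ⊓ C : Subgroup G) : Set G) ∪ (Wn : Set G) ⊆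
            centralizer (((A ⊓ C : Subgroup G) : Set G) ∪ (Wn : Set G)) := by
          rintro u (hu | hu) v (hv | hv)
          · exact (hA.commute hv.1 hu.1).eq
          · exact mem_centralizer_iff.mp hu.2 v hv
          · exact (mem_centralizer_iff.mp hv.2 u hu).symm
          · exact congrArg (fun z : Wn => (z : G)) (hWnc.is_comm.comm (⟨v, hv⟩ : Wn) ⟨u, hu⟩)
        have h2 : (A ⊓ C) ⊔ Wn ≤ centralizer (((A ⊓ C) ⊔ Wn : Subgroup G) : Set G) := by
          rw [← Subgroup.closure_eq (A ⊓ C), ← Subgroup.closure_eq Wn, ← Subgroup.closure_union,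
            centralizer_closure, closure_le]
          exact h1
        exact ⟨⟨fun u v => Subtype.ext (mem_centralizer_iff.mp (h2 v.2) _ u.2)⟩⟩
      have h1 := hA.2.2 _ (sup_le (inf_le_left.trans hA.1) hWnT) hab
      have h2 := Cores.card_sup_mul_card_inf (A ⊓ C) Wn
      have h3 : Nat.card ↥(A ⊓ C ⊓ Wn) ≤ Nat.card (H59.fixed ρ B) := by
        refine Nat.card_le_card_of_injective (fun x => (⟨Additive.ofMul (⟨x, x.2.2⟩ : Wn), ?_⟩ :
          H59.fixed ρ B)) (fun x y h => Subtype.ext ?_)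
        · rintro _ ⟨a, ha, rfl⟩
          apply Additive.toMul.injective
          apply Subtype.ext
          change a * (x : G) * a⁻¹ = (x : G)
          exact mul_inv_eq_iff_eq_mul.mpr (hA.commute ha x.2.1.1).eq
        · exact congrArg (fun z : H59.fixed ρ B => ((Additive.toMul (z : Additive Wn) : Wn) : G)) h
      have h5 : Nat.card B * Nat.card ↥(A ⊓ C) = Nat.card A := by
        have h := card_mul_index ((f.domRestrict A).ker)
        rw [index_ker] at h
        rw [← h, MonoidHom.domRestrict_range, mul_comm]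
        congr 1
        refine (Nat.card_congr (Equiv.subtypeEquivRight fun a => ?_)).trans
          (Nat.card_congr ((Equiv.subtypeSubtypeEquivSubtypeInter _ _))) |>.symm
        exact QuotientGroup.eq_one_iff (a : G)
      have h4 : Nat.card ↥(A ⊓ C) * Nat.card Wn ≤
          Nat.card ↥(A ⊓ C) * (Nat.card B * Nat.card (H59.fixed ρ B)) := by
        calc Nat.card ↥(A ⊓ C) * Nat.card Wn
            = Nat.card ↥((A ⊓ C) ⊔ Wn) * Nat.card ↥(A ⊓ C ⊓ Wn) := h2.symm
          _ ≤ Nat.card A * Nat.card (H59.fixed ρ B) := Nat.mul_le_mul h1 h3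
          _ = _ := by rw [← h5]; ring
      exact (Nat.card_congr (Additive.toMul : Additive Wn ≃ Wn)).trans_le
        (Nat.le_of_mul_le_mul_left h4 Nat.card_pos)
    have hBne : B ≠ ⊥ := fun h => hAC fun a ha => by
      have h1 : f a ∈ B := mem_map_of_mem _ ha
      rw [h, mem_bot] at h1
      exact (QuotientGroup.eq_one_iff a).mp h1
    obtain ⟨Bm, hBm⟩ := (Set.toFinite {B0 : Subgroup (G ⧸ C) | B0 ≤ B ∧ B0 ≠ ⊥ ∧ H59.IsOff ρ B0}).exists_minimal
      ⟨B, le_rfl, hBne, hoff⟩
    obtain ⟨hle, hne, hoffm⟩ := hBm.prop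
    have hBp : IsPGroup p Bm := ((T.isPGroup'.to_le hA.1).map f).to_le hle
    have hBc : IsMulCommutative Bm := isMulCommutative_of_le (H59.isMulCommutative_map f hA.2.1) hle
    obtain ⟨m, hm⟩ := IsPGroup.iff_card.mp (T.isPGroup'.to_le hWnT)
    have hquad := quadratic_of_minimal_pGroup (p := p) ρ
      ⟨m, (Nat.card_congr (Additive.toMul : Additive Wn ≃ Wn)).trans hm⟩ Bm hBp hBc hoffm fun B0 h1 h2 => by
        by_cases h : B0 = ⊥
        · exact Or.inl h
        · exact Or.inr (hBm.eq_of_le ⟨h1.trans hle, h, h2⟩ h1)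
    -- an element of order `p`
    obtain ⟨b, hb, hb1, hbp⟩ : ∃ b ∈ Bm, b ≠ 1 ∧ b ^ p = 1 := by
      obtain ⟨⟨c, hc⟩, hc1⟩ := Subgroup.ne_bot_iff_exists_ne_one.mp hne
      have hc1' : c ≠ 1 := fun h => hc1 (Subtype.ext h)
      obtain ⟨k, hk⟩ := hBp ⟨c, hc⟩
      have hk' : c ^ p ^ k = 1 := congrArg Subtype.val hk
      obtain ⟨i, -, hi⟩ := (Nat.dvd_prime_pow (Fact.out : p.Prime)).mp (orderOf_dvd_of_pow_eq_one hk')
      obtain ⟨i, rfl⟩ : ∃ j, i = j + 1 := ⟨i - 1, by
        have : i ≠ 0 := fun h => hc1' (orderOf_eq_one_iff.mp (by rw [hi, h, pow_zero]))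
        omega⟩
      refine ⟨c ^ p ^ i, pow_mem hc _, fun h => ?_, by rw [← pow_mul, ← pow_succ, ← hi, pow_orderOf_eq_one]⟩
      have h2 := Nat.le_of_dvd (pow_pos (Fact.out : p.Prime).pos _) (orderOf_dvd_of_pow_eq_one h)
      rw [hi] at h2
      exact absurd h2 (not_le.mpr (Nat.pow_lt_pow_right (Fact.out : p.Prime).one_lt (by omega)))
    obtain ⟨g, hgA, rfl⟩ := hle hb
    refine hb1 ((QuotientGroup.eq_one_iff g).mpr (hTCn g (hA.1 hgA) ((hCn g).mpr fun w hw => ?_)))
    -- quadratic elements of order `p` fix the `p`-th powers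
    set a : Additive Wn := Additive.ofMul ⟨w, hw⟩ with ha
    set d := ρ (f g) a - a with hd
    have hfixd : ρ (f g) d = d := hquad _ hb _ hb a
    have hiter : ∀ k : ℕ, ρ (f g ^ k) a = a + k • d := by
      intro k
      induction k with
      | zero => simp
      | succ k ih =>
        rw [pow_succ', map_mul]
        change ρ (f g) (ρ (f g ^ k) a) = _
        rw [ih, map_add, map_nsmul, hfixd, succ_nsmul', hd]
        abel
    have h0 := hiter p
    rw [hbp, map_one] at h0
    have hpd : p • d = 0 := left_eq_add.mp h0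
    have hfix : ρ (f g) (p • a) = p • a := by
      rw [map_nsmul, ← sub_eq_zero, ← nsmul_sub]; exact hpd
    have h6 : g * w ^ p * g⁻¹ = w ^ p := by
      have := congrArg (fun x : Additive Wn => ((Additive.toMul x : Wn) : G)) hfix
      simpa [ha, ρ, hf, hρ0] using this
    exact (mul_inv_eq_iff_eq_mul.mp h6).symm

/-- The covering lemma in a subgroup containing the Sylow subgroup. -/
theorem exists_cover_of_le {p : ℕ} [Fact p.Prime] {G : Type u} [Group G] [Finite G] (T : Sylow p G)
    (W : Subgroup G) [W.Normal] (hW : IsMulCommutative W) (hWT : W ≤ T) (Z : Subgroup G) (hZW : Z ≤ W)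
    (hcT : ∀ t ∈ (T : Subgroup G), ∀ z ∈ Z, Commute t z) {L : Subgroup G} (hTL : (T : Subgroup G) ≤ L) :
    ∃ N : Subgroup G, N ≤ L ∧ L ≤ normalizer (N : Set G) ∧ (∀ g ∈ N, ∀ z ∈ Z, Commute g (z ^ p)) ∧
      (¬ L ≤ normalizer (((T : Subgroup G) ⊓ N : Subgroup G) : Set G) ∨
        thompsonSubgroupAOf (T : Subgroup G) ≤ N) := by
  have hmap : ((T.subtype hTL : Sylow p L) : Subgroup L).map L.subtype = (T : Subgroup G) := by
    rw [Sylow.coe_subtype, map_subgroupOf_eq_of_le hTL]
  have hWc : IsMulCommutative (W.subgroupOf L) := ⟨⟨fun a b => Subtype.ext (Subtype.ext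
    (congrArg (fun z : W => (z : G)) (hW.is_comm.comm (⟨((a : L) : G), a.2⟩ : W) ⟨((b : L) : G), b.2⟩)))⟩⟩
  obtain ⟨N, hN, hc, hor⟩ := exists_cover (T.subtype hTL) (W.subgroupOf L) hWc
    (fun u hu => by rw [Sylow.coe_subtype]; exact hWT hu) (Z.subgroupOf L) (fun u hu => hZW hu)
    (fun t ht z hz => Subtype.ext (hcT t (by rwa [Sylow.coe_subtype] at ht) z hz).eq)
  refine ⟨N.map L.subtype, map_subtype_le N, fun l hl => H59.mem_normalizer_of_forall ?_, ?_, ?_⟩
  · rintro _ ⟨u, hu, rfl⟩
    exact ⟨_, hN.conj_mem u hu ⟨l, hl⟩, rfl⟩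
  · rintro _ ⟨g, hg, rfl⟩ z hz
    exact congrArg L.subtype (hc g hg ⟨z, hTL (hWT (hZW hz))⟩ hz).eq
  · rcases hor with h | h
    · refine Or.inl fun hle => h (eq_top_iff.mpr fun l _ => H59.mem_normalizer_of_forall fun u hu => ?_)
      have h1 : (u : G) ∈ (T : Subgroup G) ⊓ N.map L.subtype :=
        ⟨hmap ▸ mem_map_of_mem L.subtype (mem_inf.mp hu).1, mem_map_of_mem L.subtype (mem_inf.mp hu).2⟩
      obtain ⟨h2, h3⟩ := mem_inf.mp ((mem_normalizer_iff.mp (hle l.2) _).1 h1)
      rw [show (l : G) * (u : G) * (l : G)⁻¹ = L.subtype (l * u * l⁻¹) by simp] at h2 h3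
      refine mem_inf.mpr ⟨?_, (mem_map_iff_mem L.subtype_injective).mp h3⟩
      rw [← hmap] at h2
      exact (mem_map_iff_mem L.subtype_injective).mp h2
    · refine Or.inr ?_
      rw [← hmap, H59.thompsonAOf_map _ _ L.subtype_injective.injOn]
      exact map_mono h

/-- The Frattini argument, adapted to a subgroup carried into the Sylow subgroup. -/
theorem exists_factor {p : ℕ} [Fact p.Prime] {G : Type u} [Group G] [Finite G] (T : Sylow p G)
    (N : Subgroup G) [N.Normal] {P : Subgroup G} (hP : P ≤ T) {g : G}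
    (hgP : ∀ x ∈ P, g * x * g⁻¹ ∈ (T : Subgroup G)) :
    ∃ c ∈ N, ∃ n ∈ normalizer (((T : Subgroup G) ⊓ N : Subgroup G) : Set G),
      g = n * c ∧ ∀ x ∈ P, c * x * c⁻¹ ∈ (T : Subgroup G) := by
  classical
  set D := (T : Subgroup G) ⊓ N with hD
  obtain ⟨Q, hQ⟩ := Thompson.exists_sylow_inf_normal T N
  have hfr := Sylow.normalizer_sup_eq_top Q
  rw [hQ] at hfr
  obtain ⟨y, hy, z, hz, rfl⟩ := Subgroup.mem_sup_of_normal_right.mp
    (hfr ▸ mem_top g : g ∈ normalizer (D : Set G) ⊔ N)
  have hTD : (T : Subgroup G) ≤ normalizer (D : Set G) := fun t ht =>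
    H59.mem_normalizer_of_forall fun u hu =>
      mem_inf.mpr ⟨mul_mem (mul_mem ht (mem_inf.mp hu).1) (inv_mem ht),
        (inferInstance : N.Normal).conj_mem u (mem_inf.mp hu).2 t⟩
  set M := N ⊓ normalizer (D : Set G) with hM
  have hTM : (T : Subgroup G) ≤ normalizer (M : Set G) := fun t ht =>
    H59.mem_normalizer_of_forall fun u hu => mem_inf.mpr ⟨(inferInstance : N.Normal).conj_mem u hu.1 t,
      mul_mem (mul_mem (hTD ht) hu.2) (inv_mem (hTD ht))⟩
  set X := (T : Subgroup G) ⊔ M with hX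
  have hQX : P.map (MulAut.conj z).toMonoidHom ≤ X := by
    rintro _ ⟨x, hx, rfl⟩
    change z * x * z⁻¹ ∈ X
    have h1 : z * x * z⁻¹ ∈ normalizer (D : Set G) := by
      have h2 := hTD (hgP x hx)
      rw [show z * x * z⁻¹ = y⁻¹ * (y * z * x * (y * z)⁻¹) * y by group]
      exact mul_mem (mul_mem (inv_mem hy) h2) hy
    rw [show z * x * z⁻¹ = x * (x⁻¹ * (z * x * z⁻¹)) by group]
    refine mul_mem (mem_sup_left (hP hx)) (mem_sup_right (mem_inf.mpr ⟨?_, mul_mem (inv_mem (hTD (hP hx))) h1⟩))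
    rw [show x⁻¹ * (z * x * z⁻¹) = x⁻¹ * z * x⁻¹⁻¹ * z⁻¹ by group]
    exact mul_mem ((inferInstance : N.Normal).conj_mem z hz x⁻¹) (inv_mem hz)
  have hQp : IsPGroup p ((P.map (MulAut.conj z).toMonoidHom).subgroupOf X) :=
    ((T.isPGroup'.to_le hP).map _).comap_of_injective _ X.subtype_injective
  obtain ⟨T', hT'⟩ := hQp.exists_le_sylow
  obtain ⟨w, hw⟩ := MulAction.exists_smul_eq X T' (T.subtype (le_sup_left : (T : Subgroup G) ≤ X))
  obtain ⟨t, ht, e, he, hte⟩ : ∃ t ∈ (T : Subgroup G), ∃ e ∈ M, t * e = (w : G) := by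
    have h1 : ((w : G)) ∈ ((T : Subgroup G) : Set G) * (M : Set G) := by
      rw [← coe_mul_of_left_le_normalizer_right (T : Subgroup G) M hTM]
      exact w.2
    exact Set.mem_mul.mp h1
  refine ⟨e * z, mul_mem he.1 hz, y * e⁻¹, mul_mem hy (inv_mem he.2), by group, fun x hx => ?_⟩
  have h1 : (⟨z * x * z⁻¹, hQX ⟨x, hx, rfl⟩⟩ : X) ∈ (T' : Subgroup X) :=
    hT' (show z * x * z⁻¹ ∈ P.map (MulAut.conj z).toMonoidHom from ⟨x, hx, rfl⟩)
  have h2 : MulAut.conj w ⟨z * x * z⁻¹, hQX ⟨x, hx, rfl⟩⟩ ∈ ((T.subtype (le_sup_left : (T : Subgroup G) ≤ X) : Sylow p X) : Subgroup X) := by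
    rw [← hw, Sylow.coe_subgroup_smul]
    exact Subgroup.smul_mem_pointwise_smul _ _ _ h1
  rw [Sylow.coe_subtype, mem_subgroupOf] at h2
  simp only [MulAut.conj_apply, Subgroup.coe_mul, Subgroup.coe_inv, ← hte] at h2
  have h3 := mul_mem (mul_mem (inv_mem ht) h2) ht
  convert h3 using 1
  group

/-- The Frattini argument in a subgroup containing the Sylow subgroup. -/
theorem exists_factor_of_le {p : ℕ} [Fact p.Prime] {G : Type u} [Group G] [Finite G] (T : Sylow p G)
    {L N : Subgroup G} (hTL : (T : Subgroup G) ≤ L) (hNL : N ≤ L) (hLN : L ≤ normalizer (N : Set G))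
    {P : Subgroup G} (hP : P ≤ T) {g : G} (hg : g ∈ L)
    (hgP : ∀ x ∈ P, g * x * g⁻¹ ∈ (T : Subgroup G)) :
    ∃ c ∈ N, ∃ n ∈ L ⊓ normalizer (((T : Subgroup G) ⊓ N : Subgroup G) : Set G),
      g = n * c ∧ ∀ x ∈ P, c * x * c⁻¹ ∈ (T : Subgroup G) := by
  haveI : (N.subgroupOf L).Normal := (normal_subgroupOf_iff_le_normalizer hNL).mpr hLN
  have hcoe : ∀ u : L, u ∈ ((T.subtype hTL : Sylow p L) : Subgroup L) ↔ (u : G) ∈ (T : Subgroup G) :=
    fun u => by rw [Sylow.coe_subtype, mem_subgroupOf]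
  obtain ⟨c, hc, n, hn, he, hcP⟩ := exists_factor (T.subtype hTL) (N.subgroupOf L)
    (P := P.subgroupOf L) (fun u hu => (hcoe u).mpr (hP hu)) (g := (⟨g, hg⟩ : L))
    (fun x hx => (hcoe _).mpr (hgP x hx))
  refine ⟨c, hc, n, ⟨n.2, H59.mem_normalizer_of_forall fun u hu => ?_⟩, congrArg Subtype.val he,
    fun x hx => (hcoe _).mp (hcP ⟨x, hTL (hP hx)⟩ hx)⟩
  have hu' : (⟨u, hTL hu.1⟩ : L) ∈ ((T.subtype hTL : Sylow p L) : Subgroup L) ⊓ N.subgroupOf L :=
    ⟨(hcoe _).mpr hu.1, hu.2⟩
  obtain ⟨h1, h2⟩ := (mem_normalizer_iff.mp hn _).1 hu'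
  exact ⟨(hcoe _).mp h1, h2⟩

end Cfsg.Agent.H85
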