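import Cfsg.Agent.FusionSys.ModelFacts
import Cfsg.Agent.FusionSys.Alperin
import Cfsg.Agent.FusionSys.KInstances
import Cfsg.Agent.FusionSys.Normal
import Cfsg.Agent.H59.ThompsonMain
import Cfsg.Agent.H61.CharP

/-!
A saturated fusion system that is not inner has a model in which the fusion is concentrated: the model
of the normalizer of a centric subgroup `R` whose automorphism group is not a `p`-group, with `N_S(R)` as
large as possible.
-/

set_option autoImplicit false
set_option linter.style.haveILetI false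

namespace Cfsg.Agent.H85

open Cfsg Cfsg.FusionSystem Cfsg.Agent.FusionSys

universe u v

variable {Ω : Type u} [Group Ω] {S : Subgroup Ω} [Finite S] {p : ℕ} [Fact p.Prime] {F : FusionSystem S}

omit [Finite S] [Fact p.Prime] in
theorem autMap_pow_eq {P : Subgroup Ω} (α : MulAut P) {g : Ω → Ω} (hg : ∀ x ∈ P, autMap α x = g x)
    (n : ℕ) {x : Ω} (hx : x ∈ P) : autMap (α ^ n) x = g^[n] x := by
  induction n generalizing x with
  | zero => rw [pow_zero, autMap_apply _ hx]; rfl
  | succ n ih =>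
    rw [pow_succ, autMap_mul _ _ hx, ih (autMap_mem α hx), hg x hx, Function.iterate_succ_apply]

/-- A system all whose centric fully normalized subgroups have `p`-groups of automorphisms is inner. -/
theorem eq_inner_of_isPGroup (hS : IsPGroup p S) (hF : F.IsSaturated p)
    (h : ∀ R, F.IsFullyNormalized R → F.IsCentric R → IsPGroup p (F.autGroup R)) :
    ∀ P : Subgroup Ω, F.Hom P = (innerFusionSystem S).Hom P := by
  suffices hle : F ≤ innerFusionSystem S from
    fun P => congrArg (fun E : FusionSystem S => E.Hom P) (le_antisymm' hle (innerFusionSystem_le F))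
  refine le_of_autGroup_essential hS hF fun P hP => ?_
  rcases hP with rfl | hP
  · haveI := finite_autGroup F (le_refl P)
    have hp := h P (isFullyNormalized_S F) (isCentric_S F)
    have h2 := (isFullyAutomized_iff hS).1
      (isFullyAutomized_of_isFullyNormalized hS hF (isFullyNormalized_S F))
    have heq : (autInducedBy P P).subgroupOf (F.autGroup P) = ⊤ := by
      rw [← Subgroup.index_eq_one]
      obtain ⟨n, hn⟩ := hp.index ((autInducedBy P P).subgroupOf (F.autGroup P))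
      cases n with
      | zero => simpa using hn
      | succ n => exact absurd (Dvd.intro_left _ ((pow_succ p n).symm.trans hn.symm)) h2.2
    exact (Subgroup.subgroupOf_eq_top.1 heq).trans (autInducedBy_le_autGroup _ le_rfl)
  · haveI := finite_autGroup F hP.1.1
    have hp := h P hP.2.1 hP.1
    obtain ⟨-, -, hn, Y, hY⟩ := hP
    have hd := (isStronglyPEmbedded_iff.1 hY).1
    have hq := hp.to_quotient ((Inn P).subgroupOf (F.autGroup P))
    have htop : pCore p (↥(F.autGroup P) ⧸ (Inn P).subgroupOf (F.autGroup P)) = ⊤ :=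
      top_le_iff.1 (Cores.le_pCore (hq.of_equiv Subgroup.topEquiv.symm))
    have hbot := pCore_eq_bot_of_stronglyEmbedded hY (Cores.pCore_isPGroup (p := p))
    rw [htop] at hbot
    rw [← Subgroup.card_top, hbot, Subgroup.card_bot] at hd
    exact absurd hd (Fact.out : p.Prime).not_dvd_one

/-- From a subgroup with a non-`p`-group of automorphisms to a centric one with a normalizer at least as
large. -/
theorem exists_centric_bad (hS : IsPGroup p S) (hF : F.IsSaturated p) {W : Subgroup Ω} (hWS : W ≤ S)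
    (hW : ¬ IsPGroup p (F.autGroup W)) :
    ∃ R, F.IsFullyNormalized R ∧ F.IsCentric R ∧ ¬ IsPGroup p (F.autGroup R) ∧
      Nat.card (normalizerIn S W) ≤ Nat.card (normalizerIn S R) := by
  obtain ⟨W', hWW', hfn⟩ := exists_isFullyNormalized F hWS
  have hcard := hfn.2 W (isConj_symm hWW')
  have hbad : ¬ IsPGroup p (F.autGroup W') := by
    obtain ⟨f, hf⟩ := isConj_iff.1 (isConj_symm hWW')
    intro hp
    haveI := finite_autGroup F hWS
    haveI := finite_autGroup F hfn.1
    obtain ⟨n, hn⟩ := IsPGroup.iff_card.1 hp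
    exact hW (IsPGroup.of_card (n := n) (hf.card_autGroup ▸ hn))
  have hW'S := hfn.1
  haveI := finite_of_le (S := S) (P := centralizerIn S W') centralizerIn_le
  have hfc := isFullyCentralized_of_isFullyNormalized hS hF hfn
  set R0 := W' ⊔ centralizerIn S W' with hR0
  have hR0S : R0 ≤ S := sup_le hW'S centralizerIn_le
  haveI := finite_of_le hR0S
  have hcent : F.IsCentric R0 := by
    refine ⟨hR0S, fun Q hQ => ?_⟩
    obtain ⟨f, hf⟩ := isConj_iff.1 hQ
    have hfW : IsMap F W' f := hf.isMap.mono le_sup_left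
    have hbound := hfc.2 _ hfW.isIso.isConj
    intro x hx
    haveI := finite_of_le (S := S) (P := centralizerIn S (imgSub f W')) centralizerIn_le
    have hsub : f '' (centralizerIn S W' : Set Ω) = (centralizerIn S (imgSub f W') : Set Ω) := by
      refine Set.eq_of_subset_of_ncard_le ?_ ?_ (Set.toFinite _)
      · rintro _ ⟨c, hc, rfl⟩
        exact hf.isMap.mem_centralizerIn le_sup_left (Subgroup.mem_sup_right hc)
          (mem_centralizerIn.1 hc).2
      · rw [Set.InjOn.ncard_image (hf.isMap.injOn.mono fun c hc => Subgroup.mem_sup_right hc)]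
        exact hbound
    have hxc : x ∈ centralizerIn S (imgSub f W') := by
      refine mem_centralizerIn.2 ⟨hx.1, fun y hy => ?_⟩
      obtain ⟨a, ha, rfl⟩ := hfW.mem_imgSub.1 hy
      exact (mem_centralizerIn.1 hx).2 _ (hf.mem (Subgroup.mem_sup_left ha))
    obtain ⟨c, hc, rfl⟩ := hsub.ge hxc
    exact hf.mem (Subgroup.mem_sup_right hc)
  have hbad0 : ¬ IsPGroup p (F.autGroup R0) := by
    intro hp
    refine hbad fun α => ?_
    have hiso := isIso_autMap hW'S α.2
    obtain ⟨g, hg, hge⟩ := receptive_extend (receptive_of_isFullyNormalized hS hF hfn) hiso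
      (N := centralizerIn S W') fun x hx => hiso.isMap.inExt_of_centralizes hx
    have hgm : ∀ x ∈ R0, g x ∈ R0 := fun x hx => (hg.mono (sup_comm W' (centralizerIn S W')).le).mapsTo_sup
      (fun a ha => Subgroup.mem_sup_left (hge a ha ▸ autMap_mem _ ha))
      (fun a ha => Subgroup.mem_sup_right
        (hiso.mem_centralizerIn_of_extends hg le_sup_right hge (Subgroup.mem_sup_left ha) ha)) hx
    obtain ⟨β, hβ, hβe⟩ := (isIso_of_mapsTo (hg.mono (sup_comm W' (centralizerIn S W')).le) hgm).exists_aut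
    obtain ⟨k, hk⟩ := hp ⟨β, hβ⟩
    refine ⟨k, Subtype.ext (aut_ext fun x hx => ?_)⟩
    have hk' : β ^ p ^ k = 1 := congrArg Subtype.val hk
    show autMap ((α : MulAut W') ^ p ^ k) x = autMap 1 x
    rw [autMap_pow_eq (α : MulAut W') (fun y hy => (hge y hy).symm) _ hx,
      ← autMap_pow_eq β hβe _ (Subgroup.mem_sup_left hx), hk',
      autMap_one (Subgroup.mem_sup_left hx), autMap_one hx]
  have hn0 : normalizerIn S W' ≤ normalizerIn S R0 := by
    intro x hx
    refine ⟨hx.1, mem_normalizer_of_maps fun y hy => ?_⟩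
    refine (isMap_conj F hR0S hx.1).mapsTo_sup (C := R0)
      (fun a ha => Subgroup.mem_sup_left (conj_mem_of_mem_normalizerIn hx ha))
      (fun a ha => Subgroup.mem_sup_right (mem_centralizerIn.2 ⟨?_, fun b hb => ?_⟩)) hy
    · exact S.mul_mem (S.mul_mem hx.1 ha.1) (S.inv_mem hx.1)
    · have h1 := (mem_centralizerIn.1 ha).2 _ (conj_symm_mem_of_mem_normalizerIn hx hb)
      calc b * (x * a * x⁻¹) = x * (x⁻¹ * b * x * a) * x⁻¹ := by group
        _ = x * a * x⁻¹ * b := by rw [h1]; group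
  obtain ⟨R, hR0R, hR⟩ := exists_isFullyNormalized F hR0S
  haveI := finite_of_le (S := S) (P := normalizerIn S R0) normalizerIn_le
  refine ⟨R, hR, isCentric_of_isConj hcent hR0R, fun hp => hbad0 ?_, ?_⟩
  · obtain ⟨f, hf⟩ := isConj_iff.1 hR0R
    haveI := finite_autGroup F hR0S
    haveI := finite_autGroup F hR.1
    obtain ⟨n, hn⟩ := IsPGroup.iff_card.1 hp
    exact IsPGroup.of_card (n := n) (hf.card_autGroup ▸ hn)
  · exact hcard.trans ((Subgroup.card_le_of_le hn0).trans (hR.2 R0 (isConj_symm hR0R)))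

/-- If the system is not inner, some centric fully normalized subgroup with a non-`p`-group of
automorphisms has a normalizer at least as large as that of every subgroup with this property. -/
theorem exists_max_bad (hS : IsPGroup p S) (hF : F.IsSaturated p)
    (hne : ¬ ∀ P : Subgroup Ω, F.Hom P = (innerFusionSystem S).Hom P) :
    ∃ R, F.IsFullyNormalized R ∧ F.IsCentric R ∧ ¬ IsPGroup p (F.autGroup R) ∧
      ∀ W : Subgroup Ω, W ≤ S → Nat.card (normalizerIn S R) < Nat.card (normalizerIn S W) →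
        IsPGroup p (F.autGroup W) := by
  classical
  let P : ℕ → Prop := fun m => ∃ R, F.IsFullyNormalized R ∧ F.IsCentric R ∧
    ¬ IsPGroup p (F.autGroup R) ∧ Nat.card (normalizerIn S R) = m
  have hP : ∃ m, P m := by
    by_contra h
    exact hne (eq_inner_of_isPGroup hS hF fun R h1 h2 => by
      by_contra h3
      exact h ⟨_, R, h1, h2, h3, rfl⟩)
  obtain ⟨m, hm⟩ := hP
  have hbd : ∀ m, P m → m ≤ Nat.card S := fun m ⟨R, _, _, _, h⟩ =>
    h ▸ Subgroup.card_le_of_le normalizerIn_le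
  obtain ⟨R, h1, h2, h3, h4⟩ := Nat.findGreatest_spec (P := P) (hbd m hm) hm
  refine ⟨R, h1, h2, h3, fun W hWS hlt => ?_⟩
  by_contra hW
  obtain ⟨R', r1, r2, r3, r4⟩ := exists_centric_bad hS hF hWS hW
  have := Nat.le_findGreatest (P := P) (hbd _ ⟨R', r1, r2, r3, rfl⟩) ⟨R', r1, r2, r3, rfl⟩
  omega

/-- The model of the normalizer system of a fully normalized centric subgroup. -/
theorem exists_local_model (hS : IsPGroup p S) (hF : F.IsSaturated p) {R : Subgroup Ω}
    (hR : F.IsFullyNormalized R) (hc : F.IsCentric R) :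
    ∃ N : FusionSystem (normalizerIn S R), F.IsNormalizerSystem R N ∧
      ∃ (L : Type u) (_ : Group L) (ι : ↥(normalizerIn S R) →* L), N.IsModel p L ι := by
  haveI : Finite ↥(normalizerIn S R) := finite_of_le normalizerIn_le
  obtain ⟨N, hN⟩ := exists_normalizerSystem F hR.1
  have hk := isKSys_normalizer_iff.1 hN
  have hRT := le_normalizerIn_self hR.1
  have hnorm : N.IsNormal R := by
    refine isNormal_iff.2 ⟨hRT, fun P f hf => ?_⟩
    obtain ⟨hP, hfT, g, hg, he, hQ⟩ := (hk.map_iff P f).1 hf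
    refine ⟨g, (hk.map_iff _ g).2 ⟨sup_le hP hRT, fun x hx => hg.mapsTo_sup
      (fun a ha => (he a ha).symm ▸ hfT a ha) (fun a ha => hRT (hQ.mem ha)) hx,
      g, hg.mono (sup_le le_rfl le_sup_right), fun _ _ => rfl, hQ⟩, he,
      (onQ_top_iff hg le_sup_right).1 hQ⟩
  have hcN : N.IsCentric R := by
    refine ⟨hRT, fun Q hQ x hx => hc.2 Q ?_ ⟨hx.1.1, hx.2⟩⟩
    obtain ⟨f, hf⟩ := isConj_iff.1 hQ
    obtain ⟨-, -, g, hg, he, -⟩ := (hk.map_iff R f).1 hf.isMap
    exact (IsIso.mk ((hg.mono le_sup_left).congr fun y hy => (he y hy).symm) hf.image_eq).isConj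
  obtain ⟨L, hL, ι, hι⟩ := exists_model (hS.to_le normalizerIn_le) N
    ⟨isSaturated_normalizer hS hF hR hN, R, hnorm, hcN⟩
  exact ⟨N, hN, L, hL, ι, hι⟩

variable {R : Subgroup Ω} {N : FusionSystem (normalizerIn S R)} {L : Type v} [Group L]
  {ι : ↥(normalizerIn S R) →* L}

omit [Finite S] [Fact p.Prime] in
theorem isMap_of_normalizer (hN : F.IsNormalizerSystem R N) {P : Subgroup Ω} {f : Ω → Ω}
    (hf : IsMap N P f) : IsMap F P f := by
  obtain ⟨φ, hφ, he⟩ := hf
  rw [hN P] at hφ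
  exact ⟨φ, hφ.1, he⟩

/-- A model of a normalizer system with a non-`p`-group of automorphisms is not a `p`-group. -/
theorem not_isPGroup_model (hS : IsPGroup p S) (hR : F.IsFullyNormalized R)
    (hN : F.IsNormalizerSystem R N) (hL : N.IsModel p L ι) (hbad : ¬ IsPGroup p (F.autGroup R)) :
    ¬ IsPGroup p L := by
  haveI := hL.1
  intro hp
  refine hbad ((isPGroup_autInducedBy hS R).to_le fun α hα => ?_)
  obtain ⟨T, hT⟩ := hL.2.2.1
  have htop : ι.range = ⊤ := by
    rw [← hT]
    exact (T.3 (hp.of_equiv Subgroup.topEquiv.symm) le_top).symm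
  have hRT := le_normalizerIn_self hR.1
  have hk := isKSys_normalizer_iff.1 hN
  have hm : IsMap N R (autMap α) := (hk.map_iff _ _).2 ⟨hRT,
    fun x hx => hRT (autMap_mem α hx), autMap α,
    ((mem_autGroup_iff hR.1).1 hα).mono (sup_le le_rfl le_rfl), fun _ _ => rfl,
    α, Subgroup.mem_top _, fun _ _ => rfl⟩
  obtain ⟨-, g, hg⟩ := (isMap_realized_iff hL.2.1).1 hm
  obtain ⟨s, rfl⟩ : g ∈ ι.range := htop ▸ Subgroup.mem_top g
  refine mem_autInducedBy.2 ⟨s, s.2.1, s.2.2, aut_ext fun x hx => ?_⟩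
  obtain ⟨h, he⟩ := hg ⟨x, hRT hx⟩ hx
  rw [← map_inv, ← map_mul, ← map_mul] at he
  rw [autMap_conjAut s.2.2 hx]
  exact congrArg Subtype.val (hL.2.1.1 he)

/-- The map induced by an element of the model, together with its powers. -/
theorem exists_conj_map (hN : F.IsNormalizerSystem R N) (hL : N.IsModel p L ι) (g : L)
    {P : Subgroup Ω} (hP : P ≤ normalizerIn S R)
    (hg : ∀ x : ↥(normalizerIn S R), (x : Ω) ∈ P → g * ι x * g⁻¹ ∈ ι.range) :
    ∃ f, IsMap N P f ∧ IsMap F P f ∧
      ∀ x : ↥(normalizerIn S R), (x : Ω) ∈ P → ∀ h : f x ∈ normalizerIn S R,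
        ι ⟨f x, h⟩ = g * ι x * g⁻¹ := by
  let f : Ω → Ω := fun x => bwdFun hL.2.1.1 (g * homFun ι x * g⁻¹)
  have hf : ∀ x : ↥(normalizerIn S R), (x : Ω) ∈ P →
      ∃ h : f x ∈ normalizerIn S R, ι ⟨f x, h⟩ = g * ι x * g⁻¹ := fun x hx => by
    obtain ⟨s, hs⟩ := hg x hx
    have he : f x = s := by
      show bwdFun hL.2.1.1 (g * homFun ι x * g⁻¹) = s
      rw [homFun_coe, ← hs, bwdFun_apply]
    exact ⟨he.symm ▸ s.2, (congrArg ι (Subtype.ext he)).trans hs⟩
  have hm : IsMap N P f := (isMap_realized_iff hL.2.1).2 ⟨hP, g, hf⟩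
  exact ⟨f, hm, isMap_of_normalizer hN hm, fun x hx h => (hf x hx).2⟩

/-- Elements of order prime to `p` normalizing a subgroup with a `p`-group of automorphisms centralize
it. -/
theorem mem_centralizer_of_isPGroup_autGroup (hN : F.IsNormalizerSystem R N) (hL : N.IsModel p L ι)
    (K : Subgroup ↥(normalizerIn S R))
    (hW : IsPGroup p (F.autGroup (K.map (normalizerIn S R).subtype))) {g : L}
    (hg : g ∈ Subgroup.normalizer (K.map ι : Set L)) (hgo : (orderOf g).Coprime p) :
    g ∈ Subgroup.centralizer (K.map ι : Set L) := by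
  set W := K.map (normalizerIn S R).subtype with hWdef
  have hWT : W ≤ normalizerIn S R := Subgroup.map_subtype_le _
  have hmem : ∀ x : ↥(normalizerIn S R), (x : Ω) ∈ W → x ∈ K := by
    rintro x ⟨y, hy, e⟩
    obtain rfl : y = x := Subtype.ext e
    exact hy
  obtain ⟨f, hfN, hf, hfe⟩ := exists_conj_map hN hL g hWT fun x hx => by
    have := (Subgroup.mem_normalizer_iff.1 hg (ι x)).1 (Subgroup.mem_map_of_mem ι (hmem x hx))
    exact Subgroup.map_le_range ι K this
  have hfm : ∀ x ∈ W, f x ∈ W := by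
    intro x hx
    have hT : f x ∈ normalizerIn S R := hfN.mem_S hx
    have h1 := hfe ⟨x, hWT hx⟩ hx hT
    have h2 := (Subgroup.mem_normalizer_iff.1 hg (ι ⟨x, hWT hx⟩)).1
      (Subgroup.mem_map_of_mem ι (hmem ⟨x, hWT hx⟩ hx))
    rw [← h1, Subgroup.mem_map_iff_mem hL.2.1.1] at h2
    exact ⟨_, h2, rfl⟩
  haveI : Finite W := finite_of_le (hWT.trans normalizerIn_le)
  obtain ⟨α, hα, hαe⟩ := (isIso_of_mapsTo hf hfm).exists_aut
  obtain ⟨k, hk⟩ := hW ⟨α, hα⟩
  have hk' : α ^ p ^ k = 1 := congrArg Subtype.val hk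
  have key : ∀ (n : ℕ) (x : ↥(normalizerIn S R)), (x : Ω) ∈ W →
      ∀ h : f^[n] x ∈ normalizerIn S R, ι ⟨f^[n] x, h⟩ = g ^ n * ι x * (g ^ n)⁻¹ := by
    intro n
    induction n with
    | zero => intro x _ h; simp
    | succ n ih =>
      intro x hx h
      have hf1 := hfN.mem_S hx
      have h1 := hfe x hx hf1
      have h2 := ih ⟨f x, hf1⟩ (hfm _ hx) (by rwa [← Function.iterate_succ_apply])
      rw [show (⟨f^[n + 1] (x : Ω), h⟩ : ↥(normalizerIn S R)) =
        ⟨f^[n] (f x), by rwa [← Function.iterate_succ_apply]⟩ from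
          Subtype.ext (Function.iterate_succ_apply f n x), h2, h1, pow_succ]
      group
  obtain ⟨m, hm⟩ := exists_pow_eq_self_of_coprime (x := g) (n := p ^ k)
    (Nat.Coprime.pow_left k hgo.symm)
  rw [← hm]
  refine pow_mem (Subgroup.mem_centralizer_iff.2 ?_) m
  rintro _ ⟨x, hx, rfl⟩
  have hxW : (x : Ω) ∈ W := ⟨x, hx, rfl⟩
  have h1 : f^[p ^ k] (x : Ω) = x := by
    rw [← autMap_pow_eq α hαe _ hxW, hk', autMap_one hxW]
  have h2 := key (p ^ k) x hxW (h1.symm ▸ x.2)
  rw [show (⟨f^[p ^ k] (x : Ω), _⟩ : ↥(normalizerIn S R)) = x from Subtype.ext h1] at h2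
  exact eq_mul_inv_iff_mul_eq.1 h2

/-- An element of order prime to `p` that acts on `O_p(L)` as conjugation by an element of `S` is
trivial. -/
theorem eq_one_of_conj_eq (hS : IsPGroup p S) (hL : N.IsModel p L ι)
    {g : L} (hgo : (orderOf g).Coprime p) {s : Ω} (hs : s ∈ S)
    (hf : ∀ x : ↥(normalizerIn S R), (x : Ω) ∈ modelCore p ι →
      ∃ h : s * x * s⁻¹ ∈ normalizerIn S R, ι ⟨_, h⟩ = g * ι x * g⁻¹) : g = 1 := by
  haveI := hL.1
  haveI : Finite ↥(normalizerIn S R) := finite_of_le normalizerIn_le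
  have hstep : ∀ x : ↥(normalizerIn S R), (x : Ω) ∈ modelCore p ι →
      ∃ h : s * x * s⁻¹ ∈ normalizerIn S R,
        ι ⟨_, h⟩ = g * ι x * g⁻¹ ∧ s * x * s⁻¹ ∈ modelCore p ι := by
    intro x hx
    obtain ⟨h, he⟩ := hf x hx
    exact ⟨h, he, (mem_modelCore (x := ⟨_, h⟩)).2 (he ▸ conj_mem_pCore (mem_modelCore.1 hx) g)⟩
  obtain ⟨k, hk⟩ := hS ⟨s, hs⟩
  have hk' : s ^ p ^ k = 1 := congrArg Subtype.val hk
  have key : ∀ (n : ℕ) (x : ↥(normalizerIn S R)), (x : Ω) ∈ modelCore p ι →
      ∀ h : s ^ n * x * (s ^ n)⁻¹ ∈ normalizerIn S R,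
        ι ⟨_, h⟩ = g ^ n * ι x * (g ^ n)⁻¹ := by
    intro n
    induction n with
    | zero => intro x _ h; simp
    | succ n ih =>
      intro x hx h
      obtain ⟨h1, h2, h3⟩ := hstep x hx
      have he : s ^ (n + 1) * x * (s ^ (n + 1))⁻¹ = s ^ n * (s * x * s⁻¹) * (s ^ n)⁻¹ := by group
      have h4 := ih ⟨_, h1⟩ h3 (he ▸ h)
      rw [show (⟨s ^ (n + 1) * x * (s ^ (n + 1))⁻¹, h⟩ : ↥(normalizerIn S R)) =
        ⟨s ^ n * (s * x * s⁻¹) * (s ^ n)⁻¹, he ▸ h⟩ from Subtype.ext he, h4, h2]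
      group
  obtain ⟨m, hm⟩ := exists_pow_eq_self_of_coprime (x := g) (n := p ^ k)
    (Nat.Coprime.pow_left k hgo.symm)
  have hc : g ∈ Subgroup.centralizer ((pCore p L : Subgroup L) : Set L) := by
    rw [← hm]
    refine pow_mem (Subgroup.mem_centralizer_iff.2 fun y hy => ?_) m
    obtain ⟨x, rfl⟩ := pCore_le_range hL hy
    have h2 := key (p ^ k) x (mem_modelCore.2 hy) (by rw [hk']; simp)
    rw [show (⟨s ^ p ^ k * x * (s ^ p ^ k)⁻¹, _⟩ : ↥(normalizerIn S R)) = x from
      Subtype.ext (show s ^ p ^ k * (x : Ω) * (s ^ p ^ k)⁻¹ = x by rw [hk']; simp)] at h2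
    exact eq_mul_inv_iff_mul_eq.1 h2
  obtain ⟨j, hj⟩ := Cores.pCore_isPGroup (p := p) ⟨g, hL.2.2.2 hc⟩
  exact orderOf_eq_one_iff.1 (Nat.eq_one_of_dvd_coprimes (hgo.pow_right j) dvd_rfl
    (orderOf_dvd_of_pow_eq_one (congrArg Subtype.val hj)))

/-- `C_S(R) ≤ R` for a centric `R`, so `Z(S)` lies in `N_S(R)` and centralizes it. -/
theorem center_le_center_normalizerIn (hc : F.IsCentric R) :
    S ⊓ Subgroup.centralizer (S : Set Ω) ≤
      normalizerIn S R ⊓ Subgroup.centralizer (normalizerIn S R : Set Ω) := by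
  rintro z ⟨hz, hzc⟩
  have hzR : z ∈ R := centralizerIn_le_of_isCentric hc
    ⟨hz, Subgroup.centralizer_le hc.1 hzc⟩
  exact ⟨le_normalizerIn_self hc.1 hzR, Subgroup.centralizer_le normalizerIn_le hzc⟩

end Cfsg.Agent.H85
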