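import Cfsg.Agent.CharBasic.Complete
import Cfsg.Prelude.Def_Transfer
import Mathlib.GroupTheory.PGroup
import Mathlib.RingTheory.IntegralClosure.IntegrallyClosed
import Mathlib.RingTheory.Polynomial.RationalRoot

/-!
# Irreducible characters that are nonzero on exactly two conjugacy classes
-/

set_option linter.unusedSectionVars false

open Module
open scoped ComplexConjugate

namespace Cfsg.Agent.H85

open Cfsg.Agent.CharBasic

variable {G : Type*} [Group G] [Finite G]

/-- `χ` is nonzero on exactly two classes. -/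
def TwoClasses (χ : G → ℂ) : Prop :=
  Nat.card {C : ConjClasses G // ∃ g ∈ C.carrier, χ g ≠ 0} = 2

theorem card_conjugates_mul (c : G) :
    Nat.card {x : G // IsConj c x} * Nat.card (Subgroup.centralizer ({c} : Set G)) =
      Nat.card G := by
  have hmem : ∀ h : G, h ∈ Subgroup.centralizer ({c} : Set G) ↔ h * c = c * h := fun h =>
    Subgroup.mem_centralizer_singleton_iff
  let F : G ⧸ Subgroup.centralizer ({c} : Set G) → {x : G // IsConj c x} :=
    Quotient.lift (fun g => ⟨g * c * g⁻¹, isConj_iff.2 ⟨g, rfl⟩⟩) (by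
      intro a b hab
      have h := (hmem _).1 (QuotientGroup.leftRel_apply.1 hab)
      refine Subtype.ext ?_
      show a * c * a⁻¹ = b * c * b⁻¹
      calc a * c * a⁻¹ = a * (c * (a⁻¹ * b)) * b⁻¹ := by group
        _ = a * ((a⁻¹ * b) * c) * b⁻¹ := by rw [h]
        _ = b * c * b⁻¹ := by group)
  have hF : Function.Bijective F := by
    constructor
    · rintro ⟨a⟩ ⟨b⟩ hab
      have h : a * c * a⁻¹ = b * c * b⁻¹ := congrArg Subtype.val hab
      refine Quotient.sound (QuotientGroup.leftRel_apply.2 ((hmem _).2 ?_))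
      calc a⁻¹ * b * c = a⁻¹ * (b * c * b⁻¹) * b := by group
        _ = a⁻¹ * (a * c * a⁻¹) * b := by rw [h]
        _ = c * (a⁻¹ * b) := by group
    · rintro ⟨x, hx⟩
      obtain ⟨g, rfl⟩ := isConj_iff.1 hx
      exact ⟨(g : G ⧸ Subgroup.centralizer ({c} : Set G)), rfl⟩
  rw [← Nat.card_congr (Equiv.ofBijective F hF), mul_comm, ← Subgroup.index]
  exact Subgroup.card_mul_index _

/-- An element acting trivially can be cancelled inside a character. -/
theorem char_mul_eq {χ : G → ℂ} (hχ : Cfsg.IsCharacter G χ) {n : G} (h : χ n = χ 1) (g : G) :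
    χ (g * n) = χ g := by
  obtain ⟨k, ρ, rfl⟩ := hχ
  have h1 : ρ n = LinearMap.id := by
    rw [← character_eq_finrank_iff, h, Representation.char_one]
  simp only [Representation.character, map_mul, h1]
  rfl

theorem conj_apply_of_isChar {χ : G → ℂ} (hχ : Cfsg.IsCharacter G χ) (g x : G) :
    χ (g * x * g⁻¹) = χ x :=
  IsChar.isClassFunction hχ x g

theorem apply_eq_of_isConj {χ : G → ℂ} (hχ : Cfsg.IsClassFunction G χ) {x y : G}
    (h : IsConj x y) : χ y = χ x := by
  obtain ⟨g, rfl⟩ := isConj_iff.1 h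
  exact hχ x g

theorem sum_two_point [Fintype G] (f : G → ℂ) (c : G) (hc : c ≠ 1)
    (hsupp : ∀ g, f g ≠ 0 → g = 1 ∨ IsConj c g) (hconst : ∀ g, IsConj c g → f g = f c) :
    ∑ g, f g = f 1 + (Nat.card {x : G // IsConj c x} : ℂ) * f c := by
  classical
  have hdec : ∀ g : G, f g = (if g = 1 then f 1 else 0) + (if IsConj c g then f c else 0) := by
    intro g
    by_cases h1 : g = 1
    · subst h1
      rw [if_pos rfl, if_neg, add_zero]
      exact fun h => hc (isConj_one_left.1 h)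
    · by_cases h2 : IsConj c g
      · rw [if_neg h1, if_pos h2, zero_add, hconst g h2]
      · rw [if_neg h1, if_neg h2, add_zero]
        by_contra h
        exact (hsupp g h).elim h1 h2
  rw [Finset.sum_congr rfl fun g _ => hdec g, Finset.sum_add_distrib, Finset.sum_ite_eq',
    if_pos (Finset.mem_univ _), ← Finset.sum_filter, Finset.sum_const, nsmul_eq_mul,
    Nat.card_eq_fintype_card, Fintype.card_subtype]

/-- If all irreducible characters other than `χ` agree at `a` and `b`, then the difference of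
the values of a class function is a multiple of that of `χ`. -/
theorem classFunction_sub [Fintype G] {f : G → ℂ} (hf : Cfsg.IsClassFunction G f)
    (χ : Cfsg.IrrCharacter G) {a b : G}
    (h : ∀ ψ : Cfsg.IrrCharacter G, ψ ≠ χ → (ψ : G → ℂ) a = (ψ : G → ℂ) b) :
    f a - f b = Cfsg.classInner f (χ : G → ℂ) * ((χ : G → ℂ) a - (χ : G → ℂ) b) := by
  classical
  have hexp := classFunction_expansion hf
  conv_lhs => rw [hexp]
  simp only [Finset.sum_apply, Pi.smul_apply, smul_eq_mul, ← Finset.sum_sub_distrib, ← mul_sub]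
  refine Finset.sum_eq_single χ (fun ψ _ hψ => ?_) (fun h' => absurd (Finset.mem_univ _) h')
  rw [h ψ hψ, sub_self, mul_zero]

theorem exists_class {χ : G → ℂ} (hcl : Cfsg.IsClassFunction G χ) (h1 : χ 1 ≠ 0)
    (hχ : TwoClasses χ) :
    ∃ c : G, c ≠ 1 ∧ ∀ g, χ g ≠ 0 ↔ g = 1 ∨ IsConj c g := by
  obtain ⟨⟨C, hC⟩, ⟨D, hD⟩, hne, huniv⟩ := Nat.card_eq_two_iff.1 hχ
  have hone : ConjClasses.mk (1 : G) = C ∨ ConjClasses.mk (1 : G) = D := by
    have := Set.eq_univ_iff_forall.1 huniv ⟨ConjClasses.mk 1, 1, ConjClasses.mem_carrier_mk, h1⟩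
    simpa using this
  have key : ∀ E E' : ConjClasses G, (∃ g ∈ E'.carrier, χ g ≠ 0) → ConjClasses.mk (1 : G) = E →
      E ≠ E' → (∀ g, χ g ≠ 0 → ConjClasses.mk g = E ∨ ConjClasses.mk g = E') →
      ∃ c : G, c ≠ 1 ∧ ∀ g, χ g ≠ 0 ↔ g = 1 ∨ IsConj c g := by
    rintro E E' ⟨c, hcE, hc⟩ hE hEE' hall
    rw [ConjClasses.mem_carrier_iff_mk_eq] at hcE
    refine ⟨c, fun h => hEE' (by rw [← hE, ← hcE, h]), fun g => ⟨fun hg => ?_, ?_⟩⟩
    · rcases hall g hg with h | h
      · left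
        rw [← hE, ConjClasses.mk_eq_mk_iff_isConj] at h
        exact isConj_one_left.1 h
      · right
        rw [← hcE, ConjClasses.mk_eq_mk_iff_isConj] at h
        exact h.symm
    · rintro (rfl | h)
      · exact h1
      · rwa [apply_eq_of_isConj hcl h]
  have hall : ∀ g, χ g ≠ 0 → ConjClasses.mk g = C ∨ ConjClasses.mk g = D := fun g hg => by
    have := Set.eq_univ_iff_forall.1 huniv ⟨ConjClasses.mk g, g, ConjClasses.mem_carrier_mk, hg⟩
    simpa using this
  have hne' : C ≠ D := fun h => hne (Subtype.ext h)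
  rcases hone with h | h
  · exact key C D hD h hne' hall
  · exact key D C hC h hne'.symm fun g hg => (hall g hg).symm

/-- The data attached to a character that is nonzero on exactly two classes. -/
structure GagolaData (χ : Cfsg.IrrCharacter G) (N : Subgroup G) : Prop where
  normal : N.Normal
  ne_bot : N ≠ ⊥
  mem_iff : ∀ g, (χ : G → ℂ) g ≠ 0 ↔ g ∈ N
  trans : ∀ x ∈ N, ∀ y ∈ N, x ≠ 1 → y ≠ 1 → ∃ g : G, g * x * g⁻¹ = y
  ker : ∀ ψ : Cfsg.IrrCharacter G, ψ ≠ χ → ∀ n ∈ N, (ψ : G → ℂ) n = (ψ : G → ℂ) 1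
  faithful : ∀ g, (χ : G → ℂ) g = (χ : G → ℂ) 1 → g = 1
  minimal : ∀ K : Subgroup G, K.Normal → K ≠ ⊥ → N ≤ K
  arith : ∃ m : ℕ, 0 < m ∧ (χ : G → ℂ) 1 = (m : ℂ) * ((Nat.card N - 1 : ℕ) : ℂ) ∧
    (∀ x ∈ N, x ≠ 1 → (χ : G → ℂ) x = -(m : ℂ)) ∧
    Nat.card G = m ^ 2 * (Nat.card N - 1) * Nat.card N ∧
    (∀ x ∈ N, x ≠ 1 → Nat.card (Subgroup.centralizer ({x} : Set G)) = m ^ 2 * Nat.card N)

theorem exists_nat_of_isIntegral {a b : ℕ} (hb : 0 < b) (h : IsIntegral ℤ ((a : ℂ) / (b : ℂ))) :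
    ∃ m : ℕ, a = m * b := by
  have h2 : IsIntegral ℤ ((a : ℚ) / (b : ℚ)) := by
    have e : (a : ℂ) / (b : ℂ) = algebraMap ℚ ℂ ((a : ℚ) / (b : ℚ)) := by simp
    rw [e] at h
    exact (isIntegral_algebraMap_iff (algebraMap ℚ ℂ).injective).1 h
  obtain ⟨k, hk⟩ := IsIntegrallyClosed.isIntegral_iff.1 h2
  have hbq : (b : ℚ) ≠ 0 := by exact_mod_cast hb.ne'
  rw [eq_div_iff hbq] at hk
  have hk' : k * (b : ℤ) = (a : ℤ) := by
    have : ((k * (b : ℤ) : ℤ) : ℚ) = ((a : ℤ) : ℚ) := by push_cast; simpa using hk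
    exact_mod_cast this
  refine ⟨k.toNat, ?_⟩
  have hk0 : 0 ≤ k := by
    rcases le_or_gt 0 k with hk0 | hk0
    · exact hk0
    · nlinarith [Int.natCast_nonneg a, (by exact_mod_cast hb : (0 : ℤ) < b)]
  have : ((k.toNat * b : ℕ) : ℤ) = (a : ℤ) := by
    push_cast
    rw [Int.toNat_of_nonneg hk0, hk']
  exact_mod_cast this.symm

theorem gagola_exists (hG : 2 < Nat.card G) (χ : Cfsg.IrrCharacter G)
    (hχ : TwoClasses (χ : G → ℂ)) : ∃ N : Subgroup G, GagolaData χ N := by
  classical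
  cases nonempty_fintype G
  have hcl : Cfsg.IsClassFunction G (χ : G → ℂ) := IsIrr.isClassFunction χ.2
  obtain ⟨d, hd, hd1⟩ := IsIrr.exists_degree χ.2
  obtain ⟨c, hc1, hsupp⟩ := exists_class hcl (IsIrr.one_ne_zero χ.2) hχ
  set n := Nat.card {x : G // IsConj c x} with hn
  have hnmul := card_conjugates_mul c
  rw [← hn] at hnmul
  have hnpos : 0 < n := Nat.pos_of_ne_zero fun h => by
    rw [h, zero_mul] at hnmul
    exact Nat.card_pos.ne' hnmul.symm
  have hconst : ∀ g, IsConj c g → (χ : G → ℂ) g = (χ : G → ℂ) c := fun g hg =>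
    apply_eq_of_isConj hcl hg
  have hcl' : ∀ ψ : Cfsg.IrrCharacter G, Cfsg.IsClassFunction G (ψ : G → ℂ) := fun ψ =>
    IsIrr.isClassFunction ψ.2
  have hnG : (Nat.card G : ℂ) ≠ 0 := by exact_mod_cast Nat.card_pos.ne'
  -- inner product with an irreducible character
  have hinner : ∀ ψ : Cfsg.IrrCharacter G, (Nat.card G : ℂ) *
      Cfsg.classInner (χ : G → ℂ) (ψ : G → ℂ) =
        (χ : G → ℂ) 1 * conj ((ψ : G → ℂ) 1) +
          (n : ℂ) * ((χ : G → ℂ) c * conj ((ψ : G → ℂ) c)) := by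
    intro ψ
    rw [classInner_def, ← mul_assoc, mul_inv_cancel₀ hnG, one_mul]
    exact sum_two_point (fun g => (χ : G → ℂ) g * conj ((ψ : G → ℂ) g)) c hc1
      (fun g hg => (hsupp g).1 (left_ne_zero_of_mul hg))
      (fun g hg => by rw [hconst g hg, apply_eq_of_isConj (hcl' ψ) hg])
  let tr : Cfsg.IrrCharacter G := ⟨_, isIrrCharacter_one⟩
  have htr : χ ≠ tr := by
    intro h
    have hall : ∀ g : G, g = 1 ∨ IsConj c g := fun g => (hsupp g).1 (by simp [h, tr])
    have : Nat.card G = n + 1 := by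
      have := sum_two_point (fun _ : G => (1 : ℂ)) c hc1 (fun g _ => hall g) (fun _ _ => rfl)
      simp only [Finset.sum_const, Finset.card_univ, nsmul_eq_mul, mul_one, ← hn] at this
      rw [Nat.card_eq_fintype_card]
      have h' : ((Fintype.card G : ℕ) : ℂ) = ((n + 1 : ℕ) : ℂ) := by
        rw [this]; push_cast; ring
      exact_mod_cast h'
    have hdvd : n ∣ 1 := (Nat.dvd_add_right (dvd_refl n)).1 (by rw [← this]; exact ⟨_, hnmul.symm⟩)
    have : n = 1 := Nat.dvd_one.1 hdvd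
    omega
  have h0 : (χ : G → ℂ) 1 + (n : ℂ) * (χ : G → ℂ) c = 0 := by
    have := hinner tr
    rw [classInner_irrCharacter, if_neg htr] at this
    simpa [tr] using this.symm
  have hdn : (n : ℂ) ≠ 0 := by exact_mod_cast hnpos.ne'
  have hχc : (χ : G → ℂ) c = -((d : ℂ) / (n : ℂ)) := by
    rw [eq_neg_iff_add_eq_zero, ← mul_right_inj' hdn, mul_zero, mul_add,
      mul_div_cancel₀ _ hdn, ← hd1, add_comm]
    exact h0
  have hcard : (Nat.card G : ℂ) * n = (d : ℂ) ^ 2 * (n + 1) := by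
    have := hinner χ
    rw [classInner_irrCharacter, if_pos rfl, mul_one, hd1, hχc] at this
    rw [this]
    simp only [map_neg, map_div₀, Complex.conj_natCast]
    field_simp
  have hcard' : Nat.card G * n = d ^ 2 * (n + 1) := by exact_mod_cast hcard
  have hker : ∀ ψ : Cfsg.IrrCharacter G, ψ ≠ χ → (ψ : G → ℂ) c = (ψ : G → ℂ) 1 := by
    intro ψ hψ
    have := hinner ψ
    rw [classInner_irrCharacter, if_neg (Ne.symm hψ), mul_zero, hd1, hχc] at this
    obtain ⟨e, he, he1⟩ := IsIrr.exists_degree ψ.2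
    have hdC : (d : ℂ) ≠ 0 := by exact_mod_cast hd.ne'
    have h2 : conj ((ψ : G → ℂ) c) = conj ((ψ : G → ℂ) 1) := by
      field_simp at this
      refine mul_left_cancel₀ hdC ?_
      linear_combination this
    exact star_injective h2
  let δ : G → ℂ := fun g => if g = 1 then 1 else 0
  have hδ : Cfsg.IsClassFunction G δ := fun g h => by simp [δ]
  have hδin : (Nat.card G : ℂ) * Cfsg.classInner δ (χ : G → ℂ) = d := by
    rw [classInner_def, ← mul_assoc, mul_inv_cancel₀ hnG, one_mul]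
    simp [δ, hd1]
  let N : Subgroup G :=
    { carrier := {g | ∀ ψ : Cfsg.IrrCharacter G, ψ ≠ χ → (ψ : G → ℂ) g = (ψ : G → ℂ) 1}
      one_mem' := fun _ _ => rfl
      mul_mem' := fun {a b} ha hb ψ hψ => by
        rw [char_mul_eq (IsIrr.isCharacter ψ.2) (hb ψ hψ), ha ψ hψ]
      inv_mem' := fun {a} ha ψ hψ => by
        obtain ⟨e, -, he1⟩ := IsIrr.exists_degree ψ.2
        rw [IsChar.inv_apply (IsIrr.isCharacter ψ.2), ha ψ hψ, he1, Complex.conj_natCast] }
  have hmem : ∀ g, (χ : G → ℂ) g ≠ 0 ↔ g ∈ N := by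
    intro g
    constructor
    · intro hg ψ hψ
      rcases (hsupp g).1 hg with rfl | hg'
      · rfl
      · rw [apply_eq_of_isConj (hcl' ψ) hg', hker ψ hψ]
    · intro hg hg0
      have hg1 : g ≠ 1 := fun h => IsIrr.one_ne_zero χ.2 (h ▸ hg0)
      have := classFunction_sub hδ χ (fun ψ hψ => hg ψ hψ)
      simp only [δ, if_neg hg1, if_pos rfl, hg0, zero_sub] at this
      have hsq : (Nat.card G : ℂ) = (d : ℂ) ^ 2 := by
        calc (Nat.card G : ℂ) = (Nat.card G : ℂ) * (Cfsg.classInner δ (χ : G → ℂ) * d) := by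
              rw [show Cfsg.classInner δ (χ : G → ℂ) * (d : ℂ) = 1 by
                rw [← hd1]; linear_combination this, mul_one]
          _ = (d : ℂ) ^ 2 := by rw [← mul_assoc, hδin]; ring
      have hsq' : Nat.card G = d ^ 2 := by exact_mod_cast hsq
      rw [hsq'] at hcard'
      have := Nat.eq_of_mul_eq_mul_left (pow_pos hd 2) hcard'
      omega
  have hNn : N.Normal := ⟨fun x hx g ψ hψ => by
    rw [hcl' ψ x g]; exact hx ψ hψ⟩
  have hcN : c ∈ N := fun ψ hψ => hker ψ hψ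
  have hconjN : ∀ x ∈ N, x ≠ 1 → IsConj c x := fun x hx hx1 =>
    ((hsupp x).1 ((hmem x).2 hx)).resolve_left hx1
  have hcardN : Nat.card N = n + 1 := by
    have h := sum_two_point (fun g : G => if g ∈ N then (1 : ℂ) else 0) c hc1
      (fun g hg => ?_) (fun g hg => ?_)
    · rw [← Finset.sum_filter, Finset.sum_const, nsmul_eq_mul, mul_one, if_pos N.one_mem,
        if_pos hcN, mul_one, ← hn] at h
      have e : Nat.card N = (Finset.univ.filter fun g : G => g ∈ N).card := by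
        rw [Nat.card_eq_fintype_card, Fintype.card_subtype]
      have h' : ((Nat.card N : ℕ) : ℂ) = ((n + 1 : ℕ) : ℂ) := by
        rw [e, h]; push_cast; ring
      exact_mod_cast h'
    · exact (hsupp g).1 ((hmem g).2 (by by_contra h'; exact hg (if_neg h')))
    · rw [if_pos hcN, if_pos ((hmem g).1 ((hsupp g).2 (Or.inr hg)))]
  refine ⟨N, hNn, fun h => hc1 (Subgroup.mem_bot.1 (h ▸ hcN)), hmem, ?_,
    fun ψ hψ g hg => hg ψ hψ, ?_, ?_, ?_⟩
  · intro x hx y hy hx1 hy1
    exact isConj_iff.1 ((hconjN x hx hx1).symm.trans (hconjN y hy hy1))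
  · intro g hg
    by_contra hg1
    have hgN : g ∈ N := (hmem g).1 (by rw [hg]; exact IsIrr.one_ne_zero χ.2)
    rw [hconst g (hconjN g hgN hg1)] at hg
    rw [← hg] at h0
    have h1 : ((n : ℂ) + 1) * (χ : G → ℂ) c = 0 := by linear_combination h0
    rcases mul_eq_zero.1 h1 with h2 | h2
    · exact absurd h2 (by exact_mod_cast Nat.succ_ne_zero n)
    · exact (hmem c).2 hcN h2
  · intro K hK hKb
    by_contra hNK
    have hcK : c ∉ K := fun hc => hNK fun x hx => by
      by_cases hx1 : x = 1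
      · rw [hx1]; exact K.one_mem
      · obtain ⟨g, rfl⟩ := isConj_iff.1 (hconjN x hx hx1)
        exact hK.conj_mem c hc g
    obtain ⟨k, hk, hk1⟩ := K.bot_or_exists_ne_one.resolve_left hKb
    have hkN : k ∉ N := fun h => hcK (by
      obtain ⟨g, hg⟩ := isConj_iff.1 (hconjN k h hk1).symm
      exact hg ▸ hK.conj_mem k hk g)
    have hkcN : k * c ∉ N := fun h => hkN ((N.mul_mem_cancel_right hcN).1 h)
    let f : G → ℂ := fun g => if g ∈ K then 1 else 0
    have hf : Cfsg.IsClassFunction G f := fun g h => by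
      have : h * g * h⁻¹ ∈ K ↔ g ∈ K :=
        ⟨fun hh => by simpa [mul_assoc] using hK.conj_mem _ hh h⁻¹, fun hh => hK.conj_mem g hh h⟩
      simp only [f, this]
    have := classFunction_sub hf χ (a := k * c) (b := k) (fun ψ hψ =>
      char_mul_eq (IsIrr.isCharacter ψ.2) (hker ψ hψ) k)
    rw [not_ne_iff.1 (fun h => hkcN ((hmem _).1 h)), not_ne_iff.1 (fun h => hkN ((hmem _).1 h)),
      sub_zero, mul_zero] at this
    simp [f, hk, K.mul_mem_cancel_left hk, hcK] at this
  · obtain ⟨m, hm⟩ : ∃ m : ℕ, d = m * n := by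
      apply exists_nat_of_isIntegral hnpos
      have := (IsChar.isIntegral (IsIrr.isCharacter χ.2) c).neg
      rwa [hχc, neg_neg] at this
    refine ⟨m, Nat.pos_of_ne_zero fun h => by simp [h] at hm; omega, ?_, ?_, ?_, ?_⟩
    · rw [hd1, hcardN, Nat.add_sub_cancel, hm]; push_cast; rfl
    · intro x hx hx1
      rw [hconst x (hconjN x hx hx1), hχc, hm]
      push_cast
      rw [mul_div_assoc, div_self hdn, mul_one]
    · rw [hcardN, Nat.add_sub_cancel]
      refine Nat.eq_of_mul_eq_mul_right hnpos ?_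
      rw [hcard', hm]; ring
    · intro x hx hx1
      have e : Nat.card {y : G // IsConj x y} = n := by
        refine Nat.card_congr (Equiv.subtypeEquivRight fun y => ?_)
        exact ⟨(hconjN x hx hx1).trans, (hconjN x hx hx1).symm.trans⟩
      have := card_conjugates_mul x
      rw [e] at this
      refine Nat.eq_of_mul_eq_mul_left hnpos (this.trans ?_)
      refine Nat.eq_of_mul_eq_mul_right hnpos ?_
      rw [hcard', hcardN, hm]; ring

/-- Version for a given subgroup equal to the support. -/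
theorem gagola_data (hG : 2 < Nat.card G) {χ : Cfsg.IrrCharacter G}
    (hχ : TwoClasses (χ : G → ℂ)) {N : Subgroup G}
    (hN : ∀ g : G, g ∈ N ↔ (χ : G → ℂ) g ≠ 0) : GagolaData χ N := by
  obtain ⟨N', h⟩ := gagola_exists hG χ hχ
  have : N = N' := Subgroup.ext fun g => (hN g).trans (h.mem_iff g)
  exact this ▸ h

namespace GagolaData

variable {χ : Cfsg.IrrCharacter G} {N : Subgroup G}

theorem coset_isConj (D : GagolaData χ N) {x n : G} (hx : x ∉ N) (hn : n ∈ N) :
    IsConj x (x * n) := by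
  rw [isConj_iff_forall_irr]
  intro ψ
  by_cases hψ : ψ = χ
  · subst hψ
    have hxn : x * n ∉ N := fun h => hx ((N.mul_mem_cancel_right hn).1 h)
    rw [not_ne_iff.1 (fun h => hx ((D.mem_iff _).1 h)),
      not_ne_iff.1 (fun h => hxn ((D.mem_iff _).1 h))]
  · exact (char_mul_eq (IsIrr.isCharacter ψ.2) (D.ker ψ hψ n hn) x).symm

theorem exists_prime (D : GagolaData χ N) :
    ∃ p : ℕ, p.Prime ∧ IsPGroup p N ∧ Cfsg.IsElementaryAbelian p N := by
  classical
  have : Nontrivial N := (Subgroup.nontrivial_iff_ne_bot N).2 D.ne_bot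
  obtain ⟨p, hp, hpdvd⟩ := Nat.exists_prime_and_dvd (Finite.one_lt_card (α := N)).ne'
  have : Fact p.Prime := ⟨hp⟩
  obtain ⟨⟨z, hz⟩, hzp⟩ := exists_prime_orderOf_dvd_card' (G := N) p hpdvd
  rw [Subgroup.orderOf_mk] at hzp
  have hz1 : z ≠ 1 := fun h => by simp [h] at hzp; exact hp.one_lt.ne hzp
  have hexp : ∀ a ∈ N, a ^ p = 1 := by
    intro a ha
    by_cases ha1 : a = 1
    · simp [ha1]
    · obtain ⟨g, rfl⟩ := D.trans z hz a ha hz1 ha1
      rw [conj_pow, ← hzp, pow_orderOf_eq_one]; group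
  have hNp : IsPGroup p N := fun a => ⟨1, Subtype.ext (by simpa using hexp a a.2)⟩
  refine ⟨p, hp, hNp, ?_, hexp⟩
  have := hNp.center_nontrivial
  obtain ⟨⟨⟨y, hy⟩, hyc⟩, hy1⟩ := exists_ne (1 : Subgroup.center N)
  have hy1' : y ≠ 1 := fun h => hy1 (Subtype.ext (Subtype.ext h))
  have hyc' : ∀ b ∈ N, b * y = y * b := fun b hb =>
    congrArg Subtype.val (Subgroup.mem_center_iff.1 hyc ⟨b, hb⟩)
  have hcomm : ∀ a ∈ N, ∀ b ∈ N, b * a = a * b := by
    intro a ha b hb
    by_cases ha1 : a = 1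
    · simp [ha1]
    · obtain ⟨g, rfl⟩ := D.trans y hy a ha hy1' ha1
      have hb' : g⁻¹ * b * g ∈ N := by simpa using D.normal.conj_mem b hb g⁻¹
      have := hyc' _ hb'
      calc b * (g * y * g⁻¹) = g * ((g⁻¹ * b * g) * y) * g⁻¹ := by group
        _ = g * (y * (g⁻¹ * b * g)) * g⁻¹ := by rw [this]
        _ = g * y * g⁻¹ * b := by group
  exact ⟨⟨fun a b => Subtype.ext (hcomm b b.2 a a.2)⟩⟩

end GagolaData

end Cfsg.Agent.H85
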