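import Cfsg.Agent.H85.GagolaP
import Cfsg.Prelude.Def_Solvable
import Mathlib.GroupTheory.SchurZassenhaus
import Mathlib.GroupTheory.Perm.Cycle.Type

/-!
# When the support of a two-class character is the p-core
-/

set_option linter.unusedSectionVars false

open scoped ComplexConjugate Pointwise

namespace Cfsg.Agent.H85.GagolaData

variable {G : Type*} [Group G] [Finite G] {χ : Cfsg.IrrCharacter G} {N : Subgroup G}
  {p : ℕ} [Fact p.Prime]

/-- Data for the conjugation-difference map on the abelian kernel. -/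
theorem comm_of_mem (D : GagolaData χ N) {a b : G} (ha : a ∈ N) (hb : b ∈ N) : a * b = b * a := by
  obtain ⟨q, -, -, hel⟩ := D.exists_prime
  exact congrArg Subtype.val (hel.1.1.comm ⟨a, ha⟩ ⟨b, hb⟩)

theorem pow_eq_one (D : GagolaData χ N) (hNp : IsPGroup p N) {a : G} (ha : a ∈ N) : a ^ p = 1 := by
  obtain ⟨q, hq, hqN, hel⟩ := D.exists_prime
  have : Fact q.Prime := ⟨hq⟩
  obtain ⟨a', k, hk0, hk, -, -, -⟩ := D.exists_pow hNp
  obtain ⟨j, hj⟩ := IsPGroup.iff_card.1 hqN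
  rw [hk] at hj
  have : p ∣ q ^ j := hj ▸ dvd_pow_self p hk0.ne'
  rw [(Nat.prime_dvd_prime_iff_eq Fact.out hq).1 ((Fact.out : p.Prime).dvd_of_dvd_pow this)]
  exact hel.2 a ha

/-- For odd `p`, a nontrivial `p`-part of `G/N` is impossible when `N` is self-centralising. -/
theorem false_of_odd (D : GagolaData χ N) (hNp : IsPGroup p N) (hp2 : p ≠ 2)
    (hcent : ∀ g : G, (∀ n ∈ N, g * n = n * g) → g ∈ N) {x : G} (hx : x ∉ N)
    (hxp : x ^ p ∈ N) : False := by
  classical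
  have hp : p.Prime := Fact.out
  obtain ⟨a, k, hk0, hk, hpk, hGc, -⟩ := D.exists_pow hNp
  have hodd : Odd (p ^ k) := (hp.odd_of_ne_two hp2).pow
  have h2G : 2 ∣ Nat.card G := by
    rw [hGc]
    obtain ⟨j, hj⟩ := hodd
    exact Dvd.dvd.mul_right (Dvd.dvd.mul_left ⟨j, by omega⟩ _) _
  obtain ⟨t, ht⟩ := exists_prime_orderOf_dvd_card' (G := G) 2 h2G
  have htt : t * t = 1 := by rw [← sq, ← ht, pow_orderOf_eq_one]
  have ht' : t⁻¹ = t := inv_eq_of_mul_eq_one_right htt
  have ht1 : t ≠ 1 := fun h => by simp [h] at ht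
  have hpt : ¬ p ∣ orderOf t := by
    rw [ht]; exact fun h => hp2 ((Nat.prime_dvd_prime_iff_eq hp Nat.prime_two).1 h)
  have hfix : ∀ n ∈ N, t * n = n * t → n = 1 := fun n hn h => by
    by_contra hn1
    exact ht1 (D.eq_one_of_commute hNp hn hn1 hpt h)
  have hconj : ∀ (g : G) n, n ∈ N → g * n * g⁻¹ ∈ N := fun g n hn => D.normal.conj_mem n hn g
  have hinv : ∀ n ∈ N, t * n * t = n⁻¹ := by
    intro n hn
    have hm : t * n * t ∈ N := by have := hconj t n hn; rwa [ht'] at this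
    have h1 : t * (n * (t * n * t)) = n * (t * n * t) * t := by
      have e : n * (t * n * t) = t * n * t * n := D.comm_of_mem hn hm
      calc t * (n * (t * n * t)) = (t * n * t) * n * t := by simp [mul_assoc]
        _ = n * (t * n * t) * t := by rw [← e]
    exact eq_inv_of_mul_eq_one_right (hfix _ (N.mul_mem hn hm) h1)
  -- every coset of `N` meets the centraliser of `t`
  have hcorr : ∀ g : G, ∃ n ∈ N, t * (g * n) = g * n * t := by
    intro g
    have hw : g * t * g⁻¹ * t ∈ N := by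
      refine hcent _ fun n hn => ?_
      have h2 : g * t * g⁻¹ * n⁻¹ * (g * t * g⁻¹) = n := by
        have hn' : g⁻¹ * n⁻¹ * g ∈ N := by simpa using hconj g⁻¹ n⁻¹ (N.inv_mem hn)
        calc g * t * g⁻¹ * n⁻¹ * (g * t * g⁻¹)
            = g * (t * (g⁻¹ * n⁻¹ * g) * t) * g⁻¹ := by group
          _ = g * (g⁻¹ * n⁻¹ * g)⁻¹ * g⁻¹ := by rw [hinv _ hn']
          _ = n := by group
      have h3 := hinv n hn
      have hgg : (g * t * g⁻¹) * (g * t * g⁻¹) = 1 := by
        rw [show g * t * g⁻¹ * (g * t * g⁻¹) = g * (t * t) * g⁻¹ by group, htt]; group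
      calc g * t * g⁻¹ * t * n = g * t * g⁻¹ * (t * n * t) * t⁻¹ := by group
        _ = g * t * g⁻¹ * n⁻¹ * t⁻¹ := by rw [h3]
        _ = (g * t * g⁻¹ * n⁻¹ * (g * t * g⁻¹)) * (g * t * g⁻¹)⁻¹ * t⁻¹ := by group
        _ = n * (g * t * g⁻¹)⁻¹ * t⁻¹ := by rw [h2]
        _ = n * (g * t * g⁻¹ * t) := by
          rw [ht', inv_eq_of_mul_eq_one_right hgg]; group
    set v := g⁻¹ * t * g * t with hv
    have hvN : v ∈ N := by
      have := hconj g⁻¹ _ (N.inv_mem hw)
      rw [show g⁻¹ * (g * t * g⁻¹ * t)⁻¹ * g⁻¹⁻¹ = g⁻¹ * (t⁻¹ * (g * t⁻¹ * g⁻¹)) * g by group,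
        ht'] at this
      simpa [hv, mul_assoc] using this
    obtain ⟨j, hj⟩ := hp.odd_of_ne_two hp2
    refine ⟨v ^ (j + 1), N.pow_mem hvN _, ?_⟩
    have hsq : v ^ (j + 1) * v ^ (j + 1) = v := by
      rw [← pow_add, show j + 1 + (j + 1) = p + 1 by omega, pow_succ, D.pow_eq_one hNp hvN,
        one_mul]
    set n := v ^ (j + 1) with hn
    have hnN : n ∈ N := N.pow_mem hvN _
    have htn : t * n = n⁻¹ * t := by
      calc t * n = t * n * (t * t) := by rw [htt, mul_one]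
        _ = (t * n * t) * t := by group
        _ = n⁻¹ * t := by rw [hinv n hnN]
    have hgt : t * g = g * v * t := by
      rw [hv]
      calc t * g = t * g * (t * t) := by rw [htt, mul_one]
        _ = g * (g⁻¹ * t * g * t) * t := by group
    calc t * (g * n) = g * v * (t * n) := by rw [← mul_assoc, hgt]; group
      _ = g * (n * n) * (n⁻¹ * t) := by rw [htn, hsq]
      _ = g * n * t := by group
  obtain ⟨n0, hn0, hxt⟩ := hcorr x
  set y := x * n0 with hy
  have hyN : y ∉ N := fun h => hx ((N.mul_mem_cancel_right hn0).1 h)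
  have hyp : y ^ p = 1 := by
    have := D.normal
    have hq : ((y ^ p : G) : G ⧸ N) = ((x ^ p : G) : G ⧸ N) := by
      simp [hy, (QuotientGroup.eq_one_iff n0).2 hn0]
    rw [(QuotientGroup.eq_one_iff _).2 hxp, QuotientGroup.eq_one_iff] at hq
    exact hfix _ hq (Commute.pow_right (show Commute t y from hxt) p)
  have hd : ∀ n : N, y⁻¹ * (n : G)⁻¹ * y * (n : G) ∈ N := fun n =>
    N.mul_mem (by simpa using hconj y⁻¹ _ (N.inv_mem n.2)) n.2
  let d : N → N := fun n => ⟨y⁻¹ * (n : G)⁻¹ * y * (n : G), hd n⟩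
  have hsurj : Function.Surjective d := by
    intro n
    obtain ⟨g, hg⟩ := isConj_iff.1 (D.coset_isConj hyN n.2)
    obtain ⟨n1, hn1, hgt⟩ := hcorr g
    set h := g * n1 with hh
    have hz : y⁻¹ * (h * y * h⁻¹) ∈ N := by
      have hm : y⁻¹ * n1 * y * n1⁻¹ ∈ N :=
        N.mul_mem (by simpa using hconj y⁻¹ n1 hn1) (N.inv_mem hn1)
      rw [show y⁻¹ * (h * y * h⁻¹) = y⁻¹ * (g * y * g⁻¹) * (g * (y⁻¹ * n1 * y * n1⁻¹) * g⁻¹) by
        rw [hh]; group, hg, inv_mul_cancel_left]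
      exact N.mul_mem n.2 (hconj g _ hm)
    have hcy : Commute t y := hxt
    have hch : Commute t h := hgt
    have hz1 := hfix _ hz (hcy.inv_right.mul_right ((hch.mul_right hcy).mul_right hch.inv_right))
    have hhy : h * y * h⁻¹ = y := (inv_mul_eq_one.1 hz1).symm
    have hyh : y⁻¹ * h = h * y⁻¹ := by
      calc y⁻¹ * h = (h * y * h⁻¹)⁻¹ * h := by rw [hhy]
        _ = h * y⁻¹ := by group
    refine ⟨⟨h * n1 * h⁻¹, hconj h n1 hn1⟩, Subtype.ext ?_⟩
    show y⁻¹ * (h * n1 * h⁻¹)⁻¹ * y * (h * n1 * h⁻¹) = (n : G)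
    calc y⁻¹ * (h * n1 * h⁻¹)⁻¹ * y * (h * n1 * h⁻¹)
        = (y⁻¹ * h) * n1⁻¹ * (h⁻¹ * y * h) * n1 * h⁻¹ := by group
      _ = (h * y⁻¹) * n1⁻¹ * y * n1 * h⁻¹ := by
          rw [hyh, show h⁻¹ * y * h = y by
            calc h⁻¹ * y * h = h⁻¹ * (h * y * h⁻¹) * h := by rw [hhy]
              _ = y := by group]
      _ = y⁻¹ * (h * n1⁻¹ * y * n1 * h⁻¹) := by rw [← hyh]; group
      _ = y⁻¹ * (g * y * g⁻¹) := by rw [hh]; group
      _ = n := by rw [hg, inv_mul_cancel_left]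
  have hinj : Function.Injective d := Finite.injective_iff_surjective.2 hsurj
  have := Fintype.ofFinite N
  let σ : Equiv.Perm N :=
    { toFun := fun n => ⟨y * n * y⁻¹, hconj y n n.2⟩
      invFun := fun n => ⟨y⁻¹ * n * y, by simpa using hconj y⁻¹ n n.2⟩
      left_inv := fun n => Subtype.ext (by simp [mul_assoc])
      right_inv := fun n => Subtype.ext (by simp [mul_assoc]) }
  have hσpow : ∀ (i : ℕ) (n : N), (((σ ^ i) n : N) : G) = y ^ i * n * (y ^ i)⁻¹ := by
    intro i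
    induction i with
    | zero => simp
    | succ i ih =>
      intro n
      rw [pow_succ', Equiv.Perm.mul_apply]
      show y * ((σ ^ i) n : N) * y⁻¹ = _
      rw [ih, pow_succ']
      group
  obtain ⟨b, hb, hb1⟩ := Equiv.Perm.exists_fixed_point_of_prime' (p := p) (n := 1)
    (by rw [← Nat.card_eq_fintype_card, hk]; exact dvd_pow_self p hk0.ne') (σ := σ)
    (Equiv.ext fun n => Subtype.ext (by rw [pow_one, hσpow, hyp]; simp)) (a := 1)
    (Subtype.ext (show y * ((1 : N) : G) * y⁻¹ = ((1 : N) : G) by simp))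
  refine hb1 (hinj (Subtype.ext ?_))
  have hb' : y * (b : G) * y⁻¹ = b := congrArg Subtype.val hb
  have hyb : (b : G)⁻¹ * y = y * (b : G)⁻¹ := by
    calc (b : G)⁻¹ * y = (y * (b : G) * y⁻¹)⁻¹ * y := by rw [hb']
      _ = y * (b : G)⁻¹ := by group
  show y⁻¹ * (b : G)⁻¹ * y * (b : G) = y⁻¹ * ((1 : N) : G)⁻¹ * y * ((1 : N) : G)
  rw [mul_assoc y⁻¹, hyb]
  simp

/-- For `p = 2`, a nontrivial `2`-part of `G/N` is impossible when `N` is the largest normal
`2`-subgroup. The pair hypothesis is the Baer-Suzuki theorem. -/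
theorem false_of_two [Fact (Nat.Prime 2)] (D : GagolaData χ N) (hNp : IsPGroup 2 N)
    (hmax : ∀ K : Subgroup G, K.Normal → IsPGroup 2 K → K ≤ N)
    (hBS : ∀ X : Subgroup G, IsPGroup 2 X →
      (∀ g : G, IsPGroup 2 ↥(X ⊔ X.map (MulAut.conj g).toMonoidHom)) →
      ∃ K : Subgroup G, K.Normal ∧ IsPGroup 2 K ∧ X ≤ K)
    (hcent : ∀ g : G, (∀ n ∈ N, g * n = n * g) → g ∈ N) {x : G} (hx : x ∉ N)
    (hxp : x ^ 2 ∈ N) : False := by
  classical
  have := D.normal
  have hsq : ∀ a ∈ N, a * a = 1 := fun a ha => by rw [← sq]; exact D.pow_eq_one hNp ha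
  have hX : IsPGroup 2 (Subgroup.zpowers x) := by
    refine IsPGroup.iff_orderOf.2 fun z => ?_
    obtain ⟨i, -, hi⟩ := (Nat.dvd_prime_pow Nat.prime_two).1
      (orderOf_dvd_of_pow_eq_one (x := z) (n := 2 ^ 2) (by
        obtain ⟨j, hj⟩ := Subgroup.mem_zpowers_iff.1 z.2
        refine Subtype.ext ?_
        rw [SubmonoidClass.coe_pow, ← hj, ← zpow_natCast, zpow_comm, zpow_natCast,
          show x ^ 2 ^ 2 = (x ^ 2) ^ 2 by rw [← pow_mul, pow_two 2], D.pow_eq_one hNp hxp,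
          one_zpow]
        rfl))
    exact ⟨i, hi⟩
  obtain ⟨g, hg⟩ : ∃ g : G,
      ¬ IsPGroup 2 ↥(Subgroup.zpowers x ⊔ (Subgroup.zpowers x).map (MulAut.conj g).toMonoidHom) := by
    by_contra h
    push Not at h
    obtain ⟨K, hK, hK2, hxK⟩ := hBS _ hX h
    exact hx (hmax K hK hK2 (hxK (Subgroup.mem_zpowers x)))
  set v := g * x * g⁻¹ with hv
  have hxx : ((x : G) : G ⧸ N) * (x : G ⧸ N) = 1 := by
    rw [← QuotientGroup.mk_mul, QuotientGroup.eq_one_iff, ← sq]; exact hxp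
  have hvv : ((v : G) : G ⧸ N) * (v : G ⧸ N) = 1 := by
    rw [← QuotientGroup.mk_mul, QuotientGroup.eq_one_iff, hv,
      show g * x * g⁻¹ * (g * x * g⁻¹) = g * x ^ 2 * g⁻¹ by rw [sq]; group]
    exact ‹N.Normal›.conj_mem _ hxp g
  set X : G ⧸ N := (x : G ⧸ N) with hXdef
  set V : G ⧸ N := (v : G ⧸ N) with hVdef
  set r := X * V with hr
  have hXinv : X⁻¹ = X := inv_eq_of_mul_eq_one_right hxx
  have hVinv : V⁻¹ = V := inv_eq_of_mul_eq_one_right hvv
  have hxr : ∀ i : ℕ, X * r ^ i * X * r ^ i = 1 := by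
    intro i
    have h1 : X * r * X⁻¹ = r⁻¹ := by
      rw [hr, mul_inv_rev, hVinv, hXinv, ← mul_assoc, hxx, one_mul]
    have h2 : X * r ^ i * X⁻¹ = (r ^ i)⁻¹ := by rw [← conj_pow, h1, inv_pow]
    rw [hXinv] at h2
    rw [h2, inv_mul_cancel]
  obtain ⟨i, b, hb, hrb⟩ := Nat.exists_eq_pow_mul_and_not_dvd (orderOf_pos r).ne' 2 (by norm_num)
  have hb1 : b ≠ 1 := by
    rintro rfl
    rw [mul_one] at hrb
    have hR : IsPGroup 2 (Subgroup.zpowers r) := IsPGroup.of_card (by rw [Nat.card_zpowers, hrb])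
    have hXX : IsPGroup 2 (Subgroup.zpowers X) := by
      obtain ⟨j, -, hj⟩ := (Nat.dvd_prime_pow Nat.prime_two).1
        (orderOf_dvd_of_pow_eq_one (x := X) (n := 2 ^ 1) (by rw [pow_one, sq, hxx]))
      exact IsPGroup.of_card (n := j) (by rw [Nat.card_zpowers, hj])
    have hnorm : Subgroup.zpowers X ≤ Subgroup.normalizer (Subgroup.zpowers r : Set (G ⧸ N)) := by
      rw [Subgroup.zpowers_le, Subgroup.mem_normalizer_iff]
      have key : ∀ z ∈ Subgroup.zpowers r, X * z * X⁻¹ ∈ Subgroup.zpowers r := fun z hz => by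
        obtain ⟨j, rfl⟩ := Subgroup.mem_zpowers_iff.1 hz
        have h1 : X * r * X⁻¹ = r⁻¹ := by
          rw [hr, mul_inv_rev, hVinv, hXinv, ← mul_assoc, hxx, one_mul]
        rw [← conj_zpow, h1]
        exact Subgroup.zpow_mem _ (Subgroup.inv_mem _ (Subgroup.mem_zpowers r)) j
      refine fun z => ⟨key z, fun hz => ?_⟩
      have := key _ hz
      rwa [show X * (X * z * X⁻¹) * X⁻¹ = (X * X) * z * (X * X)⁻¹ by group, hxx, one_mul,
        inv_one, mul_one] at this
    have hS := IsPGroup.to_sup_of_normal_right' hXX hR hnorm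
    have hC := IsPGroup.comap_of_ker_isPGroup hS (QuotientGroup.mk' N)
      (by rw [QuotientGroup.ker_mk']; exact hNp)
    refine hg (hC.to_le (sup_le ?_ ?_))
    · rw [Subgroup.zpowers_le]
      exact Subgroup.mem_sup_left (Subgroup.mem_zpowers X)
    · rw [MonoidHom.map_zpowers, Subgroup.zpowers_le]
      show V ∈ Subgroup.zpowers X ⊔ Subgroup.zpowers r
      rw [show V = X * r by rw [hr, ← mul_assoc, hxx, one_mul]]
      exact Subgroup.mul_mem_sup (Subgroup.mem_zpowers X) (Subgroup.mem_zpowers r)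
  obtain ⟨s0, hs0⟩ := QuotientGroup.mk_surjective (r ^ 2 ^ i)
  obtain ⟨j, b', hb', hsb⟩ :=
    Nat.exists_eq_pow_mul_and_not_dvd (orderOf_pos s0).ne' 2 (by norm_num)
  set s := s0 ^ 2 ^ j with hs
  have hsord : ¬ 2 ∣ orderOf s := by
    rwa [hs, orderOf_pow_of_dvd (pow_ne_zero _ two_ne_zero) (hsb ▸ Dvd.intro _ rfl), hsb,
      Nat.mul_div_cancel_left _ (pow_pos two_pos _)]
  have hsbar : (s : G ⧸ N) = r ^ (2 ^ i * 2 ^ j) := by
    rw [hs, QuotientGroup.mk_pow, hs0, ← pow_mul]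
  have hsN : s ∉ N := by
    intro h
    have h1 : r ^ (2 ^ i * 2 ^ j) = 1 := by rw [← hsbar, QuotientGroup.eq_one_iff]; exact h
    have h2 := orderOf_dvd_of_pow_eq_one h1
    rw [hrb, Nat.mul_dvd_mul_iff_left (pow_pos two_pos i)] at h2
    obtain ⟨l, -, rfl⟩ := (Nat.dvd_prime_pow Nat.prime_two).1 h2
    rcases Nat.eq_zero_or_pos l with rfl | hl
    · exact hb1 (pow_zero 2)
    · exact hb (dvd_pow_self 2 hl.ne')
  have hvs : x * s * (x * s) ∈ N := by
    rw [← QuotientGroup.eq_one_iff, QuotientGroup.mk_mul, QuotientGroup.mk_mul, hsbar, ← mul_assoc]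
    exact hxr _
  -- the commutator maps
  let d : G → (N →* N) := fun w =>
    { toFun := fun n => ⟨w * n * w⁻¹ * (n : G)⁻¹,
        N.mul_mem (‹N.Normal›.conj_mem n n.2 w) (N.inv_mem n.2)⟩
      map_one' := Subtype.ext (by simp)
      map_mul' := fun m n => Subtype.ext (by
        show w * ((m : G) * n) * w⁻¹ * ((m : G) * n)⁻¹ =
          w * m * w⁻¹ * (m : G)⁻¹ * (w * n * w⁻¹ * (n : G)⁻¹)
        have hc := D.comm_of_mem (N.inv_mem m.2)
          (N.mul_mem (‹N.Normal›.conj_mem n n.2 w) (N.inv_mem n.2))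
        calc w * ((m : G) * n) * w⁻¹ * ((m : G) * n)⁻¹
            = w * m * w⁻¹ * ((w * n * w⁻¹ * (n : G)⁻¹) * (m : G)⁻¹) := by group
          _ = _ := by rw [← hc, ← mul_assoc]) }
  have hd : ∀ (w : G) (n : N), ((d w n : N) : G) = w * n * w⁻¹ * (n : G)⁻¹ := fun _ _ => rfl
  have hbound : ∀ w : G, w * w ∈ N →
      (d w).range ≤ (d w).ker ∧ Nat.card (d w).range * Nat.card (d w).ker = Nat.card N := by
    intro w hw
    constructor
    · rintro _ ⟨n, rfl⟩
      refine Subtype.ext ?_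
      rw [hd, hd, OneMemClass.coe_one]
      have h1 : w * w * (n : G) = (n : G) * (w * w) := D.comm_of_mem hw n.2
      have hwn : w * (n : G) * w⁻¹ ∈ N := ‹N.Normal›.conj_mem n n.2 w
      set u := w * (n : G) * w⁻¹ with hu
      calc w * (u * (n : G)⁻¹) * w⁻¹ * (u * (n : G)⁻¹)⁻¹
          = (w * w * (n : G)) * (w * w)⁻¹ * u⁻¹ * ((n : G) * u⁻¹) := by rw [hu]; group
        _ = (n : G) * u⁻¹ * ((n : G) * u⁻¹) := by rw [h1]; group
        _ = 1 := hsq _ (N.mul_mem n.2 (N.inv_mem hwn))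
    · rw [← Subgroup.index_ker, mul_comm]
      exact Subgroup.card_mul_index _
  set x0 := x⁻¹ with hx0
  have hx0sq : x0 * x0 ∈ N := by
    rw [hx0, ← mul_inv_rev, ← sq]; exact N.inv_mem hxp
  obtain ⟨hR1, hK1⟩ := hbound x0 hx0sq
  obtain ⟨hR2, hK2⟩ := hbound (x * s) hvs
  have hle : Nat.card N ≤ Nat.card (d x0).range * Nat.card (d (x * s)).range := by
    rw [← Nat.card_prod]
    refine Nat.card_le_card_of_injective
      (fun n => ((⟨d x0 ⟨x * s * (n : G) * (x * s)⁻¹, ‹N.Normal›.conj_mem n n.2 _⟩, _, rfl⟩,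
        ⟨d (x * s) n, n, rfl⟩) : (d x0).range × (d (x * s)).range)) fun m n h => ?_
    have h1 := congrArg (fun z : (d x0).range × (d (x * s)).range =>
      ((z.1 : N) : G) * ((z.2 : N) : G)) h
    simp only [hd] at h1
    have h2 : ∀ m : N, x0 * (x * s * (m : G) * (x * s)⁻¹) * x0⁻¹ *
        (x * s * (m : G) * (x * s)⁻¹)⁻¹ * (x * s * (m : G) * (x * s)⁻¹ * (m : G)⁻¹) =
        s * m * s⁻¹ * (m : G)⁻¹ := fun m => by rw [hx0]; group
    rw [h2, h2] at h1
    have h3 : d s m = d s n := Subtype.ext h1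
    have h4 : d s (m * n⁻¹) = 1 := by rw [map_mul, map_inv, h3, mul_inv_cancel]
    have h5 : s * ((m * n⁻¹ : N) : G) * s⁻¹ * ((m * n⁻¹ : N) : G)⁻¹ = 1 :=
      congrArg Subtype.val h4
    by_contra hmn
    have : s = 1 := D.eq_one_of_commute hNp (m * n⁻¹).2
      (fun h => hmn (mul_inv_eq_one.1 (Subtype.ext h))) hsord
      (by rwa [mul_inv_eq_one, mul_inv_eq_iff_eq_mul] at h5)
    exact hsN (this ▸ N.one_mem)
  have h1 := Subgroup.card_le_of_le hR1
  have h2 := Subgroup.card_le_of_le hR2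
  have hposN : 0 < Nat.card N := Nat.card_pos
  have hR1sq : Nat.card (d x0).ker ≤ Nat.card (d x0).range := by
    set A := Nat.card (d x0).range
    set A' := Nat.card (d x0).ker
    set B := Nat.card (d (x * s)).range
    set B' := Nat.card (d (x * s)).ker
    have hA : 0 < A := Nat.card_pos
    have hB : 0 < B := Nat.card_pos
    have e1 : A' ≤ B := Nat.le_of_mul_le_mul_left (hK1.trans_le hle) hA
    have e2 : B' ≤ A := Nat.le_of_mul_le_mul_left (hK2.trans_le (hle.trans (mul_comm A B).le)) hB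
    omega
  have hrk : (d x0).range = (d x0).ker := Subgroup.eq_of_le_of_card_ge hR1 hR1sq
  obtain ⟨n, hn⟩ : (⟨x0 * x0, hx0sq⟩ : N) ∈ (d x0).range := by
    rw [hrk, MonoidHom.mem_ker]
    refine Subtype.ext ?_
    rw [hd]
    simp [mul_assoc]
  have hn' : x0 * n * x0⁻¹ * (n : G)⁻¹ = x0 * x0 := congrArg Subtype.val hn
  set y := x0 * (n : G) with hy
  have hyN : y ∉ N := fun h => hx (inv_mem_iff.1 ((N.mul_mem_cancel_right n.2).1 h))
  have hyy : y * y = 1 := by
    rw [hy]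
    calc x0 * n * (x0 * n) = (x0 * n * x0⁻¹ * (n : G)⁻¹) * ((n : G) * (x0 * x0) * n) := by group
      _ = (x0 * x0) * ((x0 * x0) * n * n) := by rw [hn', D.comm_of_mem n.2 hx0sq]
      _ = 1 := by rw [mul_assoc (x0 * x0) (n : G), hsq _ n.2, mul_one, hsq _ hx0sq]
  refine hyN (hcent y fun m hm => ?_)
  obtain ⟨c, hc⟩ := isConj_iff.1 (D.coset_isConj hyN hm)
  have hym : y * m * (y * m) = 1 := by
    rw [← hc, show c * y * c⁻¹ * (c * y * c⁻¹) = c * (y * y) * c⁻¹ by group, hyy]; group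
  calc y * m = (y * m * (y * m)) * (m⁻¹ * y⁻¹) := by group
    _ = m⁻¹ * y⁻¹ := by rw [hym, one_mul]
    _ = m * y := by
      rw [inv_eq_of_mul_eq_one_right (hsq m hm), inv_eq_of_mul_eq_one_right hyy]

/-- If `G/N` has order prime to `p`, then `G` is a Frobenius group with kernel `N`. -/
theorem exists_frobenius_complement (D : GagolaData χ N) (hNp : IsPGroup p N) {k : ℕ}
    (hG2 : 2 < Nat.card G) (hk : Nat.card N = p ^ k) (hpk : ¬ p ∣ p ^ k - 1)
    (hG : Nat.card G = (p ^ k - 1) * p ^ k) :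
    ∃ H : Subgroup G, Cfsg.IsFrobeniusComplement H ∧ Cfsg.frobeniusKernel H = (N : Set G) ∧
      Nat.card H + 1 = Nat.card N := by
  classical
  have := D.normal
  have hp : p.Prime := Fact.out
  have hpos : 0 < p ^ k := pow_pos hp.pos k
  have hidx : N.index = p ^ k - 1 := by
    have h := Subgroup.card_mul_index N
    rw [hG, hk, mul_comm (p ^ k - 1)] at h
    exact Nat.eq_of_mul_eq_mul_left hpos h
  obtain ⟨H, hH⟩ := Subgroup.exists_right_complement'_of_coprime (N := N)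
    (by rw [hk, hidx]; exact ((Nat.Prime.coprime_iff_not_dvd hp).2 hpk).pow_left k)
  have hHc : Nat.card H = p ^ k - 1 := by rw [← hidx, hH.symm.index_eq_card]
  have hdisj : ∀ a, a ∈ N → a ∈ H → a = 1 := fun a ha hb =>
    Subgroup.mem_bot.1 (hH.disjoint.le_bot ⟨ha, hb⟩)
  have hkpos : 0 < p ^ k - 1 := Nat.pos_of_ne_zero fun h => hpk (h ▸ dvd_zero p)
  have hcomm : ∀ n ∈ N, n ≠ 1 → ∀ h ∈ H, h * n = n * h → h = 1 := fun n hn hn1 h hh hc =>
    D.eq_one_of_commute hNp hn hn1 (fun hd => hpk (hd.trans (by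
      rw [← hHc]; exact Subgroup.orderOf_dvd_natCard H hh))) hc
  refine ⟨H, ⟨fun h => ?_, fun h => ?_, fun g hg => ?_⟩, Set.ext fun x => ?_, by omega⟩
  · rw [h, Subgroup.card_bot] at hHc
    have : p ^ k = 2 := by omega
    rw [hG, this] at hG2
    omega
  · rw [h, Subgroup.card_top, hG] at hHc
    have := (Subgroup.card_eq_one (H := N)).not.2 D.ne_bot
    rw [hk] at this
    have h2 : 2 ≤ p ^ k := by omega
    nlinarith
  · rw [Subgroup.eq_bot_iff_forall]
    rintro h ⟨hh, hh'⟩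
    obtain ⟨⟨⟨n, hn⟩, ⟨h0, hh0⟩⟩, rfl⟩ := hH.2 g
    obtain ⟨l, hl, hlh⟩ := Subgroup.mem_smul_pointwise_iff_exists _ _ _ |>.1 hh'
    simp only [MulAut.smul_def, MulAut.conj_apply] at hlh
    set k' := h0 * l * h0⁻¹ with hk'
    have hk'H : k' ∈ H := H.mul_mem (H.mul_mem hh0 hl) (H.inv_mem hh0)
    have hnk : n * k' * n⁻¹ = h := by rw [← hlh, hk']; group
    have heq : h * k'⁻¹ = 1 := hdisj _ (by
      rw [← hnk, show n * k' * n⁻¹ * k'⁻¹ = n * (k' * n⁻¹ * k'⁻¹) by group]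
      exact N.mul_mem hn (this.conj_mem _ (N.inv_mem hn) k')) (H.mul_mem hh (H.inv_mem hk'H))
    rw [mul_inv_eq_one] at heq
    by_contra h1
    have hn1 : n ≠ 1 := fun e => hg (by simpa [e] using hh0)
    rw [← heq] at hnk
    exact h1 (hcomm n hn hn1 h hh (by
      calc h * n = n * h * n⁻¹ * n := by rw [hnk]
        _ = n * h := by group))
  · simp only [Cfsg.frobeniusKernel, Set.mem_setOf_eq, SetLike.mem_coe]
    constructor
    · rintro (rfl | hx)
      · exact N.one_mem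
      · by_contra hxN
        obtain ⟨⟨⟨n, hn⟩, ⟨h, hh⟩⟩, hxe⟩ := hH.2 x
        simp only at hxe
        have hhN : h ∉ N := fun e => hxN (hxe ▸ N.mul_mem hn e)
        have hm : h⁻¹ * n * h ∈ N := by simpa using this.conj_mem n hn h⁻¹
        obtain ⟨c, hc⟩ := isConj_iff.1 (D.coset_isConj hhN hm)
        refine hx c ?_
        rw [Subgroup.mem_smul_pointwise_iff_exists]
        refine ⟨h, hh, ?_⟩
        rw [MulAut.smul_def, MulAut.conj_apply, hc, ← hxe]
        group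
    · intro hxN
      by_cases hx1 : x = 1
      · exact Or.inl hx1
      · refine Or.inr fun g hg => hx1 ?_
        obtain ⟨h, hh, rfl⟩ := Subgroup.mem_smul_pointwise_iff_exists _ _ _ |>.1 hg
        simp only [MulAut.smul_def, MulAut.conj_apply] at hxN ⊢
        have : h = 1 := hdisj h (by simpa [mul_assoc] using this.conj_mem _ hxN g⁻¹) hh
        simp [this]

/-- A Frobenius group with kernel `N` and complement of order `|N| - 1`: `|G| = (|N|-1)|N|`. -/
theorem card_of_frobenius (D : GagolaData χ N) (H : Subgroup G)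
    (hker : Cfsg.frobeniusKernel H = (N : Set G)) (hH : Nat.card H + 1 = Nat.card N) :
    Nat.card G ≤ Nat.card H * Nat.card N := by
  classical
  have hsurj : ∀ x : G, x ∉ N → ∃ (q : G ⧸ H) (h : H), h ≠ 1 ∧ q.out * h * q.out⁻¹ = x := by
    intro x hx
    have hx' : x ∉ Cfsg.frobeniusKernel H := by rw [hker]; exact hx
    simp only [Cfsg.frobeniusKernel, Set.mem_setOf_eq, not_or, not_forall, not_not] at hx'
    obtain ⟨hx1, g, hg⟩ := hx'
    obtain ⟨h, hh, rfl⟩ := Subgroup.mem_smul_pointwise_iff_exists _ _ _ |>.1 hg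
    obtain ⟨h2, hh2⟩ := QuotientGroup.mk_out_eq_mul H g
    refine ⟨(g : G ⧸ H), h2⁻¹ * ⟨h, hh⟩ * h2, fun e => hx1 ?_, ?_⟩
    · have : h = 1 := by
        have := congrArg (fun z : H => h2 * z * h2⁻¹) e
        simpa [mul_assoc, Subtype.ext_iff] using this
      simp [this]
    · rw [MulAut.smul_def, MulAut.conj_apply, hh2]
      simp [mul_assoc]
  have h1 : Nat.card {x : G // x ∉ N} ≤ Nat.card ((G ⧸ H) × {h : H // h ≠ 1}) := by
    choose q h hh hq using hsurj
    refine Nat.card_le_card_of_injective (fun x => (q x.1 x.2, ⟨h x.1 x.2, hh x.1 x.2⟩))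
      fun x y e => ?_
    simp only [Prod.mk.injEq, Subtype.mk.injEq] at e
    refine Subtype.ext ?_
    rw [← hq x.1 x.2, ← hq y.1 y.2, e.1, e.2]
  have h2 : Nat.card {x : G // x ∉ N} = Nat.card G - Nat.card N := by
    cases nonempty_fintype G
    simp only [Nat.card_eq_fintype_card]
    exact Fintype.card_subtype_compl _
  have h3 : Nat.card {h : H // h ≠ 1} = Nat.card H - 1 := by
    cases nonempty_fintype G
    simp only [Nat.card_eq_fintype_card]
    rw [Fintype.card_subtype_compl, Fintype.card_subtype_eq]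
  rw [h2, Nat.card_prod, h3, ← Subgroup.index] at h1
  have h4 := Subgroup.card_mul_index H
  have hN : Nat.card N ≤ Nat.card G := Subgroup.card_le_card_group N
  have hHpos : 0 < Nat.card H := Nat.card_pos
  rw [Nat.mul_sub, mul_one, mul_comm H.index, h4] at h1
  have : H.index ≤ Nat.card G := Nat.le_of_dvd Nat.card_pos H.index_dvd_card
  calc Nat.card G = Nat.card H * H.index := h4.symm
    _ ≤ Nat.card H * Nat.card N := Nat.mul_le_mul_left _ (by omega)


end Cfsg.Agent.H85.GagolaData
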