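import Cfsg.Agent.H85.Gagola
import Cfsg.Agent.H85.CharAux
import Mathlib.GroupTheory.Sylow
import Mathlib.GroupTheory.QuotientGroup.Basic

/-!
# The prime of a character that is nonzero on exactly two classes
-/

set_option linter.unusedSectionVars false

open scoped ComplexConjugate

namespace Cfsg.Agent.H85.GagolaData

open Cfsg.Agent.CharBasic

variable {G : Type*} [Group G] [Finite G] {χ : Cfsg.IrrCharacter G} {N : Subgroup G}
  {p : ℕ} [Fact p.Prime]

/-- All the numerical facts, in terms of the prime. -/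
theorem exists_pow (D : GagolaData χ N) (hNp : IsPGroup p N) :
    ∃ a k : ℕ, 0 < k ∧ Nat.card N = p ^ k ∧ ¬ p ∣ p ^ k - 1 ∧
      Nat.card G = p ^ (2 * a) * (p ^ k - 1) * p ^ k ∧
      ∀ x ∈ N, x ≠ 1 → Nat.card (Subgroup.centralizer ({x} : Set G)) = p ^ (2 * a + k) := by
  classical
  have hp : p.Prime := Fact.out
  obtain ⟨k, hk⟩ := IsPGroup.iff_card.1 hNp
  have hkpos : 0 < k := by
    rcases Nat.eq_zero_or_pos k with rfl | h
    · exact absurd ((Subgroup.card_eq_one).1 (by simpa using hk)) D.ne_bot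
    · exact h
  have hpk : ¬ p ∣ p ^ k - 1 := by
    intro h
    have h2 : p ∣ p ^ k := dvd_pow_self p hkpos.ne'
    have h3 := Nat.dvd_sub h2 h
    rw [Nat.sub_sub_self (Nat.one_le_pow _ _ hp.pos)] at h3
    exact hp.one_lt.ne' (Nat.dvd_one.1 h3)
  obtain ⟨x, hx, hx1⟩ := N.bot_or_exists_ne_one.resolve_left D.ne_bot
  obtain ⟨m, hm, -, hval, hG, hC⟩ := D.arith
  suffices hq : ∀ q : ℕ, q.Prime → q ∣ m → q = p by
    obtain ⟨a, rfl⟩ : ∃ a, m = p ^ a :=
      ⟨_, Nat.eq_prime_pow_of_unique_prime_dvd hm.ne' fun {q} hq' hqm => hq q hq' hqm⟩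
    refine ⟨a, k, hkpos, hk, hpk, ?_, fun y hy hy1 => ?_⟩
    · rw [hG, hk]; ring
    · rw [hC y hy hy1, hk]; ring
  intro q hq hqm
  by_contra hqp
  have : Fact q.Prime := ⟨hq⟩
  let C := Subgroup.centralizer ({x} : Set G)
  let Q₀ : Sylow q C := default
  let Q : Subgroup G := (Q₀ : Subgroup C).map C.subtype
  have hQcard : Nat.card Q = q ^ (m ^ 2 * Nat.card N).factorization q := by
    rw [Subgroup.card_map_of_injective C.subtype_injective, Sylow.card_eq_multiplicity,
      hC x hx hx1]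
  have hQC : ∀ y ∈ Q, y ∈ C := fun y hy => by
    obtain ⟨z, -, rfl⟩ := hy
    exact z.2
  have hcomm : ∀ y ∈ Q, x * y = y * x := fun y hy =>
    (Subgroup.mem_centralizer_singleton_iff.1 (hQC y hy)).symm
  have hQN : ∀ y ∈ Q, y ∈ N → y = 1 := by
    intro y hy hyN
    obtain ⟨i, hi⟩ := IsPGroup.iff_orderOf.1 hNp ⟨y, hyN⟩
    obtain ⟨j, hj⟩ := IsPGroup.iff_orderOf.1 (Q₀.2.map C.subtype) ⟨y, hy⟩
    rw [Subgroup.orderOf_mk] at hi hj
    rw [← orderOf_eq_one_iff]
    exact Nat.eq_one_of_dvd_coprimes (((Nat.coprime_primes hq Fact.out).2 hqp).pow j i)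
      hj.dvd hi.dvd
  have := Fintype.ofFinite Q
  have hsum : ∑ y : Q, (χ : G → ℂ) (x * (y : G)) = -(m : ℂ) := by
    rw [Finset.sum_eq_single (1 : Q)]
    · simpa using hval x hx hx1
    · intro y _ hy
      refine not_ne_iff.1 fun h => hy (Subtype.ext (hQN y y.2 ?_))
      exact (N.mul_mem_cancel_left hx).1 ((D.mem_iff _).1 h)
    · simp
  have hint := isIntegral_average (IsIrr.isCharacter χ.2) Q x hcomm
  rw [hsum] at hint
  obtain ⟨e, he⟩ := exists_nat_of_isIntegral (a := m) (b := Nat.card Q) Nat.card_pos (by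
    have := hint.neg
    rwa [mul_neg, neg_neg, mul_comm, ← div_eq_mul_inv] at this)
  have hdvd : q ^ (m ^ 2 * Nat.card N).factorization q ∣ m := by
    rw [← hQcard]
    exact ⟨e, by rw [he, mul_comm]⟩
  rw [Nat.Prime.pow_dvd_iff_le_factorization hq hm.ne', Nat.factorization_mul (pow_ne_zero 2 hm.ne')
    Nat.card_pos.ne', Nat.factorization_pow] at hdvd
  have : 0 < m.factorization q := hq.factorization_pos_of_dvd hm.ne' hqm
  simp at hdvd
  omega

theorem card_sylow (D : GagolaData χ N) (hNp : IsPGroup p N) {a k : ℕ}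
    (hk : ¬ p ∣ p ^ k - 1) (hG : Nat.card G = p ^ (2 * a) * (p ^ k - 1) * p ^ k)
    (P : Sylow p G) : Nat.card (P : Subgroup G) = p ^ (2 * a + k) := by
  have hp : p.Prime := Fact.out
  have hne : p ^ k - 1 ≠ 0 := fun h => hk (h ▸ dvd_zero p)
  rw [Sylow.card_eq_multiplicity, hG, show p ^ (2 * a) * (p ^ k - 1) * p ^ k =
    p ^ (2 * a + k) * (p ^ k - 1) by ring, Nat.factorization_mul (pow_ne_zero _ hp.ne_zero) hne,
    Nat.factorization_pow]
  simp [hp.factorization_self, Nat.factorization_eq_zero_of_not_dvd hk]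

/-- A subgroup of the order of a centraliser in the kernel is a Sylow subgroup. -/
theorem exists_sylow_eq (D : GagolaData χ N) (hNp : IsPGroup p N) {x : G} (hx : x ∈ N)
    (hx1 : x ≠ 1) (H : Subgroup G)
    (hH : Nat.card H = Nat.card (Subgroup.centralizer ({x} : Set G))) :
    ∃ P : Sylow p G, H = (P : Subgroup G) := by
  obtain ⟨a, k, -, -, hk, hG, hC⟩ := D.exists_pow hNp
  have hp : p.Prime := Fact.out
  rw [hC x hx hx1] at hH
  have hidx : ¬ p ∣ H.index := by
    have h := Subgroup.card_mul_index H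
    rw [hH, hG, show p ^ (2 * a) * (p ^ k - 1) * p ^ k = p ^ (2 * a + k) * (p ^ k - 1) by ring,
      Nat.mul_right_inj (pow_ne_zero _ hp.ne_zero)] at h
    rwa [h]
  exact ⟨(IsPGroup.of_card hH).toSylow hidx, rfl⟩

/-- An element of order prime to `p` commuting with a nonidentity element of `N` is trivial. -/
theorem eq_one_of_commute (D : GagolaData χ N) (hNp : IsPGroup p N) {g n : G} (hn : n ∈ N)
    (hn1 : n ≠ 1) (hg : ¬ p ∣ orderOf g) (hc : g * n = n * g) : g = 1 := by
  obtain ⟨a, k, -, -, -, -, hC⟩ := D.exists_pow hNp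
  have h := Subgroup.orderOf_dvd_natCard _
    (Subgroup.mem_centralizer_singleton_iff.2 hc : g ∈ Subgroup.centralizer ({n} : Set G))
  rw [hC n hn hn1] at h
  obtain ⟨i, -, hi⟩ := (Nat.dvd_prime_pow Fact.out).1 h
  rcases Nat.eq_zero_or_pos i with rfl | h0
  · simpa [orderOf_eq_one_iff] using hi
  · exact absurd (hi ▸ dvd_pow_self p h0.ne') hg

theorem card_centralizer_quotient (D : GagolaData χ N) [N.Normal] {x : G} (hx : x ∉ N) :
    Nat.card (Subgroup.centralizer ({x} : Set G)) =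
      Nat.card (Subgroup.centralizer ({(x : G ⧸ N)} : Set (G ⧸ N))) := by
  have hiff : ∀ y : G, IsConj x y ↔ IsConj (x : G ⧸ N) (y : G ⧸ N) := by
    intro y
    constructor
    · intro h
      obtain ⟨g, rfl⟩ := isConj_iff.1 h
      exact isConj_iff.2 ⟨(g : G ⧸ N), by simp⟩
    · intro h
      obtain ⟨g', hg⟩ := isConj_iff.1 h
      obtain ⟨g, rfl⟩ := QuotientGroup.mk_surjective g'
      have hn : (g * x * g⁻¹)⁻¹ * y ∈ N := QuotientGroup.eq.1 (by simpa using hg)
      have hn' : g⁻¹ * ((g * x * g⁻¹)⁻¹ * y) * g ∈ N := by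
        simpa [mul_assoc] using ‹N.Normal›.conj_mem _ hn g⁻¹
      refine (D.coset_isConj hx hn').trans (isConj_iff.2 ⟨g, ?_⟩)
      group
  have e : Nat.card {y : G // IsConj x y} =
      Nat.card N * Nat.card {z : G ⧸ N // IsConj (x : G ⧸ N) z} := by
    rw [← Nat.card_prod]
    exact Nat.card_congr ((Equiv.subtypeEquivRight hiff).trans
      (QuotientGroup.preimageMkEquivSubgroupProdSet N {z | IsConj (x : G ⧸ N) z}))
  have h1 := card_conjugates_mul x
  have h2 := card_conjugates_mul (x : G ⧸ N)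
  rw [e, Subgroup.card_eq_card_quotient_mul_card_subgroup N, mul_assoc, mul_comm (Nat.card (G ⧸ N)),
    Nat.mul_right_inj Nat.card_pos.ne', ← h2, Nat.mul_right_inj] at h1
  · exact h1
  · have : Nonempty {z : G ⧸ N // IsConj (x : G ⧸ N) z} := ⟨⟨_, IsConj.refl _⟩⟩
    exact Nat.card_pos.ne'

end Cfsg.Agent.H85.GagolaData
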