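import Cfsg.Agent.CharInduce.Induce
import Cfsg.Agent.H81.Power
import Cfsg.Agent.CharBasic.Kernel
import Cfsg.Agent.BlockBasic.Basic
import Cfsg.Agent.CharBasic.Integral

/-!
# An irreducible product of a faithful character with a Galois conjugate
-/

set_option linter.unusedSectionVars false

open scoped Classical ComplexConjugate
open Module

namespace Cfsg.Agent.H85

open Cfsg.Agent.CharBasic

variable {G : Type*} [Group G] [Fintype G]

theorem isChar_comp_pow {k : ℕ} (hk : Nat.Coprime k (Nat.card G)) {r : G → ℂ}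
    (hr : Cfsg.IsCharacter G r) : Cfsg.IsCharacter G (fun g => r (g ^ k)) :=
  IsChar.induction_on (p := fun r => Cfsg.IsCharacter G (fun g => r (g ^ k))) hr IsChar.zero
    fun _ _ hφ _ h => IsChar.add (IsIrr.isCharacter (H81.isIrr_comp_pow hk hφ)) h

/-- `χ χ̄` has no nontrivial part fixed by the twist. -/
theorem no_fixed_part {χ : G → ℂ} (hχ : Cfsg.IsIrrCharacter G χ) {k : ℕ}
    (hk : Nat.Coprime k (Nat.card G))
    (hirr : Cfsg.IsIrrCharacter G (fun g => χ g * χ (g ^ k))) {π r : G → ℂ}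
    (hπ : Cfsg.IsCharacter G π) (hr : Cfsg.IsCharacter G r)
    (hD : ∀ g, χ g * conj (χ g) = π g + r g) (hπk : ∀ g, π (g ^ k) = π g) {n : ℕ}
    (hπ1 : π 1 = (n : ℂ)) (hn : 2 ≤ n) : False := by
  set one : G → ℂ := fun _ => 1 with hone
  have h1 : Cfsg.IsIrrCharacter G one := isIrrCharacter_one
  have hrk := isChar_comp_pow hk hr
  -- the inner product is one
  have hDD : Cfsg.classInner (π + r) (π + fun g => r (g ^ k)) = 1 := by
    rw [← classInner_irr_self hirr, classInner_def, classInner_def]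
    refine congrArg _ (Finset.sum_congr rfl fun g _ => ?_)
    simp only [Pi.add_apply]
    have e : π g + r (g ^ k) = χ (g ^ k) * conj (χ (g ^ k)) := by rw [hD, hπk]
    rw [e, ← hD]
    simp only [map_mul, Complex.conj_conj]
    ring
  have hD1 : Cfsg.classInner (π + r) one = 1 := by
    rw [← classInner_irr_self hχ, classInner_def, classInner_def]
    refine congrArg _ (Finset.sum_congr rfl fun g _ => ?_)
    rw [Pi.add_apply, ← hD, hone]
    simp
  obtain ⟨a, ha⟩ := classInner_isChar_nat hπ (IsIrr.isCharacter h1)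
  obtain ⟨b, hb⟩ := classInner_isChar_nat hr (IsIrr.isCharacter h1)
  obtain ⟨s, hs⟩ := classInner_isChar_nat hπ hπ
  obtain ⟨t1, ht1⟩ := classInner_isChar_nat hπ hrk
  obtain ⟨t2, ht2⟩ := classInner_isChar_nat hr hπ
  obtain ⟨t3, ht3⟩ := classInner_isChar_nat hr hrk
  have hsum : s + t1 + (t2 + t3) = 1 := by
    rw [classInner_add_left, classInner_add_right, classInner_add_right, hs, ht1, ht2, ht3] at hDD
    exact_mod_cast hDD
  have hab : a + b = 1 := by
    rw [classInner_add_left, ha, hb] at hD1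
    exact_mod_cast hD1
  have hπ0 : π ≠ 0 := fun h => by
    rw [h, Pi.zero_apply] at hπ1
    have : (0 : ℕ) = n := by exact_mod_cast hπ1
    omega
  have hs0 : s ≠ 0 := fun h => by
    rw [h, Nat.cast_zero] at hs
    exact hπ0 (classInner_self_eq_zero.1 hs)
  rcases Nat.eq_zero_or_pos a with h0 | hapos
  · -- the trivial character is in `r`
    obtain ⟨r', hr', hre⟩ := CharInduce.IsChar.exists_eq_add hr h1
      (by rw [hb]; exact_mod_cast (by omega : b ≠ 0))
    have hrek : (fun g => r (g ^ k)) = one + fun g => r' (g ^ k) := by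
      funext g
      exact congrFun hre _
    obtain ⟨u, hu⟩ := classInner_isChar_nat hr' hrk
    obtain ⟨v, hv⟩ := classInner_isChar_nat (IsIrr.isCharacter h1) (isChar_comp_pow hk hr')
    have e : Cfsg.classInner r (fun g => r (g ^ k)) =
        Cfsg.classInner one (fun g => r (g ^ k)) + (u : ℂ) := by
      conv_lhs => arg 1; rw [hre]
      rw [classInner_add_left, hu]
    rw [e, hrek, classInner_add_right, classInner_irr_self h1, hv] at ht3
    have : t3 ≠ 0 := by
      intro h
      rw [h] at ht3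
      have : 1 + v + u = 0 := by exact_mod_cast ht3
      omega
    omega
  · -- the trivial character is in `π`
    obtain ⟨π', hπ', hπe⟩ := CharInduce.IsChar.exists_eq_add hπ h1
      (by rw [ha]; exact_mod_cast hapos.ne')
    have hπ'0 : π' ≠ 0 := fun h => by
      rw [hπe, h, add_zero] at hπ1
      have h' : ((1 : ℕ) : ℂ) = (n : ℂ) := by simpa [hone] using hπ1
      have : (1 : ℕ) = n := Nat.cast_injective h'
      omega
    obtain ⟨u, hu⟩ := classInner_isChar_nat (IsIrr.isCharacter h1) hπ'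
    obtain ⟨v, hv⟩ := classInner_isChar_nat hπ' (IsIrr.isCharacter h1)
    obtain ⟨w, hw⟩ := classInner_isChar_nat hπ' hπ'
    have hw0 : w ≠ 0 := fun h => by
      rw [h, Nat.cast_zero] at hw
      exact hπ'0 (classInner_self_eq_zero.1 hw)
    rw [hπe, classInner_add_left, classInner_add_right, classInner_add_right,
      classInner_irr_self h1, hu, hv, hw] at hs
    have : 1 + u + (v + w) = s := by exact_mod_cast hs
    omega

/-- All constituents on a normal subgroup are invariant. -/
theorem conjFun_eq_of_constituent {χ : G → ℂ} (hχ : Cfsg.IsIrrCharacter G χ) {k : ℕ}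
    (hk : Nat.Coprime k (Nat.card G))
    (hirr : Cfsg.IsIrrCharacter G (fun g => χ g * χ (g ^ k))) (A : Subgroup G) [A.Normal]
    [Fintype A] {θ : A → ℂ} (hθ : Cfsg.IsIrrCharacter A θ)
    (h : Cfsg.classInner (fun a : A => χ a) θ ≠ 0) (x : G) : CharInduce.conjFun A θ x = θ := by
  by_contra hne
  set T := CharInduce.inertia A θ with hT
  have hxT : x ∉ T := hne
  obtain ⟨φ, hφ, hind, -⟩ := CharInduce.exists_clifford_correspondent A hχ hθ h
  set χb : G → ℂ := fun g => conj (χ g) with hχb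
  have hχbc : Cfsg.IsCharacter G χb := CharInduce.IsChar.conj (IsIrr.isCharacter hχ)
  set f : T → ℂ := fun t => φ t * χb t with hf
  have hfc : Cfsg.IsCharacter T f :=
    CharInduce.IsChar.mul (IsIrr.isCharacter hφ) (CharInduce.IsChar.res hχbc T)
  set one : T → ℂ := fun _ => 1 with hone
  have hf1 : Cfsg.classInner f one ≠ 0 := by
    have e : Cfsg.classInner f one = Cfsg.classInner φ (fun t : T => χ t) := by
      rw [classInner_def, classInner_def]
      refine congrArg _ (Finset.sum_congr rfl fun t _ => ?_)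
      simp [hf, hone, hχb]
    rw [e, ← CharInduce.classInner_indFun_left T φ χ (IsIrr.isClassFunction hχ)]
    rw [show Cfsg.indFun T φ = χ from hind, classInner_irr_self hχ]
    exact one_ne_zero
  obtain ⟨r, hr, hre⟩ := CharInduce.IsChar.exists_eq_add hfc isIrrCharacter_one hf1
  have hD : ∀ g, χ g * conj (χ g) = Cfsg.indFun T one g + Cfsg.indFun T r g := by
    intro g
    rw [← Pi.add_apply, ← CharInduce.indFun_add, ← show f = one + r from hre, hf,
      CharInduce.indFun_mul_res T φ χb (IsChar.isClassFunction hχbc),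
      show Cfsg.indFun T φ = χ from hind]
    rfl
  refine no_fixed_part hχ hk hirr (CharInduce.IsChar.ind T CharInduce.IsChar.one)
    (CharInduce.IsChar.ind T hr) hD (fun g => H81.indFun_comp_pow hk T one g)
    (n := T.index) (by rw [CharInduce.indFun_one, mul_one]) ?_
  have h1 : T.index ≠ 1 := fun h => hxT (Subgroup.index_eq_one.1 h ▸ Subgroup.mem_top x)
  have h0 : T.index ≠ 0 := Subgroup.index_ne_zero_of_finite
  omega

/-- Abelian normal subgroups are central. -/
theorem le_center_of_abelian {χ : G → ℂ} (hχ : Cfsg.IsIrrCharacter G χ)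
    (hfaith : ∀ g, χ g = χ 1 → g = 1) {k : ℕ} (hk : Nat.Coprime k (Nat.card G))
    (hirr : Cfsg.IsIrrCharacter G (fun g => χ g * χ (g ^ k))) (A : Subgroup G) [A.Normal]
    (hA : ∀ a ∈ A, ∀ b ∈ A, a * b = b * a) : A ≤ Subgroup.center G := by
  haveI := Fintype.ofFinite A
  have hc : Cfsg.IsCharacter A (fun a : A => χ a) := CharInduce.IsChar.res (IsIrr.isCharacter hχ) A
  obtain ⟨θ, hθ⟩ := CharInduce.exists_constituent hc (fun h => IsIrr.one_ne_zero hχ (congrFun h 1))
  have hinv := conjFun_eq_of_constituent hχ hk hirr A θ.2 hθ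
  have h1 : (θ : A → ℂ) 1 = 1 :=
    commutative_iff_forall_linear.1 (fun a b => Subtype.ext (hA a a.2 b b.2)) θ
  obtain ⟨l, hl⟩ := CharInduce.IsChar.exists_hom_of_degree_one (IsIrr.isCharacter θ.2) h1
  have hres := CharInduce.clifford_avg A hχ θ.2 hθ
  intro a ha
  rw [Subgroup.mem_center_iff]
  intro g
  have hmem : g * a * g⁻¹ ∈ A := Subgroup.Normal.conj_mem inferInstance a ha g
  set z : A := ⟨g * a * g⁻¹, hmem⟩ * ⟨a, ha⟩⁻¹ with hz
  have hθz : (θ : A → ℂ) z = (θ : A → ℂ) 1 := by
    have e1 : (θ : A → ℂ) ⟨g * a * g⁻¹, hmem⟩ = (θ : A → ℂ) ⟨a, ha⟩ := congrFun (hinv g) ⟨a, ha⟩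
    rw [hl, hl] at e1 ⊢
    rw [hz, map_mul, map_inv, Units.val_mul, e1, ← Units.val_mul, mul_inv_cancel, map_one]
  have e2 := congrFun hres z
  have e3 := congrFun hres 1
  simp only [Pi.smul_apply, Finset.sum_apply, hinv, Finset.sum_const, nsmul_eq_mul, Pi.mul_apply, Pi.natCast_apply] at e2 e3
  rw [hθz, ← e3] at e2
  have hcard : (Nat.card (CharInduce.inertia A (θ : A → ℂ)) : ℂ) ≠ 0 :=
    Nat.cast_ne_zero.2 Nat.card_pos.ne'
  have := hfaith _ (mul_left_cancel₀ hcard e2)
  rw [hz, Subgroup.coe_mul, InvMemClass.coe_inv, mul_inv_eq_one, mul_inv_eq_iff_eq_mul] at this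
  exact this

/-- The image of a commuting idempotent carries a character. -/
theorem isCharacter_trace_idem {W : Type*} [AddCommGroup W] [Module ℂ W] [FiniteDimensional ℂ W]
    (σ : Representation ℂ G W) (Q : Module.End ℂ W) (hQ : Q * Q = Q)
    (hc : ∀ g, σ g * Q = Q * σ g) :
    Cfsg.IsCharacter G (fun g => LinearMap.trace ℂ W (σ g * Q)) := by
  let S : Subrepresentation σ :=
    ⟨LinearMap.range Q, fun g v hv => by
      obtain ⟨u, rfl⟩ := hv
      exact ⟨σ g u, (LinearMap.congr_fun (hc g) u).symm⟩⟩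
  convert isCharacter_character S.toRepresentation using 1
  funext g
  let q : W →ₗ[ℂ] LinearMap.range Q := Q.rangeRestrict
  have e1 : σ g * Q = (σ g ∘ₗ (LinearMap.range Q).subtype) ∘ₗ q := LinearMap.ext fun v => rfl
  rw [e1, LinearMap.trace_comp_comm']
  show LinearMap.trace ℂ _ _ = LinearMap.trace ℂ _ (S.toRepresentation g)
  congr 1
  refine LinearMap.ext fun w => Subtype.ext ?_
  show Q (σ g (w : W)) = σ g (w : W)
  obtain ⟨u, hu⟩ := w.2
  rw [← hu]
  have h1 := LinearMap.congr_fun (hc g) u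
  simp only [Module.End.mul_apply] at h1
  rw [h1, ← Module.End.mul_apply, hQ]

/-- Splitting a character along a commuting idempotent. -/
theorem exists_split_idem {W : Type*} [AddCommGroup W] [Module ℂ W] [FiniteDimensional ℂ W]
    (σ : Representation ℂ G W) (Q : Module.End ℂ W) (hQ : Q * Q = Q)
    (hc : ∀ g, σ g * Q = Q * σ g) :
    ∃ π r : G → ℂ, Cfsg.IsCharacter G π ∧ Cfsg.IsCharacter G r ∧
      (∀ g, π g = LinearMap.trace ℂ W (σ g * Q)) ∧ ∀ g, σ.character g = π g + r g := by
  refine ⟨_, _, isCharacter_trace_idem σ Q hQ hc, isCharacter_trace_idem σ (1 - Q) ?_ ?_,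
    fun g => rfl, fun g => ?_⟩
  · rw [mul_sub, sub_mul, sub_mul, one_mul, one_mul, mul_one, hQ, sub_self, sub_zero]
  · intro g
    rw [mul_sub, sub_mul, one_mul, mul_one, hc]
  · rw [← map_add, ← mul_add, add_sub_cancel, mul_one]
    rfl

/-- A normal nilpotent subgroup is central. -/
theorem le_center_of_nilpotent {χ : G → ℂ} (hχ : Cfsg.IsIrrCharacter G χ)
    (hfaith : ∀ g, χ g = χ 1 → g = 1) {k : ℕ} (hk : Nat.Coprime k (Nat.card G))
    (hirr : Cfsg.IsIrrCharacter G (fun g => χ g * χ (g ^ k))) (F : Subgroup G) [F.Normal]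
    (hF : Group.IsNilpotent F) : F ≤ Subgroup.center G := by
  have hab := fun (A : Subgroup G) (hA : A.Normal) (h : ∀ a ∈ A, ∀ b ∈ A, a * b = b * a) =>
    @le_center_of_abelian G _ _ χ hχ hfaith k hk hirr A hA h
  have hnorm : ∀ i, (F.lowerCentralSeries i).Normal := by
    intro i
    induction i with
    | zero => rw [Subgroup.lowerCentralSeries_zero]; infer_instance
    | succ i ih => rw [Subgroup.lowerCentralSeries_succ]; infer_instance
  -- the class is at most two
  obtain ⟨N, hN⟩ := (Subgroup.isNilpotent_iff_lowerCentralSeries F).1 hF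
  have hstep : ∀ i, 1 ≤ i → F.lowerCentralSeries (i + 1) ≤ Subgroup.center G →
      F.lowerCentralSeries i ≤ Subgroup.center G := by
    intro i hi hle
    set L := F.lowerCentralSeries i with hL
    have hLF : L ≤ F := F.lowerCentralSeries_antitone (Nat.zero_le i)
    have hL1 : L ≤ ⁅F, F⁆ := F.lowerCentralSeries_antitone hi
    have hz : ∀ H : Subgroup G, ⁅H, F⁆ ≤ Subgroup.center G → ⁅⁅H, F⁆, F⁆ = ⊥ := fun H h =>
      Subgroup.commutator_eq_bot_iff_le_centralizer.2
        (h.trans (Subgroup.center_le_centralizer (F : Set G)))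
    have hLF' : ⁅L, F⁆ ≤ Subgroup.center G := hle
    have hd : ⁅⁅F, F⁆, L⁆ = ⊥ := by
      refine Subgroup.commutator_commutator_eq_bot_of_rotate ?_ ?_
      · rw [Subgroup.commutator_comm F L]; exact hz L hLF'
      · exact hz L hLF'
    refine hab L (hnorm i) fun a ha b hb => ?_
    have := Subgroup.commutator_eq_bot_iff_le_centralizer.1 hd (hL1 ha)
    exact (Subgroup.mem_centralizer_iff.1 this b hb).symm
  have hF2 : ∀ j, F.lowerCentralSeries (N - j) ≤ Subgroup.center G ∨ N - j < 1 := by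
    intro j
    induction j with
    | zero => left; rw [Nat.sub_zero, hN]; exact bot_le
    | succ j ih =>
      by_cases h : N - (j + 1) < 1
      · exact Or.inr h
      refine Or.inl (hstep _ (by omega) ?_)
      rcases ih with h' | h'
      · rwa [show N - (j + 1) + 1 = N - j by omega]
      · omega
  have hclass : ⁅F, F⁆ ≤ Subgroup.center G := by
    rcases Nat.lt_or_ge N 2 with h | h
    · have : F.lowerCentralSeries 1 ≤ ⊥ := by
        rw [← hN]; exact F.lowerCentralSeries_antitone (by omega)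
      exact this.trans bot_le
    · rcases hF2 (N - 1) with h' | h'
      · rwa [show N - (N - 1) = 1 by omega] at h'
      · omega
  set ZF := F ⊓ Subgroup.center G with hZF
  -- centre of `F`
  have hcent : ∀ f ∈ F, (∀ h ∈ F, h * f = f * h) → f ∈ Subgroup.center G := by
    intro f hf hh
    haveI : (F ⊓ Subgroup.centralizer (F : Set G)).Normal := inferInstance
    refine hab (F ⊓ Subgroup.centralizer (F : Set G)) inferInstance (fun a ha b hb => ?_)
      ⟨hf, Subgroup.mem_centralizer_iff.2 hh⟩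
    exact (Subgroup.mem_centralizer_iff.1 ha.2 b hb.1).symm
  by_contra hFZ
  obtain ⟨f0, hf0, hf0'⟩ := SetLike.not_le_iff_exists.1 hFZ
  obtain ⟨n, ρ, hρ, rfl⟩ := hχ
  haveI := Fintype.ofFinite F
  have hn : 0 < n := by simpa using finrank_pos_of_isIrreducible ρ
  have hn0 : (n : ℂ) ≠ 0 := Nat.cast_ne_zero.2 hn.ne'
  have hone : ρ.character 1 = (n : ℂ) := by simp
  -- scalars on the centre
  have hscal : ∀ z ∈ Subgroup.center G, ∃ c : ℂ, c ≠ 0 ∧ ρ z = c • 1 ∧
      ρ.character z = c * n := by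
    intro z hz
    obtain ⟨c, hc⟩ := schur_scalar ρ (ρ z) fun g => by
      rw [← map_mul, ← map_mul, ← Subgroup.mem_center_iff.1 hz g]
    refine ⟨c, fun h0 => ?_, hc, ?_⟩
    · have : ρ (z * z⁻¹) = 0 := by rw [map_mul, hc, h0, zero_smul, zero_mul]
      rw [mul_inv_cancel, map_one] at this
      have h2 := congrArg (LinearMap.trace ℂ _) this
      rw [map_zero, Module.End.one_eq_id, LinearMap.trace_id] at h2
      simp [hn.ne'] at h2
    · rw [Representation.character, hc, map_smul, smul_eq_mul]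
      simp
  -- values off the centre vanish
  have hvan : ∀ f ∈ F, f ∉ Subgroup.center G → ρ.character f = 0 := by
    intro f hf hfz
    obtain ⟨h, hh, hne⟩ : ∃ h ∈ F, h * f ≠ f * h := by
      by_contra hcon
      push Not at hcon
      exact hfz (hcent f hf hcon)
    set z := h * f * h⁻¹ * f⁻¹ with hz
    have hzc : z ∈ Subgroup.center G := hclass (Subgroup.commutator_mem_commutator hh hf)
    obtain ⟨c, -, hρz, hcz⟩ := hscal z hzc
    have hc1 : c ≠ 1 := fun h1 => by
      rw [h1, one_mul, ← hone] at hcz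
      have := hfaith z hcz
      rw [hz, mul_inv_eq_one, mul_inv_eq_iff_eq_mul] at this
      exact hne this
    have e : ρ.character f = c * ρ.character f := by
      conv_lhs => rw [← Representation.char_conj ρ f h]
      rw [show h * f * h⁻¹ = z * f by rw [hz]; group, Representation.character, map_mul, hρz,
        smul_mul_assoc, one_mul, map_smul, smul_eq_mul]
      rfl
    have : (1 - c) * ρ.character f = 0 := by linear_combination e
    exact (mul_eq_zero.1 this).resolve_left (sub_ne_zero.2 hc1.symm)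
  -- the projection
  set a : ℂ := ((n : ℂ) * Nat.card ZF)⁻¹ with ha
  let W := (Fin n → ℂ) →ₗ[ℂ] (Fin n → ℂ)
  let σ : Representation ℂ G W := Representation.linHom ρ ρ
  let tr : F → (W →ₗ[ℂ] ℂ) := fun v =>
    (LinearMap.trace ℂ (Fin n → ℂ)) ∘ₗ LinearMap.mulLeft ℂ (ρ (v : G)⁻¹ : Module.End ℂ (Fin n → ℂ))
  let Q : Module.End ℂ W := a • ∑ v : F, (tr v).smulRight (ρ (v : G))
  have hQapp : ∀ X : W, Q X = a • ∑ v : F, tr v X • ρ (v : G) := fun X => by
    simp [Q, LinearMap.sum_apply]
  have htr : ∀ (v : F) (g : G), tr v (ρ g) = ρ.character ((v : G)⁻¹ * g) := fun v g => by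
    show LinearMap.trace ℂ _ ((ρ (v : G)⁻¹ : Module.End ℂ (Fin n → ℂ)) * ρ g) = _
    rw [← map_mul]
    rfl
  have hQρ : ∀ u : F, Q (ρ (u : G)) = ρ (u : G) := by
    intro u
    rw [hQapp]
    simp only [htr]
    have hterm : ∀ v : F, ρ.character ((v : G)⁻¹ * u) • ρ (v : G) =
        if (v : G)⁻¹ * u ∈ ZF then (n : ℂ) • ρ (u : G) else 0 := by
      intro v
      by_cases hv : (v : G)⁻¹ * u ∈ ZF
      · obtain ⟨c, hc0, hρz, hcz⟩ := hscal _ hv.2
        rw [if_pos hv, hcz, show ρ (u : G) = ρ ((v : G) * ((v : G)⁻¹ * u)) by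
          rw [mul_inv_cancel_left], map_mul, hρz, mul_smul_comm, mul_one, smul_smul, mul_comm c]
      · rw [if_neg hv, hvan _ (F.mul_mem (F.inv_mem v.2) u.2) fun h => hv
          ⟨F.mul_mem (F.inv_mem v.2) u.2, h⟩, zero_smul]
    rw [Finset.sum_congr rfl fun v _ => hterm v, Finset.sum_ite, Finset.sum_const_zero, add_zero,
      Finset.sum_const]
    have hcard : (Finset.univ.filter fun v : F => (v : G)⁻¹ * u ∈ ZF).card = Nat.card ZF := by
      haveI := Fintype.ofFinite ZF
      rw [Nat.card_eq_fintype_card, ← Finset.card_univ]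
      refine Finset.card_bij (fun v hv => ⟨(v : G)⁻¹ * u, (Finset.mem_filter.1 hv).2⟩)
        (fun v _ => Finset.mem_univ _) (fun v _ w _ h => ?_) fun z _ => ?_
      · exact Subtype.ext (inv_injective (mul_right_cancel (congrArg Subtype.val h)))
      · refine ⟨⟨u * (z : G)⁻¹, F.mul_mem u.2 (F.inv_mem z.2.1)⟩, ?_, ?_⟩
        · rw [Finset.mem_filter]
          refine ⟨Finset.mem_univ _, ?_⟩
          show (u * (z : G)⁻¹)⁻¹ * u ∈ ZF
          rw [show (u * (z : G)⁻¹)⁻¹ * u = (z : G) by group]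
          exact z.2
        · exact Subtype.ext (by show (u * (z : G)⁻¹)⁻¹ * u = (z : G); group)
    have hZF0 : (Nat.card ZF : ℂ) ≠ 0 := Nat.cast_ne_zero.2 Nat.card_pos.ne'
    rw [hcard, ← Nat.cast_smul_eq_nsmul ℂ, smul_smul, smul_smul, ha,
      show ((n : ℂ) * Nat.card ZF)⁻¹ * (Nat.card ZF : ℂ) * (n : ℂ) = 1 by field_simp, one_smul]
  have hQQ : Q * Q = Q := LinearMap.ext fun X => by
    rw [Module.End.mul_apply, hQapp X, map_smul, map_sum]
    simp only [map_smul, hQρ]
  have hcomm : ∀ g, σ g * Q = Q * σ g := by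
    intro g
    refine LinearMap.ext fun X => ?_
    have hσ : ∀ Y : W, σ g Y = (ρ g : Module.End ℂ (Fin n → ℂ)) * Y * ρ g⁻¹ := fun Y => by
      rw [Representation.linHom_apply]
      rfl
    rw [Module.End.mul_apply, Module.End.mul_apply, hQapp, hQapp, map_smul, map_sum]
    congr 1
    refine Fintype.sum_equiv (MulAut.conjNormal g : MulAut F).toEquiv _ _ fun v => ?_
    rw [map_smul, hσ, hσ]
    show tr v X • _ = tr (MulAut.conjNormal g v) _ • ρ ((MulAut.conjNormal g v : F) : G)
    rw [MulAut.conjNormal_apply, map_mul ρ, map_mul ρ]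
    congr 1
    show LinearMap.trace ℂ _ ((ρ (v : G)⁻¹ : Module.End ℂ (Fin n → ℂ)) * X) =
      LinearMap.trace ℂ _ ((ρ (g * (v : G) * g⁻¹)⁻¹ : Module.End ℂ (Fin n → ℂ)) *
        ((ρ g : Module.End ℂ (Fin n → ℂ)) * X * ρ g⁻¹))
    rw [← mul_assoc (ρ (g * (v : G) * g⁻¹)⁻¹), ← mul_assoc (ρ (g * (v : G) * g⁻¹)⁻¹), ← map_mul]
    conv_rhs => rw [LinearMap.trace_mul_comm, ← mul_assoc, ← map_mul]
    rw [show g⁻¹ * ((g * (v : G) * g⁻¹)⁻¹ * g) = (v : G)⁻¹ by group]
  obtain ⟨π, r, hπc, hrc, hπdef, hsplit⟩ := exists_split_idem σ Q hQQ hcomm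
  have hπval : ∀ g, LinearMap.trace ℂ W (σ g * Q) =
      a * ∑ v : F, ρ.character ((v : G)⁻¹ * (g * v * g⁻¹)) := by
    intro g
    have : σ g * Q = a • ∑ v : F, (tr v).smulRight (σ g (ρ (v : G))) := by
      refine LinearMap.ext fun X => ?_
      rw [Module.End.mul_apply, hQapp, map_smul, map_sum]
      simp [LinearMap.sum_apply]
    rw [this, map_smul, map_sum, smul_eq_mul]
    congr 1
    refine Finset.sum_congr rfl fun v _ => ?_
    rw [LinearMap.trace_smulRight, ← htr, map_mul ρ, map_mul ρ]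
    congr 1
  -- invariance under the twist
  have hfix : ∀ (g : G) (v : G) (z : G), z ∈ Subgroup.center G → g * v * g⁻¹ = v * z → ∀ i : ℕ,
      g ^ i * v * (g ^ i)⁻¹ = v * z ^ i ∧ g * v ^ i * g⁻¹ = v ^ i * z ^ i := by
    intro g v z hz he i
    have hzc : ∀ x : G, x * z = z * x := fun x => Subgroup.mem_center_iff.1 hz x
    refine ⟨?_, ?_⟩
    · induction i with
      | zero => simp
      | succ i ih =>
        calc g ^ (i + 1) * v * (g ^ (i + 1))⁻¹ = g * (g ^ i * v * (g ^ i)⁻¹) * g⁻¹ := by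
              rw [pow_succ']; group
          _ = (g * v * g⁻¹) * (g * z ^ i * g⁻¹) := by rw [ih]; group
          _ = v * z ^ (i + 1) := by
              rw [he, ((show Commute g z from hzc g).pow_right i).eq, mul_inv_cancel_right,
                mul_assoc, ← pow_succ']
    · rw [← conj_pow, he, (show Commute v z from hzc v).mul_pow]
  obtain ⟨j, hj⟩ : ∃ j, ∀ x : G, (x ^ k) ^ j = x := by
    obtain ⟨j, -, hj⟩ := Nat.exists_mul_mod_eq_one_of_coprime hk
      (Nat.one_lt_iff_ne_zero_and_ne_one.2 ⟨Nat.card_pos.ne', fun h => hf0' (by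
        haveI := (Nat.card_eq_one_iff_unique.1 h).1
        rw [Subsingleton.elim f0 1]; exact Subgroup.one_mem _)⟩)
    exact ⟨j, fun x => by
      rw [← pow_mul, ← pow_mod_natCard, hj, pow_one]⟩
  have hmem : ∀ (g : G), ∀ v ∈ F, v⁻¹ * (g * v * g⁻¹) ∈ F := fun g v hv =>
    F.mul_mem (F.inv_mem hv) (Subgroup.Normal.conj_mem inferInstance v hv g)
  have hπk : ∀ g, LinearMap.trace ℂ W (σ (g ^ k) * Q) = LinearMap.trace ℂ W (σ g * Q) := by
    intro g
    rw [hπval, hπval]
    congr 1
    refine Fintype.sum_bijective (fun v : F => v ^ k)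
      ((powCoprime (Nat.Coprime.coprime_dvd_left (Subgroup.card_subgroup_dvd_card F) hk.symm)).bijective)
      _ _ fun v => ?_
    rw [SubgroupClass.coe_pow]
    by_cases hz : (v : G)⁻¹ * (g * v * g⁻¹) ∈ Subgroup.center G
    · obtain ⟨h1, h2⟩ := hfix g v _ hz (by group) k
      rw [h1, h2, inv_mul_cancel_left, inv_mul_cancel_left]
    · rw [hvan _ (hmem _ _ v.2), hvan _ (hmem _ _ (F.pow_mem v.2 k))]
      · intro h
        obtain ⟨-, h2⟩ := hfix g ((v : G) ^ k) _ h (by group) j
        rw [hj] at h2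
        refine hz ?_
        rw [h2, inv_mul_cancel_left]
        exact Subgroup.pow_mem _ h j
      · intro h
        obtain ⟨h1, -⟩ := hfix (g ^ k) v _ h (by group) j
        rw [hj] at h1
        refine hz ?_
        rw [h1, inv_mul_cancel_left]
        exact Subgroup.pow_mem _ h j
  obtain ⟨d, hd⟩ := IsChar.exists_degree hπc
  refine no_fixed_part ⟨n, ρ, hρ, rfl⟩ hk hirr hπc hrc (fun g => ?_)
    (fun g => by rw [hπdef, hπdef, hπk]) hd ?_
  · rw [← hsplit, ← character_inv ρ g, Representation.char_linHom, mul_comm]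
  · have h1 := hπval 1
    rw [← hπdef, hd] at h1
    simp only [one_mul, inv_one, mul_one, inv_mul_cancel, hone, Finset.sum_const, Finset.card_univ,
      nsmul_eq_mul] at h1
    rw [ha, ← Nat.card_eq_fintype_card] at h1
    have hZF0 : (Nat.card ZF : ℂ) ≠ 0 := Nat.cast_ne_zero.2 Nat.card_pos.ne'
    field_simp at h1
    have h2 : d * Nat.card ZF = Nat.card F := by exact_mod_cast h1
    by_contra hd2
    have h3 : d = 0 ∨ d = 1 := by omega
    rcases h3 with rfl | rfl
    · rw [zero_mul] at h2; exact Nat.card_pos.ne h2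
    · rw [one_mul] at h2
      exact hf0' ((Subgroup.eq_of_le_of_card_ge (inf_le_left : ZF ≤ F) h2.ge).ge hf0).2

end Cfsg.Agent.H85
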