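import Cfsg.Agent.H85.GlaubermanFree
import Cfsg.Agent.H85.FusionModels
import Cfsg.Prelude.Def_FusionReduction

/-!
Glauberman's theorem for fusion systems: an element of `Z(S)` fixed by the automorphisms of `J(S)` is central
(for `p` odd, for `p`-th powers of elements of `Z(S)`, and for `S₄`-free systems).
-/

set_option autoImplicit false
set_option linter.style.haveILetI false
set_option linter.unusedSectionVars false

namespace Cfsg.Agent.H85

open Cfsg Cfsg.FusionSystem Cfsg.Agent.FusionSys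

universe u v

theorem mem_of_maxAbelian_of_commute {G : Type v} [Group G] [Finite G] {T A : Subgroup G}
    (hA : IsMaxAbelianIn T A) {x : G} (hxT : x ∈ T) (hx : ∀ a ∈ A, Commute a x) : x ∈ A := by
  have hle : A ⊔ Subgroup.zpowers x ≤ T := sup_le hA.1 (by rwa [Subgroup.zpowers_le])
  have hc : IsMulCommutative ↥(A ⊔ Subgroup.zpowers x) := by
    have h1 : (A : Set G) ∪ {x} ⊆ Subgroup.centralizer ((A : Set G) ∪ {x}) := by
      rintro u (hu | rfl) w (hw | rfl)
      · exact (hA.commute hw hu).eq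
      · exact (hx u hu).eq.symm
      · exact (hx w hw).eq
      · rfl
    have h2 : A ⊔ Subgroup.zpowers x ≤ Subgroup.centralizer ((A ⊔ Subgroup.zpowers x : Subgroup G) : Set G) := by
      rw [Subgroup.zpowers_eq_closure, ← Subgroup.closure_eq A, ← Subgroup.closure_union,
        Subgroup.centralizer_closure, Subgroup.closure_le]
      exact h1
    exact ⟨⟨fun a b => Subtype.ext (Subgroup.mem_centralizer_iff.1 (h2 b.2) _ a.2)⟩⟩
  have h := Subgroup.eq_of_le_of_card_ge le_sup_left (hA.2.2 _ hle hc)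
  exact h.ge (Subgroup.mem_sup_right (Subgroup.mem_zpowers x))

theorem mem_thompsonAOf_of_commute {G : Type v} [Group G] [Finite G] {T : Subgroup G} {x : G}
    (hxT : x ∈ T) (hx : ∀ a ∈ T, Commute a x) : x ∈ thompsonSubgroupAOf T := by
  by_cases h : thompsonSubgroupAOf T ≤ (⊥ : Subgroup G)
  · rcases eq_or_ne T ⊥ with hb | hb
    · obtain rfl : x = 1 := by rw [hb] at hxT; exact Subgroup.mem_bot.1 hxT
      exact one_mem _
    · exact absurd (le_bot_iff.1 h) (H59.thompsonAOf_ne_bot hb)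
  · obtain ⟨A, hA, -⟩ := exists_maxAbelian_not_le h
    exact H59.le_thompsonAOf hA.1 hA.2.1 hA.2.2
      (mem_of_maxAbelian_of_commute hA hxT fun a ha => hx a (hA.1 ha))

variable {Ω : Type u} [Group Ω] {S : Subgroup Ω} [Finite S] {p : ℕ} [Fact p.Prime] {F : FusionSystem S}

/-- All automorphisms of `R` fix `x`. -/
def FixesElt (F : FusionSystem S) (R : Subgroup Ω) (x : Ω) : Prop :=
  ∀ α ∈ F.autGroup R, autMap α x = x

theorem zpow_fix {P : Subgroup Ω} {g : Ω → Ω} (hg : IsMap F P g) {x : Ω} (hx : x ∈ P) (hgx : g x = x) :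
    ∀ q ∈ Subgroup.zpowers x, g q = q := by
  rintro _ ⟨n, rfl⟩
  obtain ⟨φ, -, hφ⟩ := hg
  rw [← hφ ⟨x ^ n, zpow_mem hx n⟩, show (⟨x ^ n, zpow_mem hx n⟩ : P) = ⟨x, hx⟩ ^ n from Subtype.ext rfl,
    map_zpow, hφ ⟨x, hx⟩, hgx]

section Induction

variable {x : Ω} {E : FusionSystem S}

theorem isMap_kSys_bot (hE : IsKSys F (⊥ : Subgroup (MulAut (Subgroup.zpowers x))) E)
    {P : Subgroup Ω} {f : Ω → Ω} (hf : IsMap F P f) (hx : x ∈ P) (hfx : f x = x) : IsMap E P f :=
  (hE.map_iff P f).2 ⟨hf.le, fun _ hy => hf.mem_S hy, f, hf.mono (sup_le le_rfl (Subgroup.zpowers_le.2 hx)),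
    fun _ _ => rfl, onQ_bot_iff.2 (zpow_fix hf hx hfx)⟩

theorem fix_of_isMap_kSys (hE : IsKSys F (⊥ : Subgroup (MulAut (Subgroup.zpowers x))) E)
    {P : Subgroup Ω} {f : Ω → Ω} (hf : IsMap E P f) (hx : x ∈ P) : f x = x := by
  obtain ⟨-, -, g, -, he, hQ⟩ := (hE.map_iff P f).1 hf
  rw [← he x hx]
  exact onQ_bot_iff.1 hQ x (Subgroup.mem_zpowers x)

/-- All maps of `F` with sources of order more than `k` fix `x`, if the fully normalized centric subgroups
with normalizers of order more than `k` do. -/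
theorem isMap_of_good_above (hS : IsPGroup p S) (hF : F.IsSaturated p) (hxS : x ∈ S)
    (hxc : ∀ s ∈ S, Commute s x)
    (hE : IsKSys F (⊥ : Subgroup (MulAut (Subgroup.zpowers x))) E) (k : ℕ)
    (hgood : ∀ R, F.IsFullyNormalized R → F.IsCentric R → k < Nat.card (normalizerIn S R) →
      FixesElt F R x) :
    ∀ (P : Subgroup Ω) (f : Ω → Ω), IsMap F P f → k < Nat.card P → IsMap E P f := by
  let Φ : Subgroup Ω → (Ω → Ω) → Prop := fun P f => k < Nat.card P → IsMap E P f
  let E' := subSys F Φ (fun P f g h he hk => (h hk).congr he)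
    (fun P a hP ha _ => isMap_conj E hP ha)
    (fun P Q f g hf hg hm h1 h2 hk => by
      haveI := finite_of_le hf.le
      haveI := finite_of_le hg.le
      have hle : Nat.card P ≤ Nat.card Q := hf.isIso.card_eq.le.trans (Subgroup.card_le_of_le
        ((Subgroup.closure_le _).2 (Set.image_subset_iff.2 hm)))
      exact (h1 hk).comp (h2 (hk.trans_le hle)) hm)
    (fun P Q f g hf hg hinv h hk => by
      haveI := finite_of_le hf.isMap.le
      have hP : k < Nat.card P := by rwa [hf.card_eq]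
      obtain ⟨w, hw, hw1, -⟩ := (IsIso.mk (h hP) hf.image_eq).exists_symm
      refine hw.isMap.congr fun y hy => ?_
      obtain ⟨z, hz, rfl⟩ := hf.exists_preimage hy
      rw [hinv z hz, hw1 z hz])
  have hle : F ≤ E' := le_of_autGroup_fullyNormalized hS hF fun R hR hbig α hα => by
    haveI := finite_of_le hR.1
    have hm : IsMap F R (autMap α) := (mem_autGroup_iff hR.1).1 hα
    obtain ⟨φ, hφ, hφe⟩ := hm
    refine (mem_autGroup_iff hR.1).2 ⟨φ, ⟨hφ, fun hk => ?_⟩, hφe⟩
    refine (?_ : IsMap E R (autMap α)).congr fun y hy => (homFun_mem φ hy).trans (hφe ⟨y, hy⟩)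
    have hiso := isIso_autMap hR.1 hα
    by_cases hC : centralizerIn S R ≤ R
    · have hc : F.IsCentric R :=
        isCentric_of_receptive (receptive_of_isFullyNormalized hS hF hR) hC
      have hxR : x ∈ R := hC (FusionSys.mem_centralizerIn.2 ⟨hxS, fun y hy => (hxc y (hR.1 hy)).eq⟩)
      haveI := finite_of_le (S := S) (P := normalizerIn S R) normalizerIn_le
      exact isMap_kSys_bot hE hiso.isMap hxR
        (hgood R hR hc (hk.trans_le (Subgroup.card_le_of_le (le_normalizerIn_self hR.1))) α hα)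
    · obtain ⟨g, hg, hge⟩ := receptive_extend (receptive_of_isFullyNormalized hS hF hR) hiso
        (N := centralizerIn S R) fun y hy => hiso.isMap.inExt_of_centralizes hy
      haveI := finite_of_le hg.le
      have hlt : Nat.card R < Nat.card ↥(centralizerIn S R ⊔ R) := by
        by_contra h
        exact hC (le_sup_left.trans (Subgroup.eq_of_le_of_card_ge le_sup_right (not_lt.1 h)).ge)
      obtain ⟨ψ, ⟨-, hψ⟩, hψe⟩ := hbig _ g hlt hg
      exact ((hψ (hk.trans hlt)).mono le_sup_right).congr fun y hy => by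
        rw [homFun_mem ψ (Subgroup.mem_sup_right hy), hψe, hge y hy]
  intro P f hf hk
  obtain ⟨φ, ⟨-, hφ⟩, hφe⟩ := (le_iff_isMap.1 hle) P f hf
  exact (hφ hk).congr fun y hy => ((homFun_mem φ hy).trans (hφe ⟨y, hy⟩)).symm

/-- From a subgroup with a large normalizer to a centric one. -/
theorem fixesElt_of_large (hS : IsPGroup p S) (hF : F.IsSaturated p) (hxS : x ∈ S)
    (hxc : ∀ s ∈ S, Commute s x)
    (hE : IsKSys F (⊥ : Subgroup (MulAut (Subgroup.zpowers x))) E) (k : ℕ)
    (hgood : ∀ R, F.IsFullyNormalized R → F.IsCentric R → k < Nat.card (normalizerIn S R) →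
      FixesElt F R x)
    {W : Subgroup Ω} (hWS : W ≤ S) (hxW : x ∈ W) (hk : k < Nat.card (normalizerIn S W)) :
    FixesElt F W x := by
  have big := isMap_of_good_above hS hF hxS hxc hE k hgood
  obtain ⟨W', hWW', hfn⟩ := exists_isFullyNormalized F hWS
  obtain ⟨u, hu, hui, -⟩ := exists_map_to_fullyNormalized hS hF hfn hWW'
  have hux : u x = x := fix_of_isMap_kSys hE (big _ u hu hk) (le_normalizerIn_self hWS hxW)
  have hxW' : x ∈ W' := hux ▸ hui.mem hxW
  haveI := finite_of_le hWS
  haveI := finite_of_le (S := S) (P := centralizerIn S W') centralizerIn_le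
  haveI := finite_of_le (S := S) (P := normalizerIn S W') normalizerIn_le
  have hk' : k < Nat.card (normalizerIn S W') := hk.trans_le (hfn.2 W (isConj_symm hWW'))
  -- the fully normalized conjugate
  suffices h : FixesElt F W' x by
    intro α hα
    have h1 := h _ (hui.autEquiv_mem_autGroup hα)
    rw [← hux, hui.autMap_autEquiv α hxW] at h1
    exact hui.isMap.injOn (autMap_mem α hxW) hxW h1
  have hW'S := hfn.1
  haveI := finite_of_le hW'S
  have hfc := isFullyCentralized_of_isFullyNormalized hS hF hfn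
  set R0 := W' ⊔ centralizerIn S W' with hR0
  have hR0S : R0 ≤ S := sup_le hW'S centralizerIn_le
  haveI := finite_of_le hR0S
  have hcent : F.IsCentric R0 := by
    refine ⟨hR0S, fun Q hQ => ?_⟩
    obtain ⟨f, hf⟩ := isConj_iff.1 hQ
    have hfW : IsMap F W' f := hf.isMap.mono le_sup_left
    have hbound := hfc.2 _ hfW.isIso.isConj
    intro y hy
    haveI := finite_of_le (S := S) (P := centralizerIn S (imgSub f W')) centralizerIn_le
    have hsub : f '' (centralizerIn S W' : Set Ω) = (centralizerIn S (imgSub f W') : Set Ω) := by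
      refine Set.eq_of_subset_of_ncard_le ?_ ?_ (Set.toFinite _)
      · rintro _ ⟨c, hc, rfl⟩
        exact hf.isMap.mem_centralizerIn le_sup_left (Subgroup.mem_sup_right hc)
          (FusionSys.mem_centralizerIn.1 hc).2
      · rw [Set.InjOn.ncard_image (hf.isMap.injOn.mono fun c hc => Subgroup.mem_sup_right hc)]
        exact hbound
    have hyc : y ∈ centralizerIn S (imgSub f W') := by
      refine FusionSys.mem_centralizerIn.2 ⟨hy.1, fun z hz => ?_⟩
      obtain ⟨a, ha, rfl⟩ := hfW.mem_imgSub.1 hz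
      exact (FusionSys.mem_centralizerIn.1 hy).2 _ (hf.mem (Subgroup.mem_sup_left ha))
    obtain ⟨c, hc, rfl⟩ := hsub.ge hyc
    exact hf.mem (Subgroup.mem_sup_right hc)
  have hn0 : normalizerIn S W' ≤ normalizerIn S R0 := by
    intro y hy
    refine ⟨hy.1, mem_normalizer_of_maps fun z hz => ?_⟩
    refine (isMap_conj F hR0S hy.1).mapsTo_sup (C := R0)
      (fun a ha => Subgroup.mem_sup_left (conj_mem_of_mem_normalizerIn hy ha))
      (fun a ha => Subgroup.mem_sup_right (FusionSys.mem_centralizerIn.2 ⟨?_, fun b hb => ?_⟩)) hz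
    · exact S.mul_mem (S.mul_mem hy.1 ha.1) (S.inv_mem hy.1)
    · have h1 := (FusionSys.mem_centralizerIn.1 ha).2 _ (conj_symm_mem_of_mem_normalizerIn hy hb)
      calc b * (y * a * y⁻¹) = y * (y⁻¹ * b * y * a) * y⁻¹ := by group
        _ = y * a * y⁻¹ * b := by rw [h1]; group
  obtain ⟨R1, hR01, hR1⟩ := exists_isFullyNormalized F hR0S
  obtain ⟨v, hv, hvi, -⟩ := exists_map_to_fullyNormalized hS hF hR1 hR01
  haveI := finite_of_le (S := S) (P := normalizerIn S R0) normalizerIn_le
  haveI := finite_of_le (S := S) (P := normalizerIn S R1) normalizerIn_le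
  have hk0 : k < Nat.card (normalizerIn S R0) := hk'.trans_le (Subgroup.card_le_of_le hn0)
  have hxR0 : x ∈ R0 := Subgroup.mem_sup_left hxW'
  have hvx : v x = x := fix_of_isMap_kSys hE (big _ v hv hk0) (le_normalizerIn_self hR0S hxR0)
  have hgood1 := hgood R1 hR1 (isCentric_of_isConj hcent hR01) (hk0.trans_le (hR1.2 R0 (isConj_symm hR01)))
  intro α hα
  have hiso := isIso_autMap hW'S hα
  obtain ⟨g, hg, hge⟩ := receptive_extend (receptive_of_isFullyNormalized hS hF hfn) hiso
    (N := centralizerIn S W') fun y hy => hiso.isMap.inExt_of_centralizes hy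
  have hgm : ∀ y ∈ R0, g y ∈ R0 := fun y hy => (hg.mono (sup_comm W' (centralizerIn S W')).le).mapsTo_sup
    (fun a ha => Subgroup.mem_sup_left (hge a ha ▸ autMap_mem _ ha))
    (fun a ha => Subgroup.mem_sup_right
      (hiso.mem_centralizerIn_of_extends hg le_sup_right hge (Subgroup.mem_sup_left ha) ha)) hy
  obtain ⟨β, hβ, hβe⟩ := (isIso_of_mapsTo (hg.mono (sup_comm W' (centralizerIn S W')).le) hgm).exists_aut
  have h1 := hgood1 _ (hvi.autEquiv_mem_autGroup hβ)
  rw [← hvx, hvi.autMap_autEquiv β hxR0] at h1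
  rw [← hge x hxW', ← hβe x hxR0]
  exact hvi.isMap.injOn (autMap_mem β hxR0) hxR0 h1

/-- The conditions under which Glauberman's local theorem applies to `L`. -/
def LocalHyp (p : ℕ) (S : Subgroup Ω) (x : Ω) (L : Type u) [Group L] : Prop :=
  p ≠ 2 ∨ (∃ z ∈ S ⊓ Subgroup.centralizer (S : Set Ω), z ^ p = x) ∨ ¬ Involves (Equiv.Perm (Fin 4)) L

/-- A finite group carrying the automorphisms of `R` and the fusion it normalizes. -/
def LocalData (p : ℕ) (F : FusionSystem S) (R : Subgroup Ω) (x : Ω) : Prop :=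
  ∃ (L : Type u) (_ : Group L) (_ : Finite L) (ι : ↥(normalizerIn S R) →* L) (T : Sylow p L)
      (V : Subgroup L) (_ : V.Normal),
    Function.Injective ι ∧ (T : Subgroup L) = ι.range ∧
    (∀ (g : L) (P : Subgroup Ω), P ≤ normalizerIn S R →
      (∀ y : ↥(normalizerIn S R), (y : Ω) ∈ P → g * ι y * g⁻¹ ∈ ι.range) →
      ∃ f, IsMap F P f ∧ ∀ y : ↥(normalizerIn S R), (y : Ω) ∈ P →
        ∃ h : f y ∈ normalizerIn S R, ι ⟨f y, h⟩ = g * ι y * g⁻¹) ∧
    (∀ α ∈ F.autGroup R, ∃ g : L, ∀ y : ↥(normalizerIn S R), (y : Ω) ∈ R →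
      ∃ h : autMap α y ∈ normalizerIn S R, ι ⟨autMap α y, h⟩ = g * ι y * g⁻¹) ∧
    IsMulCommutative V ∧ V ≤ (T : Subgroup L) ∧
    (∀ z : ↥(normalizerIn S R), (∀ s ∈ S, Commute s (z : Ω)) → ι z ∈ V) ∧
    LocalHyp p S x L

/-- The models provide local data. -/
theorem localData_of_models (hS : IsPGroup p S) (hF : F.IsSaturated p)
    (hloc : ∀ R, F.IsFullyNormalized R → F.IsCentric R →
      ∀ N : FusionSystem (normalizerIn S R), F.IsNormalizerSystem R N →
        ∀ (L : Type u) [Group L] (ι : ↥(normalizerIn S R) →* L), N.IsModel p L ι → LocalHyp p S x L)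
    {R : Subgroup Ω} (hR : F.IsFullyNormalized R) (hc : F.IsCentric R) : LocalData p F R x := by
  obtain ⟨N, hN, L, iL, ι, hL⟩ := exists_local_model hS hF hR hc
  haveI : Finite ↥(normalizerIn S R) := finite_of_le normalizerIn_le
  haveI := hL.1
  obtain ⟨T, hT⟩ := hL.2.2.1
  have hRT : R ≤ normalizerIn S R := le_normalizerIn_self hR.1
  refine ⟨L, iL, hL.1, ι, T, pCore p L ⊓ Subgroup.centralizer ((pCore p L : Subgroup L) : Set L),
    inferInstance, hL.2.1.1, hT, fun g P hP hg => ?_, fun α hα => ?_,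
    ⟨⟨fun a b => Subtype.ext (Subgroup.mem_centralizer_iff.1 b.2.2 _ a.2.1)⟩⟩,
    inf_le_left.trans (Cores.pCore_le_sylow T), fun z hz => ?_, hloc R hR hc N hN L ι hL⟩
  · obtain ⟨f, hfN, hf, hfe⟩ := exists_conj_map hN hL g hP hg
    exact ⟨f, hf, fun y hy => ⟨hfN.mem_S hy, hfe y hy _⟩⟩
  · have hm : IsMap N R (autMap α) := (isKSys_normalizer_iff.1 hN).map_iff _ _ |>.2 ⟨hRT,
      fun y hy => hRT (autMap_mem α hy), autMap α,
      ((mem_autGroup_iff hR.1).1 hα).mono (sup_le le_rfl le_rfl), fun _ _ => rfl,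
      α, Subgroup.mem_top _, fun _ _ => rfl⟩
    exact ((isMap_realized_iff hL.2.1).1 hm).2
  · have h2 : ι z ∈ Subgroup.centralizer ((pCore p L : Subgroup L) : Set L) :=
      Subgroup.mem_centralizer_iff.2 fun y hy => by
        obtain ⟨s, rfl⟩ := pCore_le_range hL hy
        exact ((show Commute s z from Subtype.ext (hz s s.2.1).eq).map ι).eq
    exact ⟨hL.2.2.2 h2, h2⟩

/-- The automorphisms of every fully normalized centric subgroup fix `x`. -/
theorem fixesElt_of_centric (hS : IsPGroup p S) (hF : F.IsSaturated p) (hxS : x ∈ S)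
    (hxc : ∀ s ∈ S, Commute s x)
    (hE : IsKSys F (⊥ : Subgroup (MulAut (Subgroup.zpowers x))) E)
    (hJ : FixesElt F (thompsonSubgroupAOf S) x)
    (hdata : ∀ R, F.IsFullyNormalized R → F.IsCentric R → LocalData p F R x) :
    ∀ R, F.IsFullyNormalized R → F.IsCentric R → FixesElt F R x := by
  suffices h : ∀ d R, F.IsFullyNormalized R → F.IsCentric R →
      Nat.card S - Nat.card (normalizerIn S R) = d → FixesElt F R x from
    fun R hR hc => h _ R hR hc rfl
  intro d
  induction d using Nat.strong_induction_on with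
  | _ d ih =>
  intro R hR hc hd
  haveI : Finite ↥(normalizerIn S R) := finite_of_le normalizerIn_le
  have hgood : ∀ R', F.IsFullyNormalized R' → F.IsCentric R' →
      Nat.card (normalizerIn S R) < Nat.card (normalizerIn S R') → FixesElt F R' x := by
    intro R' h1 h2 hlt
    have := Subgroup.card_le_of_le (normalizerIn_le (S := S) (P := R'))
    exact ih _ (by omega) R' h1 h2 rfl
  obtain ⟨L, _, hfinL, ι, T, V, hVn, hinj, hT, hconjmap, hautR, hVc, hVT, hVmem, hlocL⟩ := hdata R hR hc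
  haveI := hfinL
  haveI := hVn
  have hxR : x ∈ R := centralizerIn_le_of_isCentric hc
    (FusionSys.mem_centralizerIn.2 ⟨hxS, fun y hy => (hxc y (hR.1 hy)).eq⟩)
  have hRT : R ≤ normalizerIn S R := le_normalizerIn_self hR.1
  set x' : ↥(normalizerIn S R) := ⟨x, hRT hxR⟩ with hx'
  -- `x` and the other central elements of `S` in the local group
  have hcentral : ∀ z : ↥(normalizerIn S R), (∀ s ∈ S, Commute s (z : Ω)) →
      (∀ t ∈ (T : Subgroup L), Commute t (ι z)) ∧ ι z ∈ V := by
    intro z hz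
    refine ⟨fun t ht => ?_, hVmem z hz⟩
    rw [hT] at ht
    obtain ⟨s, rfl⟩ := ht
    exact (show Commute s z from Subtype.ext (hz s s.2.1).eq).map ι
  obtain ⟨hxT, hxV⟩ := hcentral x' hxc
  -- the normalizer of `J(T)` fixes `x`
  set J0 := thompsonSubgroupA ↥(normalizerIn S R) with hJ0
  set W := J0.map (normalizerIn S R).subtype with hW
  have hJmap : thompsonSubgroupAOf (T : Subgroup L) = J0.map ι := by
    rw [hT, MonoidHom.range_eq_map, H59.thompsonAOf_map ι ⊤ hinj.injOn, thompsonSubgroupAOf,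
      hJ0, ← H59.map_thompsonA (Subgroup.topEquiv (G := ↥(normalizerIn S R)))]
    rfl
  have hxJ : x' ∈ J0 := by
    have h1 : ι x' ∈ J0.map ι := hJmap ▸ mem_thompsonAOf_of_commute (hVT hxV) hxT
    rwa [Subgroup.mem_map_iff_mem hinj] at h1
  have hWS : W ≤ S := (Subgroup.map_subtype_le _).trans normalizerIn_le
  have hxW : x ∈ W := ⟨x', hxJ, rfl⟩
  have hfixW : FixesElt F W x := by
    rcases eq_or_ne (normalizerIn S R) S with htop | htop
    · rw [show W = thompsonSubgroupAOf S from
        (congrArg thompsonSubgroupAOf htop : thompsonSubgroupAOf (normalizerIn S R) = _)]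
      exact hJ
    · refine fixesElt_of_large hS hF hxS hxc hE _ hgood hWS hxW ?_
      haveI := finite_of_le (S := S) (P := normalizerIn S W) normalizerIn_le
      refine (card_lt_card_normalizerIn hS (lt_of_le_of_ne normalizerIn_le htop)).trans_le
        (Subgroup.card_le_of_le ?_)
      exact inf_le_inf_left _ (H59.normalizer_le_normalizer_thompsonAOf _)
  have hnorm : ∀ g ∈ Subgroup.normalizer (thompsonSubgroupAOf (T : Subgroup L) : Set L),
      Commute g (ι x') := by
    rw [hJmap]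
    intro g hg
    obtain ⟨f, hf, hfe⟩ := hconjmap g W (Subgroup.map_subtype_le J0) fun y hy => by
      obtain ⟨y', hy', e⟩ := hy
      obtain rfl : y' = y := Subtype.ext e
      exact Subgroup.map_le_range ι J0 ((Subgroup.mem_normalizer_iff.1 hg _).1
        (Subgroup.mem_map_of_mem ι hy'))
    have hfm : ∀ y ∈ W, f y ∈ W := by
      rintro _ ⟨y, hy, rfl⟩
      obtain ⟨hm, he⟩ := hfe y (Subgroup.mem_map_of_mem _ hy)
      have h1 := (Subgroup.mem_normalizer_iff.1 hg _).1 (Subgroup.mem_map_of_mem ι hy)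
      rw [← he, Subgroup.mem_map_iff_mem hinj] at h1
      exact ⟨_, h1, rfl⟩
    haveI := finite_of_le hWS
    obtain ⟨α, hα, hαe⟩ := (isIso_of_mapsTo hf hfm).exists_aut
    have hfx : f x = x := by rw [← hαe x hxW]; exact hfixW α hα
    obtain ⟨hm', h1⟩ := hfe x' hxW
    rw [show (⟨f x, _⟩ : ↥(normalizerIn S R)) = x' from Subtype.ext hfx] at h1
    exact (eq_mul_inv_iff_mul_eq.1 h1).symm
  have hcenter : ι x' ∈ Subgroup.center L := by
    rcases hlocL with hp | ⟨z, hz, hzx⟩ | hfree
    · exact mem_center_glauberman_odd hp T V hVc hVT hxV hxT hnorm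
    · have hzc : ∀ s ∈ S, Commute s z := fun s hs => Subgroup.mem_centralizer_iff.1 hz.2 s hs
      have hzT : z ∈ normalizerIn S R := hRT (centralizerIn_le_of_isCentric hc
        (FusionSys.mem_centralizerIn.2 ⟨hz.1, fun y hy => (hzc y (hR.1 hy)).eq⟩))
      obtain ⟨hz1, hz2⟩ := hcentral ⟨z, hzT⟩ hzc
      have he : ι x' = ι ⟨z, hzT⟩ ^ p := by rw [← map_pow]; exact congrArg ι (Subtype.ext hzx.symm)
      rw [he] at hnorm ⊢
      exact mem_center_glauberman_pow T V hVc hVT hz2 hz1 hnorm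
    · rcases eq_or_ne p 2 with rfl | hp
      · exact mem_center_glauberman_free _ L le_rfl hfree T V hVc hVT _ hxV hxT hnorm
      · exact mem_center_glauberman_odd hp T V hVc hVT hxV hxT hnorm
  intro α hα
  obtain ⟨g, hg⟩ := hautR α hα
  obtain ⟨h, he⟩ := hg x' hxR
  rw [Subgroup.mem_center_iff.1 hcenter g, mul_inv_cancel_right] at he
  exact congrArg Subtype.val (hinj he)

/-- Glauberman's theorem for fusion systems. -/
theorem isCentral_zpowers_of_fixesElt (hS : IsPGroup p S) (hF : F.IsSaturated p) (hxS : x ∈ S)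
    (hxc : ∀ s ∈ S, Commute s x) (hJ : FixesElt F (thompsonSubgroupAOf S) x)
    (hdata : ∀ R, F.IsFullyNormalized R → F.IsCentric R → LocalData p F R x) :
    F.IsCentral (Subgroup.zpowers x) := by
  have hX : Subgroup.zpowers x ≤ S := Subgroup.zpowers_le.2 hxS
  obtain ⟨E, hE⟩ := exists_isKSys F hX (⊥ : Subgroup (MulAut (Subgroup.zpowers x))) (T := S) fun s =>
    ⟨fun hs => mem_kNorm_bot.2 (FusionSys.mem_centralizerIn.2 ⟨hs, fun y hy => by
      obtain ⟨n, rfl⟩ := hy
      exact ((hxc s hs).zpow_right n).eq.symm⟩),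
      fun hs => centralizerIn_le (mem_kNorm_bot.1 hs)⟩
  have hgood := fixesElt_of_centric hS hF hxS hxc hE hJ hdata
  refine isCentral_iff.2 ⟨hX, fun P f hf => ?_⟩
  have hm := isMap_of_good_above hS hF hxS hxc hE 0 (fun R h1 h2 _ => hgood R h1 h2) P f hf
    (haveI := finite_of_le hf.le; Nat.card_pos)
  obtain ⟨-, -, g, hg, he, hQ⟩ := (hE.map_iff P f).1 hm
  exact ⟨g, hg, he, onQ_bot_iff.1 hQ⟩

end Induction

end Cfsg.Agent.H85
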