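import Cfsg.Agent.H85.CentralPowers
import Cfsg.Agent.H85.GlaubermanFusion

/-!
Glauberman's generation theorem for fusion systems: a saturated system is generated by the centralizer
system of the subgroup of `p`-th powers of `Z(S)` and the normalizer system of `J(S)`.
-/

set_option autoImplicit false
set_option linter.style.haveILetI false
set_option linter.unusedSectionVars false

namespace Cfsg.Agent.H85

open Cfsg Cfsg.FusionSystem Cfsg.Agent.FusionSys

universe u

variable {Ω : Type u} [Group Ω] {S : Subgroup Ω} [Finite S] {p : ℕ} [Fact p.Prime] {F E : FusionSystem S}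
  {V W : Subgroup Ω}

/-- An element of `H` commuting with all of `H` lies in `J(H)`. -/
theorem mem_thompsonAOf_of_commute' {H : Subgroup Ω} [Finite H] {x : Ω} (hxH : x ∈ H)
    (hx : ∀ a ∈ H, Commute a x) : x ∈ thompsonSubgroupAOf H := by
  have h : (⟨x, hxH⟩ : H) ∈ thompsonSubgroupAOf (⊤ : Subgroup H) :=
    mem_thompsonAOf_of_commute (Subgroup.mem_top _) fun a _ => Subtype.ext (hx a a.2).eq
  have h1 := Subgroup.mem_map_of_mem H.subtype h
  rwa [← H59.thompsonAOf_map H.subtype ⊤ H.subtype_injective.injOn, ← MonoidHom.range_eq_map,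
    Subgroup.range_subtype] at h1

/-- All maps of `F` stabilizing `W`, defined between `W` and its normalizer, lie in `E`. -/
def StabIn (F E : FusionSystem S) (W : Subgroup Ω) : Prop :=
  ∀ (P : Subgroup Ω) (f : Ω → Ω), IsMap F P f → W ≤ P → P ≤ normalizerIn S W →
    (∀ x ∈ W, f x ∈ W) → IsMap E P f

/-- Transport of `StabIn` along a map of both systems. -/
theorem stabIn_of_iso {W' : Subgroup Ω} {u : Ω → Ω} (hu : IsMap F (normalizerIn S W) u)
    (huE : IsMap E (normalizerIn S W) u) (hui : IsIso F W W' u) (h : StabIn F E W') : StabIn F E W := by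
  intro P f hf hWP hPN hfW
  have hWS : W ≤ S := hui.source_le
  haveI := finite_of_le hWS
  have hW' : W' = imgSub u W := hui.eq_imgSub
  have hfim : imgSub f W = W :=
    SetLike.coe_injective (by rw [(hf.mono hWP).coe_imgSub, (hf.mono hWP).image_eq_of_mapsTo hfW])
  have hfN : ∀ x ∈ P, f x ∈ normalizerIn S W := fun x hx => by
    have := hf.mem_normalizerIn hWP hx (hPN hx).2
    rwa [hfim] at this
  obtain ⟨u', hu', hu'1, -⟩ := hu.isIso.exists_symm
  obtain ⟨w, hw, hw1, -⟩ := huE.isIso.exists_symm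
  have hP'X : imgSub u P ≤ imgSub u (normalizerIn S W) := fun y hy => by
    obtain ⟨x, hx, rfl⟩ := (hu.mono hPN).mem_imgSub.1 hy
    exact hu.mem_imgSub.2 ⟨x, hPN hx, rfl⟩
  have hu'P : ∀ y ∈ imgSub u P, u' y ∈ P := fun y hy => by
    obtain ⟨x, hx, rfl⟩ := (hu.mono hPN).mem_imgSub.1 hy
    rwa [hu'1 x (hPN hx)]
  have hf' : IsMap F (imgSub u P) (u ∘ (f ∘ u')) :=
    ((hu'.isMap.mono hP'X).comp hf hu'P).comp hu fun y hy => hfN _ (hu'P y hy)
  have hW'P : W' ≤ imgSub u P := fun y hy => by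
    obtain ⟨x, hx, rfl⟩ := hui.exists_preimage hy
    exact (hu.mono hPN).mem_imgSub.2 ⟨x, hWP hx, rfl⟩
  have hPN' : imgSub u P ≤ normalizerIn S W' := fun y hy => by
    obtain ⟨x, hx, rfl⟩ := (hu.mono hPN).mem_imgSub.1 hy
    rw [hW']
    exact hu.mem_normalizerIn (le_normalizerIn_self hWS) (hPN hx) (hPN hx).2
  have hf'W : ∀ y ∈ W', (u ∘ (f ∘ u')) y ∈ W' := fun y hy => by
    obtain ⟨x, hx, rfl⟩ := hui.exists_preimage hy
    show u (f (u' (u x))) ∈ W'
    rw [hu'1 x (le_normalizerIn_self hWS hx)]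
    exact hui.mem (hfW x hx)
  have h1 := h _ _ hf' hW'P hPN' hf'W
  have h2 : IsMap E P ((u ∘ (f ∘ u')) ∘ u) :=
    (huE.mono hPN).comp h1 fun x hx => (hu.mono hPN).mem_imgSub.2 ⟨x, hx, rfl⟩
  refine (h2.comp hw.isMap fun x hx => ?_).congr fun x hx => ?_
  · show u (f (u' (u x))) ∈ _
    rw [hu'1 x (hPN hx)]
    exact huE.mem_imgSub.2 ⟨_, hfN x hx, rfl⟩
  · show f x = w (u (f (u' (u x))))
    rw [hu'1 x (hPN hx), hw1 _ (hfN x hx)]

/-- The maps fixing `V` pointwise lie in every system containing `C_F(V)`. -/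
theorem isMap_of_fix (hVc : ∀ s ∈ S, ∀ v ∈ V, Commute s v) {C : FusionSystem (centralizerIn S V)}
    (hC : F.IsCentralizerSystem V C) (hCE : C.IsSubsystemOf E) {P : Subgroup Ω} {h : Ω → Ω}
    (hh : IsMap F P h) (hVP : V ≤ P) (hfix : ∀ v ∈ V, h v = v) : IsMap E P h := by
  refine isSubsystemOf_iff_isMap.1 hCE P h (((isKSys_centralizer hC).map_iff P h).2
    ⟨fun x hx => FusionSys.mem_centralizerIn.2 ⟨hh.le hx, fun v hv => (hVc x (hh.le hx) v hv).eq.symm⟩,
      fun x hx => FusionSys.mem_centralizerIn.2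
        ⟨hh.mem_S hx, fun v hv => (hVc _ (hh.mem_S hx) v hv).eq.symm⟩,
      h, hh.mono (sup_le le_rfl hVP), fun _ _ => rfl, onQ_bot_iff.2 hfix⟩)

/-- The maps stabilizing `J(S)` lie in every system containing `N_F(J(S))`. -/
theorem isMap_of_stab {N : FusionSystem (normalizerIn S (thompsonSubgroupAOf S))}
    (hN : F.IsNormalizerSystem (thompsonSubgroupAOf S) N) (hNE : N.IsSubsystemOf E) {P : Subgroup Ω}
    {f : Ω → Ω} (hf : IsMap F P f) (hJP : thompsonSubgroupAOf S ≤ P)
    (hfJ : ∀ x ∈ thompsonSubgroupAOf S, f x ∈ thompsonSubgroupAOf S) : IsMap E P f := by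
  haveI := finite_of_le (H59.thompsonAOf_le S)
  have hnor : ∀ x ∈ S, x ∈ normalizerIn S (thompsonSubgroupAOf S) := fun x hx =>
    ⟨hx, H59.normalizer_le_normalizer_thompsonAOf S (Subgroup.le_normalizer hx)⟩
  exact isSubsystemOf_iff_isMap.1 hNE P f (((isKSys_normalizer_iff.1 hN).map_iff P f).2
    ⟨fun x hx => hnor x (hf.le hx), fun x hx => hnor _ (hf.mem_S hx), f, hf.mono (sup_le le_rfl hJP),
      fun _ _ => rfl, (onQ_top_iff hf hJP).2 ((hf.mono hJP).image_eq_of_mapsTo hfJ)⟩)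

section Induction

variable (hS : IsPGroup p S) (hF : F.IsSaturated p)
include hS hF

/-- Every map with a source of order more than `k` lies in `E`, if `StabIn` holds for the fully normalized
centric subgroups with normalizers of order more than `k`. -/
theorem isMap_of_stabIn_above (k : ℕ)
    (hgood : ∀ R, F.IsFullyNormalized R → F.IsCentric R → k < Nat.card (normalizerIn S R) → StabIn F E R) :
    ∀ (P : Subgroup Ω) (f : Ω → Ω), IsMap F P f → k < Nat.card P → IsMap E P f := by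
  let Φ : Subgroup Ω → (Ω → Ω) → Prop := fun P f => k < Nat.card P → IsMap E P f
  let E' := subSys F Φ (fun P f g h he hk => (h hk).congr he)
    (fun P a hP ha _ => isMap_conj E hP ha)
    (fun P Q f g hf hg hm h1 h2 hk => by
      haveI := finite_of_le hf.le
      haveI := finite_of_le hg.le
      have hle : Nat.card P ≤ Nat.card Q := hf.isIso.card_eq.le.trans (Subgroup.card_le_of_le
        ((Subgroup.closure_le _).2 (Set.image_subset_iff.2 hm)))
      exact (h1 hk).comp (h2 (hk.trans_le hle)) hm)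
    (fun P Q f g hf hg hinv h hk => by
      haveI := finite_of_le hf.isMap.le
      have hP : k < Nat.card P := by rwa [hf.card_eq]
      obtain ⟨w, hw, hw1, -⟩ := (IsIso.mk (h hP) hf.image_eq).exists_symm
      refine hw.isMap.congr fun y hy => ?_
      obtain ⟨z, hz, rfl⟩ := hf.exists_preimage hy
      rw [hinv z hz, hw1 z hz])
  have hle : F ≤ E' := le_of_autGroup_fullyNormalized hS hF fun R hR hbig α hα => by
    haveI := finite_of_le hR.1
    have hm : IsMap F R (autMap α) := (mem_autGroup_iff hR.1).1 hα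
    obtain ⟨φ, hφ, hφe⟩ := hm
    refine (mem_autGroup_iff hR.1).2 ⟨φ, ⟨hφ, fun hk => ?_⟩, hφe⟩
    refine (?_ : IsMap E R (autMap α)).congr fun y hy => (homFun_mem φ hy).trans (hφe ⟨y, hy⟩)
    have hiso := isIso_autMap hR.1 hα
    by_cases hC : centralizerIn S R ≤ R
    · have hc : F.IsCentric R :=
        isCentric_of_receptive (receptive_of_isFullyNormalized hS hF hR) hC
      haveI := finite_of_le (S := S) (P := normalizerIn S R) normalizerIn_le
      exact hgood R hR hc (hk.trans_le (Subgroup.card_le_of_le (le_normalizerIn_self hR.1))) R _ hiso.isMap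
        le_rfl (le_normalizerIn_self hR.1) fun x hx => autMap_mem α hx
    · obtain ⟨g, hg, hge⟩ := receptive_extend (receptive_of_isFullyNormalized hS hF hR) hiso
        (N := centralizerIn S R) fun y hy => hiso.isMap.inExt_of_centralizes hy
      haveI := finite_of_le hg.le
      have hlt : Nat.card R < Nat.card ↥(centralizerIn S R ⊔ R) := by
        by_contra h
        exact hC (le_sup_left.trans (Subgroup.eq_of_le_of_card_ge le_sup_right (not_lt.1 h)).ge)
      obtain ⟨ψ, ⟨-, hψ⟩, hψe⟩ := hbig _ g hlt hg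
      exact ((hψ (hk.trans hlt)).mono le_sup_right).congr fun y hy => by
        rw [homFun_mem ψ (Subgroup.mem_sup_right hy), hψe, hge y hy]
  intro P f hf hk
  obtain ⟨φ, ⟨-, hφ⟩, hφe⟩ := (le_iff_isMap.1 hle) P f hf
  exact (hφ hk).congr fun y hy => ((homFun_mem φ hy).trans (hφe ⟨y, hy⟩)).symm

/-- From a subgroup with a large normalizer to a centric one. -/
theorem stabIn_of_large (hVc : ∀ s ∈ S, ∀ v ∈ V, Commute s v) {C : FusionSystem (centralizerIn S V)}
    (hC : F.IsCentralizerSystem V C) (hCE : C.IsSubsystemOf E) (k : ℕ)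
    (hgood : ∀ R, F.IsFullyNormalized R → F.IsCentric R → k < Nat.card (normalizerIn S R) → StabIn F E R)
    (hWS : W ≤ S) (hVW : ∀ u, IsMap F (normalizerIn S W) u → V ≤ imgSub u W)
    (hk : k < Nat.card (normalizerIn S W)) : StabIn F E W := by
  have big := isMap_of_stabIn_above hS hF k hgood
  obtain ⟨W', hWW', hfn⟩ := exists_isFullyNormalized F hWS
  obtain ⟨u, hu, hui, -⟩ := exists_map_to_fullyNormalized hS hF hfn hWW'
  refine stabIn_of_iso hu (big _ u hu hk) hui ?_
  have hVW' : V ≤ W' := hui.eq_imgSub ▸ hVW u hu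
  have hW'S := hfn.1
  haveI := finite_of_le hW'S
  haveI := finite_of_le (S := S) (P := centralizerIn S W') centralizerIn_le
  haveI := finite_of_le (S := S) (P := normalizerIn S W') normalizerIn_le
  have hk' : k < Nat.card (normalizerIn S W') := hk.trans_le (hfn.2 W (isConj_symm hWW'))
  have hfc := isFullyCentralized_of_isFullyNormalized hS hF hfn
  set R0 := W' ⊔ centralizerIn S W' with hR0
  have hR0S : R0 ≤ S := sup_le hW'S centralizerIn_le
  haveI := finite_of_le hR0S
  have hcent : F.IsCentric R0 := by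
    refine ⟨hR0S, fun Q hQ => ?_⟩
    obtain ⟨f, hf⟩ := isConj_iff.1 hQ
    have hfW : IsMap F W' f := hf.isMap.mono le_sup_left
    have hbound := hfc.2 _ hfW.isIso.isConj
    intro y hy
    haveI := finite_of_le (S := S) (P := centralizerIn S (imgSub f W')) centralizerIn_le
    have hsub : f '' (centralizerIn S W' : Set Ω) = (centralizerIn S (imgSub f W') : Set Ω) := by
      refine Set.eq_of_subset_of_ncard_le ?_ ?_ (Set.toFinite _)
      · rintro _ ⟨c, hc, rfl⟩
        exact hf.isMap.mem_centralizerIn le_sup_left (Subgroup.mem_sup_right hc)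
          (FusionSys.mem_centralizerIn.1 hc).2
      · rw [Set.InjOn.ncard_image (hf.isMap.injOn.mono fun c hc => Subgroup.mem_sup_right hc)]
        exact hbound
    have hyc : y ∈ centralizerIn S (imgSub f W') := by
      refine FusionSys.mem_centralizerIn.2 ⟨hy.1, fun z hz => ?_⟩
      obtain ⟨a, ha, rfl⟩ := hfW.mem_imgSub.1 hz
      exact (FusionSys.mem_centralizerIn.1 hy).2 _ (hf.mem (Subgroup.mem_sup_left ha))
    obtain ⟨c, hc, rfl⟩ := hsub.ge hyc
    exact hf.mem (Subgroup.mem_sup_right hc)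
  have hn0 : normalizerIn S W' ≤ normalizerIn S R0 := by
    intro y hy
    refine ⟨hy.1, mem_normalizer_of_maps fun z hz => ?_⟩
    refine (isMap_conj F hR0S hy.1).mapsTo_sup (C := R0)
      (fun a ha => Subgroup.mem_sup_left (conj_mem_of_mem_normalizerIn hy ha))
      (fun a ha => Subgroup.mem_sup_right (FusionSys.mem_centralizerIn.2 ⟨?_, fun b hb => ?_⟩)) hz
    · exact S.mul_mem (S.mul_mem hy.1 ha.1) (S.inv_mem hy.1)
    · have h1 := (FusionSys.mem_centralizerIn.1 ha).2 _ (conj_symm_mem_of_mem_normalizerIn hy hb)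
      calc b * (y * a * y⁻¹) = y * (y⁻¹ * b * y * a) * y⁻¹ := by group
        _ = y * a * y⁻¹ * b := by rw [h1]; group
  haveI := finite_of_le (S := S) (P := normalizerIn S R0) normalizerIn_le
  have hk0 : k < Nat.card (normalizerIn S R0) := hk'.trans_le (Subgroup.card_le_of_le hn0)
  obtain ⟨R1, hR01, hR1⟩ := exists_isFullyNormalized F hR0S
  obtain ⟨v, hv, hvi, -⟩ := exists_map_to_fullyNormalized hS hF hR1 hR01
  have hR0E : StabIn F E R0 := stabIn_of_iso hv (big _ v hv hk0) hvi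
    (hgood R1 hR1 (isCentric_of_isConj hcent hR01) (hk0.trans_le (hR1.2 R0 (isConj_symm hR01))))
  intro P f hf hW'P hPN hfW
  have hiso : IsIso F W' W' f := ⟨hf.mono hW'P, (hf.mono hW'P).image_eq_of_mapsTo hfW⟩
  obtain ⟨g, hg, hge⟩ := receptive_extend (receptive_of_isFullyNormalized hS hF hfn) hiso
    (N := P ⊔ centralizerIn S W') fun y hy => by
      obtain ⟨φ, hφ, hφe⟩ := hiso.isMap
      have hle : P ⊔ centralizerIn S W' ≤ extender S W' φ :=
        sup_le (fun z hz => (mem_extender_iff hφe).2 (hf.inExt_of_extends hW'P (fun _ _ => rfl) hz (hPN hz).2))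
          (fun z hz => (mem_extender_iff hφe).2 (hiso.isMap.inExt_of_centralizes hz))
      exact (mem_extender_iff hφe).1 (hle hy)
  set X0 := P ⊔ centralizerIn S W' with hX0
  have hW'X : W' ≤ X0 := hW'P.trans le_sup_left
  have hg0 : IsMap F X0 g := hg.mono le_sup_left
  have hR0X : R0 ≤ X0 := sup_le hW'X le_sup_right
  have hX0S : X0 ≤ normalizerIn S R0 :=
    (sup_le hPN centralizerIn_le_normalizerIn).trans hn0
  have hgW : ∀ x ∈ W', g x ∈ W' := fun x hx => (hge x hx).symm ▸ hfW x hx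
  have hgim : imgSub g W' = W' :=
    SetLike.coe_injective (by rw [(hg0.mono hW'X).coe_imgSub, (hg0.mono hW'X).image_eq_of_mapsTo hgW])
  have hgC : ∀ c ∈ centralizerIn S W', g c ∈ centralizerIn S W' := fun c hc => by
    have := hg0.mem_centralizerIn hW'X (Subgroup.mem_sup_right hc) (FusionSys.mem_centralizerIn.1 hc).2
    rwa [hgim] at this
  have hgE : IsMap E X0 g := hR0E X0 g hg0 hR0X hX0S fun x hx =>
    (hg0.mono (sup_le (hW'X) le_sup_right : W' ⊔ centralizerIn S W' ≤ X0)).mapsTo_sup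
      (fun a ha => Subgroup.mem_sup_left (hgW a ha)) (fun a ha => Subgroup.mem_sup_right (hgC a ha)) hx
  have hgCeq : g '' (centralizerIn S W' : Set Ω) = (centralizerIn S W' : Set Ω) :=
    (hg0.mono le_sup_right).image_eq_of_mapsTo hgC
  have himg : ∀ y ∈ P, f y ∈ imgSub g X0 := by
    intro y hy
    have hyX : y ∈ X0 := Subgroup.mem_sup_left hy
    have hcen : (g y)⁻¹ * f y ∈ centralizerIn S W' := by
      refine FusionSys.mem_centralizerIn.2 ⟨S.mul_mem (S.inv_mem (hg0.mem_S hyX)) (hf.mem_S hy), fun a ha => ?_⟩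
      obtain ⟨b, hb, rfl⟩ := hiso.exists_preimage ha
      have hb' : y * b * y⁻¹ ∈ W' := conj_mem_of_mem_normalizerIn (hPN hy) hb
      have h1 := hf.map_conj hy (hW'P hb)
      have h2 := hg0.map_conj hyX (hW'X hb)
      rw [hge _ hb', hge _ hb] at h2
      have h3 : g y * f b * (g y)⁻¹ = f y * f b * (f y)⁻¹ := h2.symm.trans h1
      calc f b * ((g y)⁻¹ * f y) = (g y)⁻¹ * (g y * f b * (g y)⁻¹) * f y := by group
        _ = (g y)⁻¹ * f y * f b := by rw [h3]; group
    obtain ⟨c, hc, hce⟩ := hgCeq.ge hcen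
    refine hg0.mem_imgSub.2 ⟨y * c, mul_mem hyX (Subgroup.mem_sup_right hc), ?_⟩
    rw [hg0.map_mul hyX (Subgroup.mem_sup_right hc), hce, mul_inv_cancel_left]
  obtain ⟨g', hg', hg'1, hg'2⟩ := hg0.isIso.exists_symm
  have hhE : IsMap E P (g' ∘ f) := isMap_of_fix hVc hC hCE (hf.comp hg'.isMap himg)
    (hVW'.trans hW'P) fun v hv => by
      show g' (f v) = v
      rw [← hge v (hVW' hv), hg'1 v (hW'X (hVW' hv))]
  exact (hhE.comp hgE fun y hy => hg'.mem (himg y hy)).congr fun y hy => (hg'2 _ (himg y hy)).symm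

/-- `StabIn` holds for every fully normalized centric subgroup. -/
theorem stabIn_of_centric (hVS : V ≤ S) (hVc : ∀ s ∈ S, ∀ v ∈ V, Commute s v)
    (hVZ : ∀ v ∈ V, ∃ z ∈ S ⊓ Subgroup.centralizer (S : Set Ω), z ^ p = v)
    {C : FusionSystem (centralizerIn S V)} (hC : F.IsCentralizerSystem V C) (hCE : C.IsSubsystemOf E)
    {N : FusionSystem (normalizerIn S (thompsonSubgroupAOf S))}
    (hN : F.IsNormalizerSystem (thompsonSubgroupAOf S) N) (hNE : N.IsSubsystemOf E) :
    ∀ R, F.IsFullyNormalized R → F.IsCentric R → StabIn F E R := by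
  have hcz : ∀ z ∈ S ⊓ Subgroup.centralizer (S : Set Ω), ∀ s ∈ S, Commute s z := fun z hz s hs =>
    Subgroup.mem_centralizer_iff.1 hz.2 s hs
  suffices h : ∀ d R, F.IsFullyNormalized R → F.IsCentric R →
      Nat.card S - Nat.card (normalizerIn S R) = d → StabIn F E R from fun R hR hc => h _ R hR hc rfl
  intro d
  induction d using Nat.strong_induction_on with
  | _ d ih =>
  intro R hR hc hd
  haveI : Finite ↥(normalizerIn S R) := finite_of_le normalizerIn_le
  have hgood : ∀ R', F.IsFullyNormalized R' → F.IsCentric R' →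
      Nat.card (normalizerIn S R) < Nat.card (normalizerIn S R') → StabIn F E R' := by
    intro R' h1 h2 hlt
    have := Subgroup.card_le_of_le (normalizerIn_le (S := S) (P := R'))
    exact ih _ (by omega) R' h1 h2 rfl
  obtain ⟨NR, hNR, L, iL, ι, hL⟩ := exists_local_model hS hF hR hc
  haveI := hL.1
  obtain ⟨T, hT⟩ := hL.2.2.1
  have hinj : Function.Injective ι := hL.2.1.1
  have hRT : R ≤ normalizerIn S R := le_normalizerIn_self hR.1
  have hmemR : ∀ z ∈ S, (∀ s ∈ S, Commute s z) → z ∈ R := fun z hz hzc => centralizerIn_le_of_isCentric hc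
    (FusionSys.mem_centralizerIn.2 ⟨hz, fun y hy => (hzc y (hR.1 hy)).eq⟩)
  have hVR : V ≤ R := fun v hv => hmemR v (hVS hv) fun s hs => hVc s hs v hv
  have hmemT : ∀ x : ↥(normalizerIn S R), ι x ∈ (T : Subgroup L) := fun x => hT ▸ ⟨x, rfl⟩
  -- the normal abelian subgroup and the centre of `S` in the local group
  set W0 := pCore p L ⊓ Subgroup.centralizer ((pCore p L : Subgroup L) : Set L) with hW0
  have hW0c : IsMulCommutative W0 :=
    ⟨⟨fun a b => Subtype.ext (Subgroup.mem_centralizer_iff.1 b.2.2 _ a.2.1)⟩⟩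
  have hW0T : W0 ≤ (T : Subgroup L) := inf_le_left.trans (Cores.pCore_le_sylow T)
  set Z := ((S ⊓ Subgroup.centralizer (S : Set Ω)).subgroupOf (normalizerIn S R)).map ι with hZdef
  have hcT : ∀ t ∈ (T : Subgroup L), ∀ z ∈ Z, Commute t z := by
    rintro t ht _ ⟨z, hz, rfl⟩
    rw [hT] at ht
    obtain ⟨s, rfl⟩ := ht
    exact (show Commute s z from Subtype.ext (hcz _ hz s s.2.1).eq).map ι
  have hZW : Z ≤ W0 := by
    intro y hy
    have h2 : y ∈ Subgroup.centralizer ((pCore p L : Subgroup L) : Set L) :=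
      Subgroup.mem_centralizer_iff.2 fun a ha => (hcT a (Cores.pCore_le_sylow T ha) y hy).eq
    exact ⟨hL.2.2.2 h2, h2⟩
  -- the Thompson subgroup of `N_S(R)`
  set J0 := thompsonSubgroupA ↥(normalizerIn S R) with hJ0
  set W := J0.map (normalizerIn S R).subtype with hW
  have hJmap : thompsonSubgroupAOf (T : Subgroup L) = J0.map ι := by
    rw [hT, MonoidHom.range_eq_map, H59.thompsonAOf_map ι ⊤ hinj.injOn, thompsonSubgroupAOf,
      hJ0, ← H59.map_thompsonA (Subgroup.topEquiv (G := ↥(normalizerIn S R)))]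
    rfl
  have hWT : W ≤ normalizerIn S R := Subgroup.map_subtype_le _
  have hWS : W ≤ S := hWT.trans normalizerIn_le
  have hTW : normalizerIn S R ≤ normalizerIn S W := fun x hx =>
    ⟨hx.1, H59.normalizer_le_normalizer_thompsonAOf (normalizerIn S R) (Subgroup.le_normalizer hx)⟩
  have hVW : V ≤ W := fun v hv => mem_thompsonAOf_of_commute' (H := normalizerIn S R) (hRT (hVR hv))
    fun a ha => hVc a ha.1 v hv
  -- the images of `W` contain `V`
  have hVWu : ∀ u, IsMap F (normalizerIn S W) u → V ≤ imgSub u W := by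
    intro u hu v hv
    have huR : IsMap F R u := hu.mono (hRT.trans hTW)
    have hvR : v ∈ imgSub u R := centralizerIn_le_of_isCentric (isCentric_of_isConj hc huR.isIso.isConj)
      (FusionSys.mem_centralizerIn.2 ⟨hVS hv, fun y hy => (hVc y (huR.imgSub_le hy) v hv).eq⟩)
    obtain ⟨t, ht, rfl⟩ := huR.mem_imgSub.1 hvR
    refine (hu.mono (hWT.trans hTW)).mem_imgSub.2 ⟨t, mem_thompsonAOf_of_commute' (H := normalizerIn S R)
      (hRT ht) fun a ha => ?_, rfl⟩
    have hta := hTW (hRT ht)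
    have haN := hTW ha
    exact hu.injOn (mul_mem haN hta) (mul_mem hta haN)
      (by rw [hu.map_mul haN hta, hu.map_mul hta haN]; exact (hVc _ (hu.mem_S haN) _ hv).eq)
  have hWE : ∀ (P : Subgroup Ω) (f : Ω → Ω), IsMap F P f → W ≤ P → P ≤ normalizerIn S R →
      (∀ x ∈ W, f x ∈ W) → IsMap E P f := by
    intro P f hf hWP hP hfW
    rcases eq_or_ne (normalizerIn S R) S with htop | htop
    · have hWJ : W = thompsonSubgroupAOf S :=
        (congrArg thompsonSubgroupAOf htop : thompsonSubgroupAOf (normalizerIn S R) = _)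
      exact isMap_of_stab hN hNE hf (hWJ ▸ hWP) (hWJ ▸ hfW)
    · refine stabIn_of_large hS hF hVc hC hCE _ hgood hWS hVWu ?_ P f hf hWP (hP.trans hTW) hfW
      haveI := finite_of_le (S := S) (P := normalizerIn S W) normalizerIn_le
      refine (card_lt_card_normalizerIn hS (lt_of_le_of_ne normalizerIn_le htop)).trans_le
        (Subgroup.card_le_of_le ?_)
      exact inf_le_inf_left _ (H59.normalizer_le_normalizer_thompsonAOf _)
  -- the maps induced by the subgroups of the local group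
  suffices key : ∀ n : ℕ, ∀ L' : Subgroup L, Nat.card L' = n → (T : Subgroup L) ≤ L' →
      ∀ g ∈ L', ∀ (P : Subgroup Ω) (f : Ω → Ω), P ≤ normalizerIn S R → V ≤ P →
        (∀ y : ↥(normalizerIn S R), (y : Ω) ∈ P →
          ∃ h : f y ∈ normalizerIn S R, ι ⟨f y, h⟩ = g * ι y * g⁻¹) → IsMap E P f by
    intro P f hf hRP hPN hfR
    haveI := finite_of_le hR.1
    have him : imgSub f R = R :=
      SetLike.coe_injective (by rw [(hf.mono hRP).coe_imgSub, (hf.mono hRP).image_eq_of_mapsTo hfR])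
    have hm : IsMap NR P f := ((isKSys_normalizer_iff.1 hNR).map_iff P f).2 ⟨hPN, fun x hx => by
      have := hf.mem_normalizerIn hRP hx (hPN hx).2
      rwa [him] at this, f, hf.mono (sup_le le_rfl hRP), fun _ _ => rfl,
      (onQ_top_iff hf hRP).2 ((hf.mono hRP).image_eq_of_mapsTo hfR)⟩
    obtain ⟨-, g, hg⟩ := (isMap_realized_iff hL.2.1).1 hm
    exact key _ ⊤ rfl le_top g (Subgroup.mem_top g) P f hPN (hVR.trans hRP) hg
  intro n
  induction n using Nat.strong_induction_on with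
  | _ n ihn =>
  intro L' hn hTL g hg P f hPN hVP hfe
  obtain ⟨M, hML, hLM, hMZ, hor⟩ := exists_cover_of_le T W0 hW0c hW0T Z hZW hcT hTL
  obtain ⟨c, hc', m, hm, rfl, hcP⟩ := exists_factor_of_le T hTL hML hLM (P := (P.subgroupOf
    (normalizerIn S R)).map ι) (by rintro _ ⟨y, -, rfl⟩; exact hmemT y) hg (by
      rintro _ ⟨y, hy, rfl⟩
      obtain ⟨h, he⟩ := hfe y hy
      exact he ▸ hmemT _)
  -- the factor centralizing `V`
  obtain ⟨f1, hf1N, hf1, hf1e⟩ := exists_conj_map hNR hL c hPN fun y hy =>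
    hT ▸ hcP (ι y) (Subgroup.mem_map_of_mem ι hy)
  have hf1fix : ∀ v ∈ V, f1 v = v := fun v hv => by
    obtain ⟨z, hz, rfl⟩ := hVZ v hv
    have hzT : z ∈ normalizerIn S R := hRT (hmemR z hz.1 (hcz z hz))
    have h1 := hf1e ⟨z ^ p, hPN (hVP hv)⟩ (hVP hv) (hf1N.mem_S (hVP hv))
    have h2 : Commute c (ι ⟨z ^ p, hPN (hVP hv)⟩) := by
      rw [show (⟨z ^ p, hPN (hVP hv)⟩ : ↥(normalizerIn S R)) = ⟨z, hzT⟩ ^ p from Subtype.ext rfl, map_pow]
      exact hMZ c hc' _ (Subgroup.mem_map_of_mem ι hz)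
    rw [h2.eq, mul_inv_cancel_right] at h1
    exact congrArg Subtype.val (hinj h1)
  have hf1E : IsMap E P f1 := isMap_of_fix hVc hC hCE hf1 hVP hf1fix
  -- the second factor
  have hP1N : imgSub f1 P ≤ normalizerIn S R := hf1N.imgSub_le
  have hVP1 : V ≤ imgSub f1 P := fun v hv => hf1.mem_imgSub.2 ⟨v, hVP hv, hf1fix v hv⟩
  have hm2 : ∀ y : ↥(normalizerIn S R), (y : Ω) ∈ imgSub f1 P → m * ι y * m⁻¹ ∈ ι.range := by
    intro y hy
    obtain ⟨x, hx, hxe⟩ := hf1.mem_imgSub.1 hy
    obtain ⟨h, he⟩ := hfe ⟨x, hPN hx⟩ hx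
    have h1 := hf1e ⟨x, hPN hx⟩ hx (hf1N.mem_S hx)
    refine ⟨_, he.trans ?_⟩
    rw [show y = ⟨f1 x, hf1N.mem_S hx⟩ from Subtype.ext hxe.symm, h1]
    group
  obtain ⟨f2, hf2E, hf2e⟩ : ∃ f2, IsMap E (imgSub f1 P) f2 ∧
      ∀ y : ↥(normalizerIn S R), (y : Ω) ∈ imgSub f1 P →
        ∃ h : f2 y ∈ normalizerIn S R, ι ⟨f2 y, h⟩ = m * ι y * m⁻¹ := by
    rcases hor with h | h
    · -- a proper subgroup
      obtain ⟨f2, hf2N, -, hf2e⟩ := exists_conj_map hNR hL m hP1N hm2
      have hf2e' : ∀ y : ↥(normalizerIn S R), (y : Ω) ∈ imgSub f1 P →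
          ∃ h : f2 y ∈ normalizerIn S R, ι ⟨f2 y, h⟩ = m * ι y * m⁻¹ := fun y hy =>
        ⟨hf2N.mem_S hy, hf2e y hy _⟩
      have hTle : (T : Subgroup L) ≤
          L' ⊓ Subgroup.normalizer (((T : Subgroup L) ⊓ M : Subgroup L) : Set L) :=
        le_inf hTL fun t ht => H59.mem_normalizer_of_forall fun u hu => Subgroup.mem_inf.2
            ⟨mul_mem (mul_mem ht (Subgroup.mem_inf.1 hu).1) (inv_mem ht),
              (Subgroup.mem_normalizer_iff.1 (hLM (hTL ht)) u).1 (Subgroup.mem_inf.1 hu).2⟩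
      have hlt : Nat.card ↥(L' ⊓ Subgroup.normalizer (((T : Subgroup L) ⊓ M : Subgroup L) : Set L)) < n := by
        rw [← hn]
        by_contra hge
        exact h (inf_eq_left.1 (Subgroup.eq_of_le_of_card_ge inf_le_left (not_lt.1 hge)))
      exact ⟨f2, ihn _ hlt _ rfl hTle m hm _ f2 hP1N hVP1 hf2e', hf2e'⟩
    · -- the normalizer of `J(T)`
      have hmJ : m ∈ Subgroup.normalizer (J0.map ι : Set L) := by
        rw [← hJmap, ← H59.thompsonAOf_eq_of_le inf_le_left (le_inf (H59.thompsonAOf_le _) h)]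
        exact H59.normalizer_le_normalizer_thompsonAOf _ (Subgroup.mem_inf.1 hm).2
      let X : Subgroup Ω :=
        (ι.range.comap ((MulAut.conj m).toMonoidHom.comp ι)).map (normalizerIn S R).subtype
      have hX : imgSub f1 P ⊔ W ≤ X := by
        refine sup_le (fun y hy => ⟨⟨y, hP1N hy⟩, hm2 ⟨y, hP1N hy⟩ hy, rfl⟩) ?_
        rintro _ ⟨y, hy, rfl⟩
        exact ⟨y, Subgroup.map_le_range ι J0 ((Subgroup.mem_normalizer_iff.1 hmJ _).1
          (Subgroup.mem_map_of_mem ι hy)), rfl⟩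
      obtain ⟨f2, hf2N, hf2, hf2e⟩ := exists_conj_map hNR hL m (sup_le hP1N hWT) fun y hy => by
        obtain ⟨y', hy', e⟩ := hX hy
        obtain rfl : y' = y := Subtype.ext e
        exact hy'
      refine ⟨f2, (hWE _ f2 hf2 le_sup_right (sup_le hP1N hWT) ?_).mono le_sup_left,
        fun y hy => ⟨hf2N.mem_S (Subgroup.mem_sup_left hy), hf2e y (Subgroup.mem_sup_left hy) _⟩⟩
      rintro _ ⟨y, hy, rfl⟩
      have hyW : ((y : Ω)) ∈ imgSub f1 P ⊔ W := Subgroup.mem_sup_right (Subgroup.mem_map_of_mem _ hy)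
      have h1 := (Subgroup.mem_normalizer_iff.1 hmJ _).1 (Subgroup.mem_map_of_mem ι hy)
      rw [← hf2e y hyW (hf2N.mem_S hyW), Subgroup.mem_map_iff_mem hinj] at h1
      exact ⟨_, h1, rfl⟩
  refine (hf1E.comp hf2E fun x hx => hf1.mem_imgSub.2 ⟨x, hx, rfl⟩).congr fun x hx => ?_
  obtain ⟨h, he⟩ := hfe ⟨x, hPN hx⟩ hx
  have h1 := hf1e ⟨x, hPN hx⟩ hx (hf1N.mem_S hx)
  obtain ⟨h', he'⟩ := hf2e ⟨f1 x, hf1N.mem_S hx⟩ (hf1.mem_imgSub.2 ⟨x, hx, rfl⟩)
  refine congrArg Subtype.val (hinj (?_ : ι ⟨f x, h⟩ = ι ⟨f2 (f1 x), h'⟩))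
  rw [he, he', h1]
  group

/-- Glauberman's generation theorem. -/
theorem isSubsystemOf_generation
    (C : FusionSystem (centralizerIn S (powerClosure p 1 (S ⊓ Subgroup.centralizer (S : Set Ω)))))
    (hC : F.IsCentralizerSystem (powerClosure p 1 (S ⊓ Subgroup.centralizer (S : Set Ω))) C)
    (N : FusionSystem (normalizerIn S (thompsonSubgroupAOf S)))
    (hN : F.IsNormalizerSystem (thompsonSubgroupAOf S) N) (E : FusionSystem S)
    (hCE : C.IsSubsystemOf E) (hNE : N.IsSubsystemOf E) : F.IsSubsystemOf E := by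
  generalize hVdef : powerClosure p 1 (S ⊓ Subgroup.centralizer (S : Set Ω)) = V at C hC hCE
  have hcz : ∀ z ∈ S ⊓ Subgroup.centralizer (S : Set Ω), ∀ s ∈ S, Commute s z := fun z hz s hs =>
    Subgroup.mem_centralizer_iff.1 hz.2 s hs
  have hZc : IsMulCommutative ↥(S ⊓ Subgroup.centralizer (S : Set Ω)) :=
    ⟨⟨fun a b => Subtype.ext (hcz b b.2 a a.2.1).eq⟩⟩
  have hVZ : ∀ v ∈ V, ∃ z ∈ S ⊓ Subgroup.centralizer (S : Set Ω), z ^ p = v := fun v hv => by
    rw [← hVdef] at hv
    induction hv using Subgroup.closure_induction with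
    | mem x hx =>
      obtain ⟨z, hz, rfl⟩ := hx
      exact ⟨z, hz, by rw [pow_one]⟩
    | one => exact ⟨1, one_mem _, one_pow p⟩
    | mul a b _ _ ha hb =>
      obtain ⟨x, hx, rfl⟩ := ha
      obtain ⟨y, hy, rfl⟩ := hb
      exact ⟨x * y, mul_mem hx hy, (hcz y hy x hx.1).mul_pow p⟩
    | inv a _ ha =>
      obtain ⟨x, hx, rfl⟩ := ha
      exact ⟨x⁻¹, inv_mem hx, inv_pow x p⟩
  have hVS : V ≤ S := fun v hv => by
    obtain ⟨z, hz, rfl⟩ := hVZ v hv
    exact pow_mem hz.1 p
  have hVc : ∀ s ∈ S, ∀ v ∈ V, Commute s v := fun s hs v hv => by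
    obtain ⟨z, hz, rfl⟩ := hVZ v hv
    exact (hcz z hz s hs).pow_right p
  refine isSubsystemOf_iff_isMap.2 fun P f hf => ?_
  haveI := finite_of_le hf.le
  exact isMap_of_stabIn_above hS hF 0
    (fun R h1 h2 _ => stabIn_of_centric hS hF hVS hVc hVZ hC hCE hN hNE R h1 h2) P f hf Nat.card_pos

end Induction

end Cfsg.Agent.H85
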