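import Cfsg.Agent.H85.GlaubermanFusion

/-!
The centre of a saturated system against the centre of the normalizer system of `J(S)`.
-/

set_option autoImplicit false
set_option linter.style.haveILetI false
set_option linter.unusedSectionVars false

namespace Cfsg.Agent.H85

open Cfsg Cfsg.FusionSystem Cfsg.Agent.FusionSys

universe u

variable {Ω : Type u} [Group Ω] {S : Subgroup Ω} [Finite S] {p : ℕ} [Fact p.Prime] {F : FusionSystem S}
  {N : FusionSystem (normalizerIn S (thompsonSubgroupAOf S))}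

theorem normalizerIn_thompson (S : Subgroup Ω) : normalizerIn S (thompsonSubgroupAOf S) = S :=
  le_antisymm normalizerIn_le fun _ hx =>
    ⟨hx, H59.normalizer_le_normalizer_thompsonAOf S (Subgroup.le_normalizer hx)⟩

theorem mem_thompsonAOf_of_commute_le {y : Ω} (hyS : y ∈ S) (hy : ∀ s ∈ S, Commute s y) :
    y ∈ thompsonSubgroupAOf S := by
  have h : (⟨y, hyS⟩ : S) ∈ thompsonSubgroupAOf (⊤ : Subgroup S) :=
    mem_thompsonAOf_of_commute (Subgroup.mem_top _) fun a _ => Subtype.ext (hy a a.2)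
  have h1 := Subgroup.mem_map_of_mem S.subtype h
  rwa [← H59.thompsonAOf_map S.subtype ⊤ S.subtype_injective.injOn, ← MonoidHom.range_eq_map,
    Subgroup.range_subtype] at h1

theorem autMap_one_right {P : Subgroup Ω} (α : MulAut P) : autMap α 1 = 1 := by
  rw [autMap_apply α P.one_mem]
  exact congrArg Subtype.val (map_one α)

/-- Elements of the centre of `N_F(J(S))` are central in `S` and fixed by the automorphisms of `J(S)`. -/
theorem mem_center_normalizer (hN : F.IsNormalizerSystem (thompsonSubgroupAOf S) N) {x : Ω}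
    (hx : x ∈ N.center) :
    x ∈ S ∧ (∀ s ∈ S, Commute s x) ∧ FixesElt F (thompsonSubgroupAOf S) x := by
  have hJS : (thompsonSubgroupAOf S) ≤ S := H59.thompsonAOf_le S
  have hT : normalizerIn S (thompsonSubgroupAOf S) = S := normalizerIn_thompson S
  let W : Subgroup Ω :=
    { carrier := {x | x ∈ S ∧ (∀ s ∈ S, Commute s x) ∧ FixesElt F (thompsonSubgroupAOf S) x}
      one_mem' := ⟨one_mem _, fun s _ => Commute.one_right s, fun α _ => autMap_one_right α⟩
      mul_mem' := fun {a b} ha hb => ⟨mul_mem ha.1 hb.1, fun s hs => (ha.2.1 s hs).mul_right (hb.2.1 s hs),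
        fun α hα => by
          haveI := finite_of_le (S := S) hJS
          rw [((mem_autGroup_iff hJS).1 hα).map_mul (mem_thompsonAOf_of_commute_le ha.1 ha.2.1)
            (mem_thompsonAOf_of_commute_le hb.1 hb.2.1), ha.2.2 α hα, hb.2.2 α hα]⟩
      inv_mem' := fun {a} ha => ⟨inv_mem ha.1, fun s hs => (ha.2.1 s hs).inv_right, fun α hα => by
        have hm := (mem_autGroup_iff hJS).1 hα
        have haJ := mem_thompsonAOf_of_commute_le ha.1 ha.2.1
        exact zpow_fix hm haJ (ha.2.2 α hα) a⁻¹ (inv_mem (Subgroup.mem_zpowers a))⟩ }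
  refine (sSup_le fun Q hQ q hq => ?_ : N.center ≤ W) hx
  have hqS : q ∈ S := normalizerIn_le (hQ.1 hq)
  have hfix : ∀ (P : Subgroup Ω) (f : Ω → Ω), IsMap N P f → q ∈ P → f q = q := fun P f hf hqP =>
    haveI : Finite ↥(normalizerIn S (thompsonSubgroupAOf S)) := finite_of_le normalizerIn_le
    fix_of_isCentral hQ hf hqP hq
  have hc : ∀ s ∈ S, Commute s q := by
    intro s hs
    have := hfix (normalizerIn S (thompsonSubgroupAOf S)) (conjMap s) (isMap_conj N le_rfl (hT.symm ▸ hs)) (hQ.1 hq)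
    exact mul_inv_eq_iff_eq_mul.1 this
  refine ⟨hqS, hc, fun α hα => ?_⟩
  have hqJ := mem_thompsonAOf_of_commute_le hqS hc
  refine hfix (thompsonSubgroupAOf S) (autMap α) ((isKSys_normalizer_iff.1 hN).map_iff _ _ |>.2
    ⟨le_normalizerIn_self hJS, fun y hy => le_normalizerIn_self hJS (autMap_mem α hy), autMap α,
      ((mem_autGroup_iff hJS).1 hα).mono (sup_le le_rfl le_rfl), fun _ _ => rfl,
      α, Subgroup.mem_top _, fun _ _ => rfl⟩) hqJ

/-- The centre of `F` lies in that of `N_F(J(S))`. -/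
theorem center_le_center_normalizer (hN : F.IsNormalizerSystem (thompsonSubgroupAOf S) N) :
    F.center ≤ N.center := by
  refine sSup_le fun Q hQ => le_sSup ?_
  have hT : normalizerIn S (thompsonSubgroupAOf S) = S := normalizerIn_thompson S
  obtain ⟨hQS, hext⟩ := isCentral_iff.1 hQ
  have hk := isKSys_normalizer_iff.1 hN
  refine isCentral_iff.2 ⟨hT.symm ▸ hQS, fun P f hf => ?_⟩
  obtain ⟨hP, -, g, hg, he, hgJ⟩ := (hk.map_iff P f).1 hf
  obtain ⟨h, hh, hhe, hhfix⟩ := hext _ g hg
  have hmem : ∀ y ∈ (P ⊔ (thompsonSubgroupAOf S)) ⊔ Q, h y ∈ normalizerIn S (thompsonSubgroupAOf S) := fun y hy => hT.symm ▸ hh.mem_S hy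
  refine ⟨h, (hk.map_iff _ _).2 ⟨sup_le hP (hT.symm ▸ hQS),
    fun y hy => hmem y (sup_le_sup_right le_sup_left Q hy), h,
    hh.mono (sup_le (sup_le_sup_right le_sup_left Q) (le_sup_right.trans le_sup_left)), fun _ _ => rfl, ?_⟩,
    fun y hy => (hhe y (Subgroup.mem_sup_left hy)).trans (he y hy), hhfix⟩
  obtain ⟨κ, hκ, hκe⟩ := hgJ
  exact ⟨κ, hκ, fun y hy => (hhe y (Subgroup.mem_sup_right hy)).trans (hκe y hy)⟩

/-- Glauberman's theorem on centres. -/
theorem glauberman_center (hS : IsPGroup p S) (hF : F.IsSaturated p)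
    (hN : F.IsNormalizerSystem (thompsonSubgroupAOf S) N) :
    Subgroup.closure ((fun z : Ω => z ^ p) '' ((S ⊓ Subgroup.centralizer (S : Set Ω) : Subgroup Ω) : Set Ω)) ⊓
        N.center ≤ F.center ∧
      (p ≠ 2 ∨ F.IsSectionFree p (Equiv.Perm (Fin 4)) → N.center = F.center) := by
  constructor
  · rintro x ⟨hx1, hx2⟩
    let W : Subgroup Ω :=
      { carrier := {x | ∃ z ∈ S ⊓ Subgroup.centralizer (S : Set Ω), z ^ p = x}
        one_mem' := ⟨1, one_mem _, one_pow p⟩
        mul_mem' := by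
          rintro _ _ ⟨a, ha, rfl⟩ ⟨b, hb, rfl⟩
          exact ⟨a * b, mul_mem ha hb,
            (show Commute a b from Subgroup.mem_centralizer_iff.1 hb.2 a ha.1).mul_pow p⟩
        inv_mem' := by
          rintro _ ⟨a, ha, rfl⟩
          exact ⟨a⁻¹, inv_mem ha, inv_pow a p⟩ }
    obtain ⟨hxS, hxc, hJ⟩ := mem_center_normalizer hN hx2
    have hz : x ∈ W := (Subgroup.closure_le W).2 (by
      rintro _ ⟨z, hz, rfl⟩
      exact ⟨z, hz, rfl⟩) hx1
    exact (le_sSup (show Subgroup.zpowers x ∈ {Q | F.IsCentral Q} from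
      isCentral_zpowers_of_fixesElt hS hF hxS hxc hJ fun _ h1 h2 =>
        localData_of_models hS hF (fun _ _ _ _ _ _ _ _ _ => Or.inr (Or.inl hz)) h1 h2))
      (Subgroup.mem_zpowers x)
  · intro hp
    refine le_antisymm (fun x hx => ?_) (center_le_center_normalizer hN)
    obtain ⟨hxS, hxc, hJ⟩ := mem_center_normalizer hN hx
    exact (le_sSup (show Subgroup.zpowers x ∈ {Q | F.IsCentral Q} from
      isCentral_zpowers_of_fixesElt hS hF hxS hxc hJ fun R hR hc => localData_of_models hS hF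
        (fun R hR hc M hM L _ ι hL => hp.imp id fun h => Or.inr (h R hR hc M hM L ι hL)) hR hc))
      (Subgroup.mem_zpowers x)

end Cfsg.Agent.H85
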