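import Cfsg.Agent.H85.GlaubermanStep
import Cfsg.Agent.H85.FourSection
import Cfsg.Agent.Thompson.BaerSuzuki
import Cfsg.Agent.Thompson.ZJ

/-!
Glauberman's theorem on central elements fixed by the normalizer of the Thompson subgroup, for `p = 2` and
groups not involving the symmetric group of degree 4: the offenders of least size replace `J`.
-/

set_option autoImplicit false
set_option linter.style.haveILetI false
set_option linter.unusedSectionVars false

namespace Cfsg.Agent.H85

open Subgroup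
open scoped Pointwise

universe u

variable {G : Type u} [Group G]

/-- The commutator `g v g⁻¹ v⁻¹`. -/
def com (g v : G) : G := g * v * g⁻¹ * v⁻¹

theorem com_one (g : G) : com g (1 : G) = 1 := by rw [com]; group

theorem com_mul_left (g h v : G) : com (g * h) v = g * com h v * g⁻¹ * com g v := by
  simp only [com]; group

theorem com_mul_right {g u v : G} (hv : com g v ∈ center G) : com g (u * v) = com g u * com g v := by
  have h1 : com g (u * v) = (g * u * g⁻¹) * com g v * u⁻¹ := by simp only [com]; group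
  rw [h1, mul_assoc, ← mem_center_iff.mp hv, ← mul_assoc]
  rfl

theorem com_conj (g k v : G) : com (k * g * k⁻¹) v = k * com g (k⁻¹ * v * k) * k⁻¹ := by
  simp only [com]; group

/-- The elements fixing `v` modulo the centre. -/
def stabMod (v : G) : Subgroup G where
  carrier := {g | com g v ∈ center G}
  one_mem' := by rw [Set.mem_ofPred_eq, com, one_mul, inv_one, mul_one, mul_inv_cancel]; exact one_mem _
  mul_mem' := fun {g h} hg hh => by
    rw [Set.mem_ofPred_eq, com_mul_left]
    exact mul_mem ((inferInstance : (center G).Normal).conj_mem _ hh g) hg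
  inv_mem' := fun {g} hg => by
    rw [Set.mem_ofPred_eq, show com g⁻¹ v = g⁻¹ * (com g v)⁻¹ * g⁻¹⁻¹ by simp only [com]; group]
    exact (inferInstance : (center G).Normal).conj_mem _ (inv_mem hg) _

theorem mem_stabMod {g v : G} : g ∈ stabMod v ↔ com g v ∈ center G := Iff.rfl

/-- The elements of `V` fixed by `B` modulo the centre. -/
def modFixed (V B : Subgroup G) : Subgroup G where
  carrier := {v | v ∈ V ∧ ∀ b ∈ B, com b v ∈ center G}
  one_mem' := ⟨one_mem _, fun b _ => by rw [com_one]; exact one_mem _⟩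
  mul_mem' := fun {u v} hu hv => ⟨mul_mem hu.1 hv.1, fun b hb => by
    rw [com_mul_right (hv.2 b hb)]; exact mul_mem (hu.2 b hb) (hv.2 b hb)⟩
  inv_mem' := fun {u} hu => ⟨inv_mem hu.1, fun b hb => by
    have h1 : com b u⁻¹ = u⁻¹ * (com b u)⁻¹ * u⁻¹⁻¹ := by simp only [com]; group
    rw [h1]
    exact (inferInstance : (center G).Normal).conj_mem _ (inv_mem (hu.2 b hb)) _⟩

theorem modFixed_le (V B : Subgroup G) : modFixed V B ≤ V := fun _ h => h.1

theorem modFixed_mono {V B B' : Subgroup G} (h : B ≤ B') : modFixed V B' ≤ modFixed V B :=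
  fun _ hv => ⟨hv.1, fun b hb => hv.2 b (h hb)⟩

theorem map_conj_of_normal (N : Subgroup G) [N.Normal] (g : G) :
    N.map (MulAut.conj g).toMonoidHom = N := by
  ext x
  rw [mem_map_equiv]
  refine ⟨fun h => ?_, fun h => ?_⟩
  · have := Normal.conj_mem ‹_› _ h g
    simpa [mul_assoc] using this
  · simpa [mul_assoc] using Normal.conj_mem ‹_› x h g⁻¹

theorem modFixed_map (V B : Subgroup G) [V.Normal] (g : G) :
    modFixed V (B.map (MulAut.conj g).toMonoidHom) = (modFixed V B).map (MulAut.conj g).toMonoidHom := by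
  ext v
  rw [mem_map_equiv]
  have hv : (MulAut.conj g).symm v = g⁻¹ * v * g := by simp
  rw [hv]
  constructor
  · rintro ⟨h1, h2⟩
    refine ⟨by simpa using Normal.conj_mem ‹_› v h1 g⁻¹, fun b hb => ?_⟩
    have h3 := h2 _ (mem_map_of_mem _ hb)
    simp only [MulEquiv.toMonoidHom_eq_coe, MonoidHom.coe_coe, MulAut.conj_apply, com_conj] at h3
    simpa [mul_assoc] using (inferInstance : (center G).Normal).conj_mem _ h3 g⁻¹
  · rintro ⟨h1, h2⟩
    refine ⟨by simpa [mul_assoc] using Normal.conj_mem ‹_› _ h1 g, ?_⟩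
    rintro _ ⟨b, hb, rfl⟩
    simp only [MulEquiv.toMonoidHom_eq_coe, MonoidHom.coe_coe, MulAut.conj_apply, com_conj]
    exact (inferInstance : (center G).Normal).conj_mem _ (h2 b hb) g

/-- `B` moves `V`, modulo the centre, at most as much as its own size outside `C(V)`. -/
def IsModOff (T V B : Subgroup G) : Prop :=
  B ≤ T ∧ ¬ B ≤ centralizer (V : Set G) ∧
    (modFixed V B).relIndex V ≤ (centralizer (V : Set G)).relIndex B

theorem IsModOff.map {T V B : Subgroup G} [V.Normal] (h : IsModOff T V B) {g : G}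
    (hg : B.map (MulAut.conj g).toMonoidHom ≤ T) :
    IsModOff T V (B.map (MulAut.conj g).toMonoidHom) := by
  set φ := (MulAut.conj g).toMonoidHom with hφ
  have hinj : Function.Injective φ := (MulAut.conj g).injective
  refine ⟨hg, fun hle => h.2.1 fun b hb => ?_, ?_⟩
  · have h1 := hle (mem_map_of_mem φ hb)
    have h2 : φ b ∈ (centralizer (V : Set G)).map φ := by rwa [hφ, map_conj_of_normal]
    exact (mem_map_iff_mem hinj).mp h2
  · have e1 := relIndex_map_map_of_injective (f := φ) (modFixed V B) V hinj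
    have e2 := relIndex_map_map_of_injective (f := φ) (centralizer (V : Set G)) B hinj
    rw [hφ, map_conj_of_normal V g] at e1
    rw [hφ, map_conj_of_normal (centralizer (V : Set G)) g] at e2
    rw [modFixed_map, e1, e2]
    exact h.2.2

/-- A transvection `a` modulo the centre, with the point `v0` it moves. -/
structure IsTransvection (V : Subgroup G) (a v0 : G) : Prop where
  sq : a * a ∈ centralizer (V : Set G)
  mem : v0 ∈ V
  moved : com a v0 ∉ center G
  cases : ∀ v ∈ V, com a v ∈ center G ∨ com a (v0⁻¹ * v) ∈ center G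

section Transvection

variable {V : Subgroup G} [V.Normal] {a v0 : G}

theorem com_mem_of_normal (g : G) {v : G} (hv : v ∈ V) : com g v ∈ V :=
  mul_mem (Normal.conj_mem ‹_› v hv g) (inv_mem hv)

theorem IsTransvection.com_com (h : IsTransvection V a v0) (hsq : ∀ v ∈ V, v * v ∈ center G) :
    com a (com a v0) ∈ center G := by
  have h1 : (a * a) * v0 * (a * a)⁻¹ = v0 :=
    mul_inv_eq_iff_eq_mul.mpr (mem_centralizer_iff.mp h.sq v0 h.mem).symm
  have h2 : com a (com a v0) = (com a v0 * com a v0)⁻¹ := by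
    calc com a (com a v0) = (a * a) * v0 * (a * a)⁻¹ * (a * v0 * a⁻¹)⁻¹ * (com a v0)⁻¹ := by
          simp only [com]; group
      _ = v0 * (a * v0 * a⁻¹)⁻¹ * (com a v0)⁻¹ := by rw [h1]
      _ = (com a v0 * com a v0)⁻¹ := by simp only [com]; group
  rw [h2]
  exact inv_mem (hsq _ (com_mem_of_normal a h.mem))

theorem IsTransvection.com_cases (h : IsTransvection V a v0) {v : G} (hv : v ∈ V) :
    com a v ∈ center G ∨ ∃ z ∈ center G, com a v = com a v0 * z := by
  refine (h.cases v hv).imp id fun h1 => ⟨_, h1, ?_⟩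
  rw [← com_mul_right h1, mul_inv_cancel_left]

theorem IsTransvection.conj (h : IsTransvection V a v0) (g : G) :
    IsTransvection V (g * a * g⁻¹) (g * v0 * g⁻¹) := by
  have hcn : (center G).Normal := inferInstance
  have key : ∀ v, com (g * a * g⁻¹) v ∈ center G ↔ com a (g⁻¹ * v * g) ∈ center G := fun v => by
    rw [com_conj]
    refine ⟨fun h1 => ?_, fun h1 => hcn.conj_mem _ h1 g⟩
    simpa [mul_assoc] using hcn.conj_mem _ h1 g⁻¹
  refine ⟨?_, Normal.conj_mem ‹_› v0 h.mem g, fun h1 => h.moved ?_, fun v hv => ?_⟩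
  · rw [show g * a * g⁻¹ * (g * a * g⁻¹) = g * (a * a) * g⁻¹ by group]
    exact (inferInstance : (centralizer (V : Set G)).Normal).conj_mem _ h.sq g
  · rw [key] at h1
    simpa [mul_assoc] using h1
  · rw [key, key, show g⁻¹ * ((g * v0 * g⁻¹)⁻¹ * v) * g = v0⁻¹ * (g⁻¹ * v * g) by group]
    exact h.cases _ (by simpa using Normal.conj_mem ‹_› v hv g⁻¹)

/-- If `a` fixes the centre of a second transvection `b`, fourth powers in `⟨a, b⟩` act trivially modulo
the centre. -/
theorem com_pow_four [Finite G] (hsq : ∀ v ∈ V, v * v ∈ center G) {b v1 : G}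
    (ha : IsTransvection V a v0) (hb : IsTransvection V b v1) (hab : com a (com b v1) ∈ center G)
    {g : G} (hg : g ∈ closure ({a, b} : Set G)) : ∀ v ∈ V, com (g ^ 4) v ∈ center G := by
  set u := com a v0 with hu
  set u' := com b v1 with hu'
  set Z := center G ⊓ V with hZ
  set U1 := zpowers u' ⊔ Z with hU1
  set U2 := zpowers u ⊔ U1 with hU2
  have hU1V : U1 ≤ V := sup_le (zpowers_le.mpr (com_mem_of_normal b hb.mem)) inf_le_right
  have hU2V : U2 ≤ V := sup_le (zpowers_le.mpr (com_mem_of_normal a ha.mem)) hU1V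
  have hZc : ∀ x ∈ center G, ∀ c : G, com c x ∈ center G := fun x hx c => by
    rw [show com c x = 1 by rw [com, mem_center_iff.mp hx c]; group]
    exact one_mem _
  have hU1a : U1 ≤ modFixed V (zpowers a) := by
    refine sup_le (zpowers_le.mpr ⟨com_mem_of_normal b hb.mem, fun c hc => ?_⟩)
      fun x hx => ⟨hx.2, fun c _ => hZc x hx.1 c⟩
    exact (zpowers_le.mpr (show a ∈ stabMod u' from hab)) hc
  have hU2a : U2 ≤ modFixed V (zpowers a) := by
    refine sup_le (zpowers_le.mpr ⟨com_mem_of_normal a ha.mem, fun c hc => ?_⟩) hU1a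
    exact (zpowers_le.mpr (show a ∈ stabMod u from ha.com_com hsq)) hc
  have hU1b : U1 ≤ modFixed V (zpowers b) := by
    refine sup_le (zpowers_le.mpr ⟨com_mem_of_normal b hb.mem, fun c hc => ?_⟩)
      fun x hx => ⟨hx.2, fun c _ => hZc x hx.1 c⟩
    exact (zpowers_le.mpr (show b ∈ stabMod u' from hb.com_com hsq)) hc
  have hZmem : ∀ {c x : G}, x ∈ V → com c x ∈ center G → com c x ∈ Z :=
    fun {c x} hx h => ⟨h, com_mem_of_normal c hx⟩
  let P : G → Prop := fun g => (∀ v ∈ V, com g v ∈ U2) ∧ (∀ v ∈ U2, com g v ∈ U1) ∧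
    ∀ v ∈ U1, com g v ∈ Z
  have hP : P g := by
    have hg' : g ∈ Submonoid.closure ({a, b} : Set G) := by
      rw [← closure_toSubmonoid_of_finite]; exact hg
    clear hg
    induction hg' using Submonoid.closure_induction with
    | mem x hx =>
      rcases hx with rfl | rfl
      · refine ⟨fun v hv => ?_,
          fun v hv => mem_sup_right (hZmem (hU2V hv) ((hU2a hv).2 _ (mem_zpowers _))),
          fun v hv => hZmem (hU1V hv) ((hU1a hv).2 _ (mem_zpowers _))⟩
        rcases ha.com_cases hv with h | ⟨z, hz, he⟩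
        · exact mem_sup_right (mem_sup_right (hZmem hv h))
        · rw [he]
          refine mul_mem (mem_sup_left (mem_zpowers u)) (mem_sup_right (mem_sup_right ⟨hz, ?_⟩))
          have := mul_mem (inv_mem (com_mem_of_normal x ha.mem : com x v0 ∈ V)) (com_mem_of_normal x hv)
          rwa [he, inv_mul_cancel_left] at this
      · have key : ∀ v ∈ V, com x v ∈ U1 := fun v hv => by
          rcases hb.com_cases hv with h | ⟨z, hz, he⟩
          · exact mem_sup_right (hZmem hv h)
          · rw [he]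
            refine mul_mem (mem_sup_left (mem_zpowers u')) (mem_sup_right ⟨hz, ?_⟩)
            have := mul_mem (inv_mem (com_mem_of_normal x hb.mem : com x v1 ∈ V)) (com_mem_of_normal x hv)
            rwa [he, inv_mul_cancel_left] at this
        exact ⟨fun v hv => mem_sup_right (key v hv), fun v hv => key v (hU2V hv),
          fun v hv => hZmem (hU1V hv) ((hU1b hv).2 _ (mem_zpowers _))⟩
    | one =>
      have h1 : ∀ v : G, com (1 : G) v = 1 := fun v => by rw [com]; group
      exact ⟨fun v _ => (h1 v).symm ▸ one_mem _, fun v _ => (h1 v).symm ▸ one_mem _,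
        fun v _ => (h1 v).symm ▸ one_mem _⟩
    | mul x y _ _ hx hy =>
      have hlayer : ∀ c : G, P c → (∀ d ∈ U2, c * d * c⁻¹ ∈ U2) ∧ (∀ d ∈ U1, c * d * c⁻¹ ∈ U1) ∧
          ∀ d ∈ Z, c * d * c⁻¹ ∈ Z := by
        intro c hc
        have e : ∀ d, c * d * c⁻¹ = com c d * d := fun d => by rw [com]; group
        refine ⟨fun d hd => ?_, fun d hd => ?_, fun d hd => ?_⟩
        · rw [e]; exact mul_mem (mem_sup_right (hc.2.1 d hd)) hd
        · rw [e]; exact mul_mem (mem_sup_right (hc.2.2 d hd)) hd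
        · rw [mem_center_iff.mp hd.1 c, mul_inv_cancel_right]; exact hd
      obtain ⟨l2, l1, l0⟩ := hlayer x hx
      refine ⟨fun v hv => ?_, fun v hv => ?_, fun v hv => ?_⟩ <;> rw [com_mul_left]
      · exact mul_mem (l2 _ (hy.1 v hv)) (hx.1 v hv)
      · exact mul_mem (l1 _ (hy.2.1 v hv)) (hx.2.1 v hv)
      · exact mul_mem (l0 _ (hy.2.2 v hv)) (hx.2.2 v hv)
  intro v hv
  have e : ∀ c d : G, com (c * c) d = com c (com c d) * (com c d * com c d) := fun c d => by
    simp only [com]; group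
  have h2 : ∀ w ∈ V, com (g * g) w ∈ U1 := fun w hw => by
    rw [e]
    exact mul_mem (hP.2.1 _ (hP.1 w hw))
      (mem_sup_right ⟨hsq _ (com_mem_of_normal g hw), mul_mem (com_mem_of_normal g hw) (com_mem_of_normal g hw)⟩)
  rw [show g ^ 4 = (g * g) * (g * g) by simp [pow_succ, mul_assoc], e]
  refine mul_mem ?_ (hsq _ (com_mem_of_normal _ hv))
  rw [e]
  have h3 := hP.2.2 _ (h2 v hv)
  exact mul_mem (hZc _ h3.1 g) (hsq _ (com_mem_of_normal g (hU1V (h2 v hv))))

/-- Two transvections whose images generate a group that is not a `2`-group give a section `S₄`. -/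
theorem involves_of_transvections [Finite G] (hsq : ∀ v ∈ V, v * v ∈ center G)
    (hVc : IsMulCommutative V) (hfaith : ∀ g : G, (∀ v ∈ V, com g v ∈ center G) → g ∈ centralizer (V : Set G))
    {b v1 : G} (ha : IsTransvection V a v0) (hb : IsTransvection V b v1)
    (hnot : ¬ IsPGroup 2 (closure ({QuotientGroup.mk' (centralizer (V : Set G)) a,
      QuotientGroup.mk' (centralizer (V : Set G)) b} : Set (G ⧸ centralizer (V : Set G))))) :
    Cfsg.Involves (Equiv.Perm (Fin 4)) G := by
  classical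
  haveI : Fact (Nat.Prime 3) := ⟨Nat.prime_three⟩
  have hne : ∀ {a b v0 v1 : G}, IsTransvection V a v0 → IsTransvection V b v1 →
      com a (com b v1) ∈ center G → IsPGroup 2 (closure ({QuotientGroup.mk' (centralizer (V : Set G)) a,
        QuotientGroup.mk' (centralizer (V : Set G)) b} : Set (G ⧸ centralizer (V : Set G)))) := by
    intro a b v0 v1 ha hb hab q
    obtain ⟨g, hg, hgq⟩ : (q : G ⧸ centralizer (V : Set G)) ∈
        (closure ({a, b} : Set G)).map (QuotientGroup.mk' _) := by
      rw [MonoidHom.map_closure, Set.image_pair]; exact q.2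
    refine ⟨2, Subtype.ext ?_⟩
    rw [Subgroup.coe_pow, ← hgq, ← map_pow]
    exact (QuotientGroup.eq_one_iff _).mpr (hfaith _ (com_pow_four hsq ha hb hab hg))
  set u := com a v0 with hu
  set u' := com b v1 with hu'
  have hab : com a u' ∉ center G := fun h => hnot (hne ha hb h)
  have hba : com b u ∉ center G := fun h => hnot (by rw [Set.pair_comm]; exact hne hb ha h)
  set Z := center G ⊓ V with hZ
  haveI : Z.Normal := inferInstance
  set f := QuotientGroup.mk' Z with hf
  have huV : u ∈ V := com_mem_of_normal a ha.mem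
  have hu'V : u' ∈ V := com_mem_of_normal b hb.mem
  have hmk : ∀ x ∈ V, x ∈ center G → f x = 1 := fun x hx hxc => (QuotientGroup.eq_one_iff x).mpr ⟨hxc, hx⟩
  have hne1 : ∀ x, f x = 1 → x ∈ center G := fun x hx => ((QuotientGroup.eq_one_iff x).mp hx).1
  set α := f u with hα
  set β := f u' with hβ
  have hα2 : α * α = 1 := by rw [hα, ← map_mul]; exact hmk _ (mul_mem huV huV) (hsq u huV)
  have hβ2 : β * β = 1 := by rw [hβ, ← map_mul]; exact hmk _ (mul_mem hu'V hu'V) (hsq u' hu'V)
  have hcm : β * α = α * β := by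
    rw [hα, hβ, ← map_mul, ← map_mul]
    exact congrArg f (congrArg (fun z : V => (z : G)) (hVc.is_comm.comm (⟨u', hu'V⟩ : V) ⟨u, huV⟩))
  have hcom : ∀ c x : G, f c * f x * (f c)⁻¹ = f (com c x) * f x := fun c x => by
    rw [← map_inv, ← map_mul, ← map_mul, ← map_mul]; congr 1; rw [com]; group
  have haα : f a * α * (f a)⁻¹ = α := by
    rw [hα, hcom, hmk _ (com_mem_of_normal a huV) (ha.com_com hsq), one_mul]
  have hbβ : f b * β * (f b)⁻¹ = β := by
    rw [hβ, hcom, hmk _ (com_mem_of_normal b hu'V) (hb.com_com hsq), one_mul]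
  have haβ : f a * β * (f a)⁻¹ = α * β := by
    rw [hβ, hcom]
    rcases ha.com_cases hu'V with h | ⟨z, hz, he⟩
    · exact absurd h hab
    · have hzV : z ∈ V := by
        have := mul_mem (inv_mem huV) (com_mem_of_normal a hu'V)
        rwa [he, inv_mul_cancel_left] at this
      rw [he, map_mul, hmk z hzV hz, mul_one]
  have hbα : f b * α * (f b)⁻¹ = α * β := by
    rw [hα, hcom]
    rcases hb.com_cases huV with h | ⟨z, hz, he⟩
    · exact absurd h hba
    · have hzV : z ∈ V := by
        have := mul_mem (inv_mem hu'V) (com_mem_of_normal b huV)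
        rwa [he, inv_mul_cancel_left] at this
      rw [he, map_mul, hmk z hzV hz, mul_one, hβ.symm]
      exact hcm
  have hα1 : α ≠ 1 := fun h => ha.moved (hne1 _ h)
  have hβ1 : β ≠ 1 := fun h => hb.moved (hne1 _ h)
  have hαβ : α ≠ β := fun h => hα1 (by
    have h1 : α = α * β := haα.symm.trans (h ▸ haβ)
    have := mul_eq_left.mp h1.symm
    exact absurd this hβ1)
  have hαβ1 : α * β ≠ 1 := fun h => hαβ (by
    have := congrArg (α * ·) h
    simp only [← mul_assoc, hα2, one_mul, mul_one] at this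
    exact this.symm)
  -- the four group
  let U : Subgroup (G ⧸ Z) :=
    { carrier := {1, α, β, α * β}
      one_mem' := by simp
      mul_mem' := by
        intro x y hx hy
        have hαβα : α * β * α = β := by rw [mul_assoc, hcm, ← mul_assoc, hα2, one_mul]
        have hβαβ : β * (α * β) = α := by rw [← mul_assoc, hcm, mul_assoc, hβ2, mul_one]
        rcases hx with rfl | rfl | rfl | rfl <;> rcases hy with rfl | rfl | rfl | rfl <;>
          simp [hα2, hβ2, hcm, hαβα, hβαβ, ← mul_assoc] <;> simp [mul_assoc, hβ2]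
      inv_mem' := by
        intro x hx
        have hαi : α⁻¹ = α := inv_eq_of_mul_eq_one_right hα2
        have hβi : β⁻¹ = β := inv_eq_of_mul_eq_one_right hβ2
        rcases hx with rfl | rfl | rfl | rfl <;> simp [hαi, hβi, hcm] }
  have hU : Nat.card U = 4 := by
    show Nat.card ({1, α, β, α * β} : Set (G ⧸ Z)) = 4
    have h1 : α ≠ α * β := fun h => hβ1 (mul_eq_left.mp h.symm)
    have h2 : β ≠ α * β := fun h => hα1 (mul_eq_right.mp h.symm)
    rw [Nat.card_coe_set_eq, Set.ncard_insert_of_notMem (by simp [Ne.symm hα1, Ne.symm hβ1, Ne.symm hαβ1])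
      (Set.toFinite _), Set.ncard_insert_of_notMem (by simp [hαβ, h1]) (Set.toFinite _),
      Set.ncard_pair h2]
  have hUmem : ∀ {x}, x ∈ U ↔ x = 1 ∨ x = α ∨ x = β ∨ x = α * β := fun {x} => Iff.rfl
  have hnorm : ∀ c : G ⧸ Z, (c * α * c⁻¹ ∈ U) → (c * β * c⁻¹ ∈ U) →
      c ∈ normalizer (U : Set (G ⧸ Z)) := fun c h1 h2 => H59.mem_normalizer_of_forall fun x hx => by
    rcases hUmem.mp hx with rfl | rfl | rfl | rfl
    · simp
    · exact h1
    · exact h2
    · rw [show c * (α * β) * c⁻¹ = (c * α * c⁻¹) * (c * β * c⁻¹) by group]; exact mul_mem h1 h2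
  have hna : f a ∈ normalizer (U : Set (G ⧸ Z)) :=
    hnorm _ (by rw [haα]; simp [hUmem]) (by rw [haβ]; simp [hUmem])
  have hnb : f b ∈ normalizer (U : Set (G ⧸ Z)) :=
    hnorm _ (by rw [hbα]; simp [hUmem]) (by rw [hbβ]; simp [hUmem])
  -- the group generated by the two transvections and its action on `U`
  set Γ := closure ({f a, f b} : Set (G ⧸ Z)) with hΓ
  have hΓN : Γ ≤ normalizer (U : Set (G ⧸ Z)) := (closure_le _).mpr (by
    rintro x (rfl | rfl)
    exacts [hna, hnb])
  let ψ : Γ →* MulAut U := (U.normalizerMonoidHom).comp (Subgroup.inclusion hΓN)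
  have hψ : ∀ (c : Γ) (x : U), ((ψ c x : U) : G ⧸ Z) = (c : G ⧸ Z) * x * (c : G ⧸ Z)⁻¹ := fun c x => rfl
  have hext : ∀ {A B : MulAut U}, (A ⟨α, by simp [hUmem]⟩ = B ⟨α, by simp [hUmem]⟩) →
      (A ⟨β, by simp [hUmem]⟩ = B ⟨β, by simp [hUmem]⟩) → A = B := by
    intro A B h1 h2
    apply MulEquiv.ext
    rintro ⟨x, hx⟩
    rcases hUmem.mp hx with rfl | rfl | rfl | rfl
    · exact (map_one A).trans (map_one B).symm
    · exact h1
    · exact h2
    · rw [show (⟨α * β, hx⟩ : U) = ⟨α, by simp [hUmem]⟩ * ⟨β, by simp [hUmem]⟩ from rfl, map_mul, map_mul,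
        h1, h2]
  let aΓ : Γ := ⟨f a, subset_closure (by simp)⟩
  let bΓ : Γ := ⟨f b, subset_closure (by simp)⟩
  set A := ψ aΓ with hA
  set B := ψ bΓ with hB
  have hααβ : α * (α * β) = β := by rw [← mul_assoc, hα2, one_mul]
  have hαββ : α * β * β = α := by rw [mul_assoc, hβ2, mul_one]
  have hA2 : A * A = 1 := by
    refine hext (Subtype.ext ?_) (Subtype.ext ?_) <;> simp only [MulAut.mul_apply, MulAut.one_apply, hA, hψ]
    · rw [haα, haα]
    · rw [haβ, show f a * (α * β) * (f a)⁻¹ = (f a * α * (f a)⁻¹) * (f a * β * (f a)⁻¹) by group, haα,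
        haβ, hααβ]
  have hB2 : B * B = 1 := by
    refine hext (Subtype.ext ?_) (Subtype.ext ?_) <;> simp only [MulAut.mul_apply, MulAut.one_apply, hB, hψ]
    · rw [hbα, show f b * (α * β) * (f b)⁻¹ = (f b * α * (f b)⁻¹) * (f b * β * (f b)⁻¹) by group, hbα,
        hbβ, hαββ]
    · rw [hbβ, hbβ]
  let yΓ : Γ := aΓ * bΓ
  set Y := ψ yΓ with hY
  have hYAB : Y = A * B := map_mul ψ aΓ bΓ
  have hyα : (Y ⟨α, by simp [hUmem]⟩ : U) = ⟨β, by simp [hUmem]⟩ := by
    rw [hYAB]
    apply Subtype.ext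
    simp only [MulAut.mul_apply, hA, hB, hψ]
    rw [hbα, show f a * (α * β) * (f a)⁻¹ = (f a * α * (f a)⁻¹) * (f a * β * (f a)⁻¹) by group, haα, haβ,
      hααβ]
  have hyβ : (Y ⟨β, by simp [hUmem]⟩ : U) = ⟨α * β, by simp [hUmem]⟩ := by
    rw [hYAB]
    apply Subtype.ext
    simp only [MulAut.mul_apply, hA, hB, hψ]
    rw [hbβ, haβ]
  have hyαβ : (Y ⟨α * β, by simp [hUmem]⟩ : U) = ⟨α, by simp [hUmem]⟩ := by
    rw [show (⟨α * β, by simp [hUmem]⟩ : U) = ⟨α, by simp [hUmem]⟩ * ⟨β, by simp [hUmem]⟩ from rfl,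
      map_mul, hyα, hyβ]
    apply Subtype.ext
    show β * (α * β) = α
    rw [← mul_assoc, hcm, hαββ]
  have hY3 : Y ^ 3 = 1 := by
    rw [pow_succ, pow_succ, pow_one]
    refine hext ?_ ?_ <;> simp only [MulAut.mul_apply, MulAut.one_apply]
    · rw [hyα, hyβ, hyαβ]
    · rw [hyβ, hyαβ, hyα]
  have hYfix : ∀ x : U, Y x = x → x = 1 := by
    rintro ⟨x, hx⟩ h
    rcases hUmem.mp hx with rfl | rfl | rfl | rfl
    · rfl
    · rw [hyα] at h; exact absurd (congrArg Subtype.val h).symm hαβ
    · rw [hyβ] at h; exact absurd (mul_eq_right.mp (congrArg Subtype.val h)) hα1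
    · rw [hyαβ] at h; exact absurd (mul_eq_left.mp (congrArg Subtype.val h).symm) hβ1
  have hY1 : Y ≠ 1 := fun h => hα1 (congrArg Subtype.val (hYfix ⟨α, by simp [hUmem]⟩ (by rw [h]; rfl)))
  have hYord : orderOf Y = 3 := orderOf_eq_prime hY3 hY1
  have hAYA : A * Y * A⁻¹ = Y⁻¹ := by
    rw [hYAB, mul_inv_rev, inv_eq_of_mul_eq_one_right hA2, inv_eq_of_mul_eq_one_right hB2, ← mul_assoc A A B,
      hA2, one_mul]
  have hBYB : B * Y * B⁻¹ = Y⁻¹ := by
    rw [hYAB, mul_inv_rev, inv_eq_of_mul_eq_one_right hA2, inv_eq_of_mul_eq_one_right hB2,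
      mul_assoc B (A * B) B, mul_assoc A B B, hB2, mul_one]
  set M0 := (zpowers Y).comap ψ with hM0
  haveI : M0.Normal := by
    have hgen : Γ ≤ ((normalizer (zpowers Y : Set (MulAut U))).comap ψ).map Γ.subtype := (closure_le _).mpr (by
      have key : ∀ {C : MulAut U}, C * Y * C⁻¹ = Y⁻¹ → C ∈ normalizer (zpowers Y : Set (MulAut U)) := by
        intro C hC
        rw [mem_normalizer_iff_map_conj_eq, MonoidHom.map_zpowers]
        simp [hC]
      rintro x (rfl | rfl)
      · exact ⟨aΓ, key hAYA, rfl⟩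
      · exact ⟨bΓ, key hBYB, rfl⟩)
    refine ⟨fun m hm c => ?_⟩
    obtain ⟨c', hc', e⟩ := hgen c.2
    obtain rfl : c' = c := Subtype.ext e
    show ψ (c' * m * c'⁻¹) ∈ zpowers Y
    rw [map_mul, map_mul, map_inv]
    exact (mem_normalizer_iff.mp hc' _).mp hm
  -- a `3`-element inducing a three-cycle
  obtain ⟨k, m, hm, hkm⟩ := Nat.exists_eq_pow_mul_and_not_dvd (orderOf_pos yΓ).ne' 3 (by norm_num)
  set d := yΓ ^ m with hd
  have hd3 : d ^ 3 ^ k = 1 := by rw [hd, ← pow_mul, mul_comm, ← hkm, pow_orderOf_eq_one]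
  have hψd : ψ d = Y ^ m := map_pow ψ yΓ m
  have hψd1 : ψ d ≠ 1 := fun h => hm (hYord ▸ orderOf_dvd_of_pow_eq_one (hψd ▸ h))
  have hdM : d ∈ M0 := by
    show ψ d ∈ zpowers Y
    rw [hψd]; exact pow_mem (mem_zpowers Y) m
  have hdp : IsPGroup 3 (zpowers (⟨d, hdM⟩ : M0)) := by
    refine IsPGroup.of_card (n := Nat.log 3 (orderOf (⟨d, hdM⟩ : M0))) ?_
    obtain ⟨i, -, hi⟩ := (Nat.dvd_prime_pow Nat.prime_three).mp
      (orderOf_dvd_of_pow_eq_one (Subtype.ext hd3 : (⟨d, hdM⟩ : M0) ^ 3 ^ k = 1))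
    rw [Nat.card_zpowers, hi, Nat.log_pow (by norm_num)]
  obtain ⟨P, hP⟩ := hdp.exists_le_sylow
  set P' := (P : Subgroup M0).map M0.subtype with hP'
  have hdP : d ∈ P' := ⟨⟨d, hdM⟩, hP (mem_zpowers _), rfl⟩
  obtain ⟨h, hh, n, hn, hhn⟩ : aΓ ∈ ((normalizer (P' : Set Γ) : Subgroup Γ) : Set Γ) * (M0 : Set Γ) := by
    rw [← Subgroup.mul_normal, Sylow.normalizer_sup_eq_top P]
    trivial
  have hh' : h * n = aΓ := hhn
  obtain ⟨i, hi⟩ : ∃ i : ℤ, ψ h = A * Y ^ i := by
    obtain ⟨j, hj⟩ : ψ n ∈ zpowers Y := hn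
    have h1 : ψ h * Y ^ j = A := by rw [hA, ← hh', map_mul]; congr 1
    exact ⟨-j, by rw [zpow_neg, ← h1, mul_inv_cancel_right]⟩
  have hh2 : ψ h * ψ h = 1 := by
    have h1 : A * Y ^ i * A⁻¹ = (Y ^ i)⁻¹ := by rw [← conj_zpow, hAYA, inv_zpow]
    rw [inv_eq_of_mul_eq_one_right hA2] at h1
    rw [hi, ← mul_assoc, h1, inv_mul_cancel]
  have hh1 : ψ h ≠ 1 := fun h0 => hY1 (by
    rw [hi] at h0
    have hA' : A = (Y ^ i)⁻¹ := eq_inv_of_mul_eq_one_left h0
    have h1 : A * Y * A⁻¹ = Y := by
      rw [hA', (((Commute.refl Y).zpow_left i).inv_left).eq, mul_inv_cancel_right]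
    have h2 : Y ^ 2 = 1 := by rw [pow_two, mul_eq_one_iff_eq_inv]; exact h1.symm.trans hAYA
    calc Y = Y ^ 3 * (Y ^ 2)⁻¹ := by group
      _ = 1 := by rw [hY3, h2, inv_one, mul_one])
  -- the section
  have hfG := H59.involves_of_surjective (G := G) (L := ⊤) (Y := Equiv.Perm (Fin 4))
    (f.comp (⊤ : Subgroup G).subtype)
    (fun q => by obtain ⟨g, rfl⟩ := QuotientGroup.mk'_surjective Z q; exact ⟨⟨g, trivial⟩, rfl⟩)
  refine hfG (involves_perm_four' U ((normalizer (P' : Set Γ)).map Γ.subtype) hU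
    ((map_subtype_le _).trans hΓN) ?_ d h
    (mem_map_of_mem _ (le_normalizer hdP)) (mem_map_of_mem _ hh) ?_ ?_ ?_ ?_)
  · rintro x hx ⟨c, hc, rfl⟩
    have h1 : c * d * c⁻¹ * d⁻¹ ∈ P' :=
      mul_mem ((mem_normalizer_iff.mp hc d).mp hdP) (inv_mem hdP)
    have h2 : ((c * d * c⁻¹ * d⁻¹ : Γ) : G ⧸ Z) ∈ U := by
      have : ((c * d * c⁻¹ * d⁻¹ : Γ) : G ⧸ Z) =
          (c : G ⧸ Z) * ((d : G ⧸ Z) * ((c : G ⧸ Z))⁻¹ * (d : G ⧸ Z)⁻¹) := by
        simp [mul_assoc]
      rw [this]
      exact mul_mem hx ((mem_normalizer_iff.mp (hΓN d.2) _).mp (inv_mem hx))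
    have h3 : c * d * c⁻¹ * d⁻¹ = 1 := by
      obtain ⟨j, hj⟩ := (P.isPGroup'.map M0.subtype) ⟨_, h1⟩
      have h4 : orderOf (c * d * c⁻¹ * d⁻¹) ∣ 3 ^ j :=
        orderOf_dvd_of_pow_eq_one (congrArg Subtype.val hj)
      have h5 : orderOf ((c * d * c⁻¹ * d⁻¹ : Γ) : G ⧸ Z) ∣ 4 := hU ▸ U.orderOf_dvd_natCard h2
      rw [Subgroup.orderOf_coe] at h5
      exact orderOf_eq_one_iff.mp (Nat.eq_one_of_dvd_coprimes (Nat.Coprime.pow_left j (by norm_num)) h4 h5)
    have hfixd : ψ d ⟨_, hx⟩ = ⟨_, hx⟩ := by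
      apply Subtype.ext
      show (d : G ⧸ Z) * (c : G ⧸ Z) * (d : G ⧸ Z)⁻¹ = c
      have h6 : c * d = d * c := mul_inv_eq_iff_eq_mul.mp (mul_inv_eq_one.mp h3)
      exact mul_inv_eq_iff_eq_mul.mpr (congrArg Subtype.val h6).symm
    have hfixY : Y ⟨_, hx⟩ = ⟨_, hx⟩ := by
      obtain ⟨e, he⟩ := exists_pow_eq_self_of_coprime (x := Y) (n := m)
        (hYord ▸ ((Nat.prime_three).coprime_iff_not_dvd.mpr hm).symm)
      have h7 : ∀ e : ℕ, (ψ d ^ e) ⟨_, hx⟩ = ⟨_, hx⟩ := fun e => by
        induction e with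
        | zero => rfl
        | succ e ih => rw [pow_succ, MulAut.mul_apply, hfixd, ih]
      conv_lhs => rw [← he, ← hψd]
      exact h7 e
    exact congrArg Subtype.val (hYfix _ hfixY)
  · intro x hx
    have h1 : ψ (d ^ 3) = 1 := by rw [map_pow, hψd, ← pow_mul, mul_comm, pow_mul, hY3, one_pow]
    exact congrArg (fun F : MulAut U => ((F ⟨x, hx⟩ : U) : G ⧸ Z)) h1
  · by_contra hcon
    push Not at hcon
    exact hψd1 (MulEquiv.ext fun x => Subtype.ext (hcon x x.2))
  · intro x hx
    have h1 : ψ (h ^ 2) = 1 := by rw [map_pow, pow_two, hh2]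
    exact congrArg (fun F : MulAut U => ((F ⟨x, hx⟩ : U) : G ⧸ Z)) h1
  · by_contra hcon
    push Not at hcon
    exact hh1 (MulEquiv.ext fun x => Subtype.ext (hcon x x.2))

end Transvection

variable [Finite G]

/-- A Sylow intersection with a normal subgroup that is a `2`-group modulo `C ≤ N` covers it. -/
theorem le_sup_inf_sylow {p : ℕ} [Fact p.Prime] (T : Sylow p G) (C N : Subgroup G) [C.Normal] [N.Normal]
    (hpow : ∀ g ∈ N, ∃ k, g ^ p ^ k ∈ C) : N ≤ C ⊔ ((T : Subgroup G) ⊓ N) := by
  set W := C ⊔ ((T : Subgroup G) ⊓ N) with hW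
  obtain ⟨Q, hQ⟩ := Thompson.exists_sylow_inf_normal T N
  have h1 : ¬ p ∣ ((T : Subgroup G) ⊓ N).relIndex N := by
    rw [relIndex, ← hQ, subgroupOf, comap_map_eq_self_of_injective N.subtype_injective]
    exact Q.not_dvd_index
  have hq : IsPGroup p (N ⧸ C.subgroupOf N) := by
    intro q
    obtain ⟨g, rfl⟩ := QuotientGroup.mk'_surjective (C.subgroupOf N) q
    obtain ⟨k, hk⟩ := hpow g g.2
    exact ⟨k, by rw [← map_pow]; exact (QuotientGroup.eq_one_iff _).mpr hk⟩
  obtain ⟨k, hk⟩ := IsPGroup.iff_card.mp hq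
  have h2 : W.relIndex N ∣ p ^ k := hk ▸ relIndex_dvd_of_le_left N (le_sup_left : C ≤ W)
  have h3 : W.relIndex N ∣ ((T : Subgroup G) ⊓ N).relIndex N := relIndex_dvd_of_le_left N le_sup_right
  exact relIndex_eq_one.mp (Nat.eq_one_of_dvd_coprimes
    (((Fact.out : p.Prime).coprime_iff_not_dvd.mpr h1).pow_left k) h2 h3)

/-- Glauberman's theorem for groups not involving the symmetric group of degree 4. -/
theorem mem_center_glauberman_free : ∀ n : ℕ, ∀ (G : Type u) [Group G] [Finite G], Nat.card G ≤ n →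
    ¬ Cfsg.Involves (Equiv.Perm (Fin 4)) G → ∀ (T : Sylow 2 G) (V : Subgroup G) [V.Normal],
      IsMulCommutative V → V ≤ T → ∀ x ∈ V, (∀ t ∈ (T : Subgroup G), Commute t x) →
        (∀ g ∈ normalizer (thompsonSubgroupAOf (T : Subgroup G) : Set G), Commute g x) →
          x ∈ center G := by
  intro n
  induction n with
  | zero => intro G _ _ hn; exact absurd hn (by have := Nat.card_pos (α := G); omega)
  | succ n ih =>
    intro G _ _ hn hfree T V _ hV hVT x hxV hx hJ
    obtain ⟨k, hk⟩ := T.isPGroup' ⟨x, hVT hxV⟩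
    replace hk : x ^ 2 ^ k = 1 := congrArg Subtype.val hk
    induction k generalizing x with
    | zero => rw [pow_zero, pow_one] at hk; exact hk ▸ one_mem _
    | succ k ihk =>
    have hx2 : x ^ 2 ∈ center G := ihk _ (pow_mem hxV 2) (fun t ht => (hx t ht).pow_right 2)
      (fun g hg => (hJ g hg).pow_right 2) (by rwa [← pow_mul, ← pow_succ'])
    by_contra hxc
    -- proper overgroups of `T` centralize `x`
    have hM : ∀ L : Subgroup G, (T : Subgroup G) ≤ L → L ≠ ⊤ → ∀ g ∈ L, Commute g x := by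
      intro L hTL hL g hg
      have hlt : Nat.card L ≤ n := by
        have h1 := L.card_mul_index
        have h2 : 1 < L.index := one_lt_index_of_ne_top hL
        have h3 := Nat.card_pos (α := L)
        nlinarith
      have hmap : ((T.subtype hTL : Sylow 2 L) : Subgroup L).map L.subtype = (T : Subgroup G) := by
        rw [Sylow.coe_subtype, map_subgroupOf_eq_of_le hTL]
      have hxL : x ∈ L := hTL (hVT hxV)
      have h := ih L hlt (fun hi => hfree (H59.involves_of_surjective (MonoidHom.id L)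
        Function.surjective_id hi)) (T.subtype hTL) (V.subgroupOf L)
        ⟨⟨fun u v => Subtype.ext (Subtype.ext (congrArg (fun z : V => (z : G))
          (hV.is_comm.comm (⟨((u : L) : G), u.2⟩ : V) ⟨((v : L) : G), v.2⟩)))⟩⟩
        (fun u hu => by rw [Sylow.coe_subtype]; exact hVT hu) ⟨x, hxL⟩ hxV
        (fun t ht => Subtype.ext (hx t (by rwa [Sylow.coe_subtype] at ht)).eq) fun c hc => Subtype.ext ?_
      · exact (congrArg Subtype.val (mem_center_iff.mp h ⟨g, hg⟩) : g * x = x * g)
      · refine (hJ _ ?_).eq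
        rw [← hmap, H59.thompsonAOf_map _ _ L.subtype_injective.injOn]
        exact le_normalizer_map _ (mem_map_of_mem L.subtype hc)
    set V0 := normalClosure ({x} : Set G) with hV0
    have hV0V : V0 ≤ V := normalClosure_le_normal (Set.singleton_subset_iff.mpr hxV)
    have hV0c : IsMulCommutative V0 := isMulCommutative_of_le hV hV0V
    have hV0T : V0 ≤ T := hV0V.trans hVT
    have hxV0 : x ∈ V0 := subset_normalClosure rfl
    have hsq : ∀ v ∈ V0, v * v ∈ center G := fun v hv => by
      rw [← pow_two]; exact (pow_mem_center_of_normalClosure hV hxV hx2 hv).2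
    set C := centralizer (V0 : Set G) with hC
    have hCx : ∀ g ∈ C, Commute g x := fun g hg => (mem_centralizer_iff.mp hg x hxV0).symm
    -- normal `2`-subgroups in `T` centralize `V0`
    have hnormT : ∀ W : Subgroup G, W.Normal → W ≤ T → W ≤ C := by
      intro W hW hWT w hw
      have hle : V0 ≤ centralizer (W : Set G) := normalClosure_le_normal (N := centralizer (W : Set G))
        (Set.singleton_subset_iff.mpr (mem_centralizer_iff.mpr fun u hu => hx u (hWT hu)))
      exact mem_centralizer_iff.mpr fun v hv => (mem_centralizer_iff.mp (hle hv) w hw).symm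
    have hall : ∀ L : Subgroup G, (T : Subgroup G) ≤ L → L ≠ ⊤ → ∀ N : Subgroup G, L ⊔ N = ⊤ →
        (∀ g ∈ N, Commute g x) → False := by
      intro L hTL hL N hLN hN
      refine hxc (mem_center_iff.mpr fun g => ?_)
      have hle : L ⊔ N ≤ centralizer ({x} : Set G) := sup_le
        (fun c hc => mem_centralizer_iff.mpr fun y hy => by rw [hy]; exact (hM L hTL hL c hc).eq.symm)
        (fun c hc => mem_centralizer_iff.mpr fun y hy => by rw [hy]; exact (hN c hc).eq.symm)
      exact (mem_centralizer_iff.mp (hle (hLN ▸ mem_top g)) x rfl).symm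
    have hred : ∀ N : Subgroup G, N.Normal → (∀ g ∈ N, ∃ k, g ^ 2 ^ k ∈ C) → N ≤ C := by
      intro N hNn hpow
      obtain ⟨Q, hQ⟩ := Thompson.exists_sylow_inf_normal T N
      have hcov := le_sup_inf_sylow T C N hpow
      have hTN : (T : Subgroup G) ≤ normalizer (((T : Subgroup G) ⊓ N : Subgroup G) : Set G) := fun t ht =>
        H59.mem_normalizer_of_forall fun u hu =>
          mem_inf.mpr ⟨mul_mem (mul_mem ht (mem_inf.mp hu).1) (inv_mem ht), hNn.conj_mem u (mem_inf.mp hu).2 t⟩
      have hfr := Sylow.normalizer_sup_eq_top Q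
      rw [hQ] at hfr
      rcases eq_or_ne (normalizer (((T : Subgroup G) ⊓ N : Subgroup G) : Set G)) ⊤ with h | h
      · exact hcov.trans (sup_le le_rfl (hnormT _ (normalizer_eq_top_iff.mp h) inf_le_left))
      · refine (hall _ hTN h N hfr fun g hg => ?_).elim
        have hle : C ⊔ ((T : Subgroup G) ⊓ N) ≤ centralizer ({x} : Set G) := sup_le
          (fun c hc => mem_centralizer_iff.mpr fun y hy => by rw [hy]; exact (hCx c hc).eq.symm)
          (fun c hc => mem_centralizer_iff.mpr fun y hy => by rw [hy]; exact (hx c hc.1).eq.symm)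
        exact (mem_centralizer_iff.mp (hle (hcov hg)) x rfl).symm
    have hfaith : ∀ g : G, (∀ v ∈ V0, com g v ∈ center G) → g ∈ C := by
      let Cb : Subgroup G := ⨅ v ∈ V0, stabMod v
      have hCb : ∀ g, g ∈ Cb ↔ ∀ v ∈ V0, com g v ∈ center G := fun g => by
        simp only [Cb, Subgroup.mem_iInf, mem_stabMod]
      haveI : Cb.Normal := ⟨fun g hg c => (hCb _).mpr fun v hv => by
        rw [com_conj]
        exact (inferInstance : (center G).Normal).conj_mem _
          ((hCb g).mp hg _ (by simpa using Normal.conj_mem (inferInstance : V0.Normal) v hv c⁻¹)) c⟩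
      intro g hg
      refine hred Cb inferInstance (fun c hc => ⟨1, mem_centralizer_iff.mpr fun v hv => ?_⟩) ((hCb g).mpr hg)
      have hz := (hCb c).mp hc v hv
      have e : c * v * c⁻¹ = com c v * v := by rw [com]; group
      have hzz : com c v * com c v = 1 := by
        have h1 : c * (v * v) * c⁻¹ = v * v :=
          mul_inv_eq_iff_eq_mul.mpr (mem_center_iff.mp (hsq v hv) c)
        rw [show c * (v * v) * c⁻¹ = (c * v * c⁻¹) * (c * v * c⁻¹) by group, e,
          show com c v * v * (com c v * v) = com c v * (v * com c v) * v by group,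
          mem_center_iff.mp hz v, ← mul_assoc, mul_assoc (com c v * com c v)] at h1
        exact mul_eq_right.mp h1
      have h2 : c ^ 2 ^ 1 * v * (c ^ 2 ^ 1)⁻¹ = v := by
        rw [pow_one, pow_two, show c * c * v * (c * c)⁻¹ = c * (c * v * c⁻¹) * c⁻¹ by group, e,
          ← mul_assoc c (com c v) v, mem_center_iff.mp hz c, mul_assoc (com c v) c v,
          mul_assoc (com c v), e, ← mul_assoc, hzz, one_mul]
      exact (mul_inv_eq_iff_eq_mul.mp h2).symm
    -- the transvection case
    have htrans : ∀ a, a * a ∈ C → a ∉ C → (modFixed V0 (zpowers a)).relIndex V0 ≤ 2 → False := by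
      intro a ha2 haC hidx
      obtain ⟨v0, hv0, hv0m⟩ : ∃ v ∈ V0, com a v ∉ center G := by
        by_contra h; push Not at h; exact haC (hfaith a h)
      have hv0F : v0 ∉ modFixed V0 (zpowers a) := fun h => hv0m (h.2 a (mem_zpowers a))
      have hi2 : ((modFixed V0 (zpowers a)).subgroupOf V0).index = 2 := by
        have h1 : ((modFixed V0 (zpowers a)).subgroupOf V0).index ≠ 1 := fun h => by
          rw [index_eq_one, subgroupOf_eq_top] at h
          exact hv0F (h hv0)
        have h2 : ((modFixed V0 (zpowers a)).subgroupOf V0).index ≠ 0 := index_ne_zero_of_finite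
        have h3 : ((modFixed V0 (zpowers a)).subgroupOf V0).index ≤ 2 := hidx
        omega
      have ht : IsTransvection V0 a v0 := ⟨ha2, hv0, hv0m, fun v hv => by
        by_cases hvF : v ∈ modFixed V0 (zpowers a)
        · exact Or.inl (hvF.2 a (mem_zpowers a))
        · refine Or.inr (((?_ : v0⁻¹ * v ∈ modFixed V0 (zpowers a))).2 a (mem_zpowers a))
          have h1 := (mul_mem_iff_of_index_two hi2 (a := (⟨v0, hv0⟩ : V0)⁻¹) (b := ⟨v, hv⟩)).mpr
            (by simp [mem_subgroupOf, hv0F, hvF])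
          exact h1⟩
      obtain ⟨g, hg⟩ : ∃ g : G, ¬ IsPGroup 2 (closure ({QuotientGroup.mk' C a,
          QuotientGroup.mk' C (g * a * g⁻¹)} : Set (G ⧸ C))) := by
        by_contra h
        push Not at h
        obtain ⟨N, hN, hNp, haN⟩ := Thompson.baer_suzuki (p := 2) (x := QuotientGroup.mk' C a) fun q => by
          obtain ⟨g, rfl⟩ := QuotientGroup.mk'_surjective C q
          rw [← map_inv, ← map_mul, ← map_mul]
          exact h g
        refine haC (hred (N.comap (QuotientGroup.mk' C)) (hN.comap _) (fun c hc => ?_) haN)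
        obtain ⟨k, hk⟩ := hNp ⟨_, hc⟩
        exact ⟨k, (QuotientGroup.eq_one_iff _).mp (congrArg Subtype.val hk)⟩
      exact hfree (involves_of_transvections hsq hV0c hfaith ht (ht.conj g) hg)
    -- minimal offenders
    set 𝔅 := {B : Subgroup G | IsModOff (T : Subgroup G) V0 B ∧
      ∀ B' : Subgroup G, B' ≤ B → IsModOff (T : Subgroup G) V0 B' → B' = B} with h𝔅
    have hex : 𝔅.Nonempty := by
      obtain ⟨A, hA, hAC⟩ : ∃ A, IsMaxAbelianIn (T : Subgroup G) A ∧ ¬ A ≤ C := by
        refine exists_maxAbelian_not_le fun hJC => ?_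
        obtain ⟨Q, hQ⟩ := Thompson.exists_sylow_inf_normal T C
        have hfr := Sylow.normalizer_sup_eq_top Q
        rw [hQ] at hfr
        refine hxc (mem_center_iff.mpr fun g => ?_)
        have hle : normalizer (((T : Subgroup G) ⊓ C : Subgroup G) : Set G) ⊔ C ≤ centralizer ({x} : Set G) :=
          sup_le (fun c hc => mem_centralizer_iff.mpr fun y hy => by
            rw [hy]
            refine (hJ c ?_).eq.symm
            rw [← H59.thompsonAOf_eq_of_le inf_le_left (le_inf (H59.thompsonAOf_le _) hJC)]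
            exact H59.normalizer_le_normalizer_thompsonAOf _ hc)
          (fun c hc => mem_centralizer_iff.mpr fun y hy => by rw [hy]; exact (hCx c hc).eq.symm)
        exact (mem_centralizer_iff.mp (hle (hfr ▸ mem_top g)) x rfl).symm
      have hoff : IsModOff (T : Subgroup G) V0 A := by
        refine ⟨hA.1, hAC, ?_⟩
        set F := modFixed V0 A with hF
        have hab : IsMulCommutative ↥((A ⊓ C) ⊔ V0) := by
          have h1 : ((A ⊓ C : Subgroup G) : Set G) ∪ (V0 : Set G) ⊆
              centralizer (((A ⊓ C : Subgroup G) : Set G) ∪ (V0 : Set G)) := by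
            rintro u (hu | hu) v (hv | hv)
            · exact (hA.commute hv.1 hu.1).eq
            · exact mem_centralizer_iff.mp hu.2 v hv
            · exact (mem_centralizer_iff.mp hv.2 u hu).symm
            · exact congrArg (fun z : V0 => (z : G)) (hV0c.is_comm.comm (⟨v, hv⟩ : V0) ⟨u, hu⟩)
          have h2 : (A ⊓ C) ⊔ V0 ≤ centralizer (((A ⊓ C) ⊔ V0 : Subgroup G) : Set G) := by
            rw [← Subgroup.closure_eq (A ⊓ C), ← Subgroup.closure_eq V0, ← Subgroup.closure_union,
              centralizer_closure, closure_le]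
            exact h1
          exact ⟨⟨fun u v => Subtype.ext (mem_centralizer_iff.mp (h2 v.2) _ u.2)⟩⟩
        have h1 := hA.2.2 _ (sup_le (inf_le_left.trans hA.1) hV0T) hab
        have h2 := Cores.card_sup_mul_card_inf (A ⊓ C) V0
        have h3 : Nat.card ↥(A ⊓ C ⊓ V0) ≤ Nat.card F := card_le_of_le fun v hv => ⟨hv.2, fun b hb => by
          rw [show com b v = 1 by rw [com, (hA.commute hb hv.1.1).eq]; group]
          exact one_mem _⟩
        have h4 := card_mul_index (F.subgroupOf V0)
        rw [Nat.card_congr (subgroupOfEquivOfLe (modFixed_le V0 A)).toEquiv] at h4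
        have h5 := card_mul_index ((A ⊓ C).subgroupOf A)
        rw [Nat.card_congr (subgroupOfEquivOfLe inf_le_left).toEquiv] at h5
        have h6 : C.relIndex A = ((A ⊓ C).subgroupOf A).index := by
          rw [← relIndex, inf_relIndex_left]
        rw [h6]
        change (F.subgroupOf V0).index ≤ _
        have h7 : Nat.card ↥(A ⊓ C) * (Nat.card F * (F.subgroupOf V0).index) ≤
            Nat.card ↥(A ⊓ C) * (Nat.card F * ((A ⊓ C).subgroupOf A).index) := by
          calc Nat.card ↥(A ⊓ C) * (Nat.card F * (F.subgroupOf V0).index)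
              = Nat.card ↥((A ⊓ C) ⊔ V0) * Nat.card ↥(A ⊓ C ⊓ V0) := by rw [h4, h2]
            _ ≤ Nat.card A * Nat.card F := Nat.mul_le_mul h1 h3
            _ = _ := by rw [← h5]; ring
        exact Nat.le_of_mul_le_mul_left (Nat.le_of_mul_le_mul_left h7 Nat.card_pos) Nat.card_pos
      obtain ⟨B, hB⟩ := (Set.toFinite {B : Subgroup G | IsModOff (T : Subgroup G) V0 B}).exists_minimal
        ⟨A, hoff⟩
      exact ⟨B, hB.prop, fun B' h1 h2 => hB.eq_of_le h2 h1⟩
    set K := sSup 𝔅 with hK
    have hKT : K ≤ T := sSup_le fun B hB => hB.1.1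
    have hconj : ∀ g : G, (∀ k ∈ K, g⁻¹ * k * g ∈ (T : Subgroup G)) →
        g ∈ normalizer (K : Set G) := by
      intro g hg
      set φ := (MulAut.conj g⁻¹).toMonoidHom with hφ
      have hle : ∀ B ∈ 𝔅, B.map φ ≤ K := by
        intro B hB
        have hBT : B.map φ ≤ T := by
          rintro _ ⟨b, hb, rfl⟩
          simpa [hφ] using hg b (le_sSup hB hb)
        refine le_sSup ⟨hB.1.map hBT, fun B' hB' hoff => ?_⟩
        have hinv : ∀ W : Subgroup G, (W.map (MulAut.conj g).toMonoidHom).map φ = W := fun W => by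
          rw [Subgroup.map_map]
          conv_rhs => rw [← Subgroup.map_id W]
          congr 1
          ext c
          simp [hφ, mul_assoc]
        have h1 : B'.map (MulAut.conj g).toMonoidHom ≤ B := by
          rintro _ ⟨c, hc, rfl⟩
          obtain ⟨b, hb, rfl⟩ := hB' hc
          simpa [hφ, mul_assoc] using hb
        have h2 := hB.2 _ h1 (hoff.map (h1.trans hB.1.1))
        rw [← hinv B', h2]
      have hle' : K ≤ K.comap φ := sSup_le fun B hB => map_le_iff_le_comap.mp (hle B hB)
      have : g⁻¹ ∈ normalizer (K : Set G) :=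
        H59.mem_normalizer_of_forall fun u hu => by simpa [hφ] using hle' hu
      simpa using inv_mem this
    have hTK : (T : Subgroup G) ≤ normalizer (K : Set G) := fun t ht =>
      hconj t fun k hk => mul_mem (mul_mem (inv_mem ht) (hKT hk)) ht
    have hKn : normalizer (K : Set G) ≠ ⊤ := fun h => by
      obtain ⟨B, hB⟩ := hex
      exact hB.1.2.1 ((le_sSup hB).trans (hnormT K (normalizer_eq_top_iff.mp h) hKT))
    refine hxc ?_
    have h := mem_center_of_norm T K (T.isPGroup'.to_le hKT) V0 hV0c x hxV0 (hVT hxV) hx 1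
      (fun g hg => by rw [pow_one]; exact hM _ hTK hKn g (hconj g hg)) (fun J0 hJ0 hi w hwV hw => ?_)
    · rwa [pow_one] at h
    simp only [Nat.choose_self, pow_one]
    obtain ⟨B, hB, hBJ⟩ : ∃ B ∈ 𝔅, ¬ B ≤ J0.map K.subtype := by
      by_contra hcon
      push Not at hcon
      have h1 : J0 = ⊤ := eq_top_iff.mpr fun j _ => by
        obtain ⟨j', hj', e⟩ := sSup_le hcon j.2
        rwa [← Subtype.ext e]
      rw [h1, index_top] at hi
      exact absurd hi (by norm_num)
    have hBK : B ≤ K := le_sSup hB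
    by_cases hBC : B ⊓ C ≤ J0.map K.subtype
    swap
    · obtain ⟨a, ha, ha'⟩ := SetLike.not_le_iff_exists.mp hBC
      refine ⟨⟨a, hBK ha.1⟩, fun h => ha' ⟨_, h, rfl⟩, 1, one_mem _, Commute.one_right _, ?_, ?_⟩
      · show a * w * a⁻¹ = 1 * w
        rw [one_mul, (mem_centralizer_iff.mp ha.2 w hwV).symm, mul_inv_cancel_right]
      · rw [mul_one, pow_two]; exact hsq w hwV
    obtain ⟨a, haB, haJ⟩ := SetLike.not_le_iff_exists.mp hBJ
    set B0 := B ⊓ J0.map K.subtype with hB0
    have hidx2 : B0.relIndex B ≤ 2 := by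
      haveI := hJ0
      rw [hB0, inf_relIndex_left, ← map_subgroupOf_eq_of_le hBK,
        relIndex_map_map_of_injective (f := K.subtype) J0 _ K.subtype_injective]
      exact (Nat.le_of_dvd (Nat.pos_of_ne_zero index_ne_zero_of_finite)
        (relIndex_dvd_index_of_normal J0 _)).trans hi.le
    have ha2 : a * a ∈ B0 := ⟨mul_mem haB haB, (⟨a, hBK haB⟩ : K) * ⟨a, hBK haB⟩, by
      haveI := hJ0
      rw [← pow_two]
      simpa [hi] using J0.pow_index_mem ⟨a, hBK haB⟩, rfl⟩
    have hrel : C.relIndex B = C.relIndex B0 * B0.relIndex B := by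
      rw [← inf_relIndex_right C B, ← relIndex_mul_relIndex (C ⊓ B) B0 B
        (le_inf inf_le_right (le_of_eq_of_le (inf_comm C B) hBC)) inf_le_left]
      congr 1
      rw [← inf_relIndex_right (C ⊓ B) B0, inf_assoc, inf_eq_right.mpr (inf_le_left : B0 ≤ B),
        inf_relIndex_right]
    by_cases hB0C : B0 ≤ C
    · have h1 : C.relIndex B0 = 1 := relIndex_eq_one.mpr hB0C
      refine (htrans a (hB0C ha2) (fun h => haJ (hBC ⟨haB, h⟩)) ?_).elim
      refine le_trans (Nat.le_of_dvd ?_ (relIndex_dvd_of_le_left V0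
        (modFixed_mono (zpowers_le.mpr haB)))) (hB.1.2.2.trans ?_)
      · exact Nat.pos_of_ne_zero index_ne_zero_of_finite
      · rw [hrel, h1, one_mul]; exact hidx2
    have hB0off : ¬ (modFixed V0 B0).relIndex V0 ≤ C.relIndex B0 := fun h =>
      haJ ((hB.2 B0 inf_le_left ⟨inf_le_left.trans hB.1.1, hB0C, h⟩).ge haB).2
    have hF : modFixed V0 B ≤ modFixed V0 B0 := modFixed_mono inf_le_left
    have hmul := relIndex_mul_relIndex _ _ V0 hF (modFixed_le V0 B0)
    have hV0p : IsPGroup 2 V0 := T.isPGroup'.to_le hV0T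
    obtain ⟨i1, hi1⟩ : ∃ i, (modFixed V0 B0).relIndex V0 = 2 ^ i := hV0p.index _
    obtain ⟨i2, hi2⟩ : ∃ i, C.relIndex B0 = 2 ^ i :=
      (T.isPGroup'.to_le (inf_le_left.trans hB.1.1) : IsPGroup 2 B0).index _
    have hone : (modFixed V0 B).relIndex (modFixed V0 B0) = 1 := by
      have hlt : i2 < i1 := by
        by_contra h
        exact hB0off (by rw [hi1, hi2]; exact Nat.pow_le_pow_right two_pos (not_lt.mp h))
      have h1 : 2 * C.relIndex B0 ≤ (modFixed V0 B0).relIndex V0 := by
        rw [hi1, hi2, ← pow_succ']; exact Nat.pow_le_pow_right two_pos hlt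
      have h2 := hB.1.2.2
      rw [hrel] at h2
      have h3 : C.relIndex B0 * B0.relIndex B ≤ C.relIndex B0 * 2 := Nat.mul_le_mul_left _ hidx2
      have h4 : (modFixed V0 B).relIndex (modFixed V0 B0) ≠ 0 := index_ne_zero_of_finite
      have h5 : 0 < (modFixed V0 B0).relIndex V0 := by rw [hi1]; positivity
      have h6 := hmul.trans_le (h2.trans (h3.trans ((mul_comm _ 2).trans_le h1)))
      have h7 : (modFixed V0 B).relIndex (modFixed V0 B0) ≤ 1 :=
        Nat.le_of_mul_le_mul_right (by rwa [one_mul]) h5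
      omega
    have hw0 : w ∈ modFixed V0 B := relIndex_eq_one.mp hone ⟨hwV, fun b hb => by
      obtain ⟨-, j, hj, rfl⟩ := hb
      rw [show com (K.subtype j) w = 1 by
        rw [com, show K.subtype j * w = w * K.subtype j from (hw j hj).eq]; group]
      exact one_mem _⟩
    refine ⟨⟨a, hBK haB⟩, fun h => haJ ⟨_, h, rfl⟩, com a w, com_mem_of_normal a hwV, ?_, ?_, ?_⟩
    · exact mem_center_iff.mp (hw0.2 a haB) a
    · show a * w * a⁻¹ = com a w * w
      rw [com]; group
    · exact mul_mem (by rw [pow_two]; exact hsq w hwV) (hw0.2 a haB)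

end Cfsg.Agent.H85
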