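import Cfsg.Agent.H85.GlaubermanFusion
import Cfsg.Agent.FusionSys.Group

/-!
Glauberman's weakly closed elements theorem.
-/

set_option autoImplicit false
set_option linter.style.haveILetI false
set_option linter.unusedSectionVars false

namespace Cfsg.Agent.H85

open Cfsg Cfsg.FusionSystem Cfsg.Agent.FusionSys

universe u

variable {G : Type u} [Group G] [Finite G] {p : ℕ} [Fact p.Prime]

/-- The normalizers provide local data in the fusion system of a group. -/
theorem localData_group (S : Sylow p G) {x : G}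
    (h : p ≠ 2 ∨ (∃ z ∈ (S : Subgroup G) ⊓ Subgroup.centralizer ((S : Subgroup G) : Set G), z ^ p = x) ∨
      ¬ Involves (Equiv.Perm (Fin 4)) G) {R : Subgroup G}
    (hR : (groupFusionSystem (S : Subgroup G)).IsFullyNormalized R)
    (hc : (groupFusionSystem (S : Subgroup G)).IsCentric R) :
    LocalData p (groupFusionSystem (S : Subgroup G)) R x := by
  set H := Subgroup.normalizer (R : Set G) with hH
  set T0 := normalizerIn (S : Subgroup G) R with hT0
  have hT0H : T0 ≤ H := normalizerIn_le_normalizer _ R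
  have hp : IsPGroup p (Subgroup.inclusion hT0H).range := by
    rw [MonoidHom.range_eq_map]
    exact ((isPGroup_normalizerIn S.isPGroup' R).of_equiv Subgroup.topEquiv.symm).map _
  have hidx : ¬ p ∣ (Subgroup.inclusion hT0H).range.index := by
    rw [Subgroup.inclusion_range]
    exact (isFullyNormalized_group_iff S hR.1).1 hR
  set T := hp.toSylow hidx
  have hT : (T : Subgroup H) = (Subgroup.inclusion hT0H).range := rfl
  set V : Subgroup H := (R ⊓ Subgroup.centralizer (R : Set G)).subgroupOf H with hV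
  haveI : V.Normal := ⟨fun v hv c => by
    obtain ⟨h1, h2⟩ := Subgroup.mem_subgroupOf.1 hv
    refine Subgroup.mem_subgroupOf.2 ⟨(Subgroup.mem_normalizer_iff.1 c.2 _).1 h1,
      Subgroup.mem_centralizer_iff.2 fun y hy => ?_⟩
    have hy' : (c : G)⁻¹ * y * c ∈ R := by
      simpa using (Subgroup.mem_normalizer_iff.1 (inv_mem c.2) y).1 hy
    have h3 := Subgroup.mem_centralizer_iff.1 h2 _ hy'
    simp only [Subgroup.coe_mul, InvMemClass.coe_inv]
    calc y * ((c : G) * v * (c : G)⁻¹) = (c : G) * ((c : G)⁻¹ * y * c * v) * (c : G)⁻¹ := by group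
      _ = (c : G) * v * (c : G)⁻¹ * y := by rw [h3]; group⟩
  refine ⟨H, inferInstance, inferInstance, Subgroup.inclusion hT0H, T, V, inferInstance,
    Subgroup.inclusion_injective hT0H, hT, fun g P hP hg => ?_, fun α hα => ?_,
    ⟨⟨fun a b => Subtype.ext (Subtype.ext (Subgroup.mem_centralizer_iff.1
      (Subgroup.mem_subgroupOf.1 b.2).2 _ (Subgroup.mem_subgroupOf.1 a.2).1))⟩⟩,
    fun v hv => ?_, fun z hz => ?_, ?_⟩
  · have hm : ∀ y ∈ P, (g : G) * y * (g : G)⁻¹ ∈ T0 := fun y hy => by
      obtain ⟨t, ht⟩ := hg ⟨y, hP hy⟩ hy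
      have h1 : (t : G) = (g : G) * y * (g : G)⁻¹ := congrArg Subtype.val ht
      exact h1 ▸ t.2
    exact ⟨conjMap (g : G), isMap_group_iff.2 ⟨hP.trans normalizerIn_le, g,
      fun y hy => ⟨normalizerIn_le (hm y hy), rfl⟩⟩, fun y hy => ⟨hm y hy, Subtype.ext rfl⟩⟩
  · rw [autGroup_group hR.1] at hα
    obtain ⟨a, -, han, rfl⟩ := mem_autInducedBy.1 hα
    exact ⟨⟨a, han⟩, fun y hy => ⟨le_normalizerIn_self hR.1 (autMap_mem _ hy),
      Subtype.ext (autMap_conjAut han hy)⟩⟩
  · obtain ⟨h1, -⟩ := Subgroup.mem_subgroupOf.1 hv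
    rw [hT]
    exact ⟨⟨(v : G), le_normalizerIn_self hR.1 h1⟩, Subtype.ext rfl⟩
  · have h2 : (z : G) ∈ Subgroup.centralizer (R : Set G) :=
      Subgroup.mem_centralizer_iff.2 fun y hy => (hz y (hR.1 hy)).eq
    exact Subgroup.mem_subgroupOf.2 ⟨centralizerIn_le_of_isCentric hc ⟨normalizerIn_le z.2, h2⟩, h2⟩
  · exact h.imp id (Or.imp id fun hfree hi => hfree (H59.involves_of_surjective (MonoidHom.id H)
      Function.surjective_id hi))

/-- Glauberman: a central element of `N(J(S))` is weakly closed, under his three hypotheses. -/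
theorem weaklyClosed_glauberman (S : Sylow p G) (x : G) (hxS : x ∈ (S : Subgroup G))
    (hxZ : x ∈ (Subgroup.center ↥(Subgroup.normalizer
        (thompsonSubgroupAOf (S : Subgroup G) : Set G))).map
      (Subgroup.normalizer (thompsonSubgroupAOf (S : Subgroup G) : Set G)).subtype)
    (h : p ≠ 2 ∨ (∃ z ∈ (S : Subgroup G) ⊓ Subgroup.centralizer ((S : Subgroup G) : Set G), z ^ p = x) ∨
      ¬ Involves (Equiv.Perm (Fin 4)) G) :
    ∀ g : G, g * x * g⁻¹ ∈ (S : Subgroup G) → g * x * g⁻¹ = x := by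
  obtain ⟨y, hy, rfl⟩ := hxZ
  simp only [Subgroup.coe_subtype] at hxS h ⊢
  have hcomm : ∀ g ∈ Subgroup.normalizer (thompsonSubgroupAOf (S : Subgroup G) : Set G),
      Commute g (y : G) := fun g hg => congrArg Subtype.val (Subgroup.mem_center_iff.1 hy ⟨g, hg⟩)
  have hxc : ∀ s ∈ (S : Subgroup G), Commute s (y : G) := fun s hs =>
    hcomm s (H59.normalizer_le_normalizer_thompsonAOf _ (Subgroup.le_normalizer hs))
  have hJ : FixesElt (groupFusionSystem (S : Subgroup G)) (thompsonSubgroupAOf (S : Subgroup G)) (y : G) := by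
    intro α hα
    rw [autGroup_group (H59.thompsonAOf_le _)] at hα
    obtain ⟨a, -, han, rfl⟩ := mem_autInducedBy.1 hα
    rw [autMap_conjAut han (mem_thompsonAOf_of_commute hxS hxc), conjMap_apply, (hcomm a han).eq,
      mul_inv_cancel_right]
  have hcen := isCentral_zpowers_of_fixesElt S.isPGroup' (isSaturated_group S) hxS hxc hJ
    fun R hR hc => localData_group S h hR hc
  intro g hg
  have hmem : (y : G) ∈ Subgroup.zpowers (y : G) := Subgroup.mem_zpowers _
  exact fix_of_isCentral hcen (f := conjMap g) (isMap_group_iff.2 ⟨Subgroup.zpowers_le.2 hxS, g,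
    fun z hz => ⟨by
      obtain ⟨n, rfl⟩ := hz
      rw [← conj_zpow]
      exact zpow_mem hg n, rfl⟩⟩) hmem hmem

end Cfsg.Agent.H85
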