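import Cfsg.Agent.H59.ThompsonMap
import Cfsg.Agent.Cores.PCore

/-!
The norm argument of Glauberman: an element centralized by a Sylow subgroup `T` has, through the product of
its conjugates over `G ⧸ T`, a central power as soon as the orbit products of a `p`-subgroup `K` are central
and the points fixed by `K` give the element itself.
-/

set_option autoImplicit false
set_option linter.style.haveILetI false

namespace Cfsg.Agent.H85

open Subgroup Finset

universe u

variable {G : Type u} [Group G] [Finite G] {p : ℕ} [Fact p.Prime]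

omit [Finite G] in
theorem exists_normal_index_p {K : Type u} [Group K] [Finite K] (hK : IsPGroup p K) (H : Subgroup K)
    (hH : H ≠ ⊤) : ∃ J : Subgroup K, H ≤ J ∧ J.Normal ∧ J.index = p := by
  obtain ⟨n, hn⟩ := IsPGroup.iff_card.mp hK
  obtain ⟨m, hm⟩ := IsPGroup.iff_card.mp (hK.to_subgroup H)
  have hlt : m < n := by
    by_contra h
    refine hH (Subgroup.eq_top_of_le_card _ ?_)
    rw [hn, hm]
    exact Nat.pow_le_pow_right (Fact.out : p.Prime).pos (not_lt.mp h)
  obtain ⟨J, hJ, hHJ⟩ := Sylow.exists_subgroup_card_pow_prime_le p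
    (show p ^ (n - 1) ∣ Nat.card K by rw [hn]; exact pow_dvd_pow p (Nat.sub_le n 1)) H hm (by omega)
  have hidx : J.index = p := by
    have h := J.card_mul_index
    rw [hJ, hn, show n = n - 1 + 1 by omega, pow_succ] at h
    simp only [Nat.add_sub_cancel] at h
    exact Nat.eq_of_mul_eq_mul_left (pow_pos (Fact.out : p.Prime).pos _) h
  refine ⟨J, hHJ, Subgroup.normal_of_index_eq_minFac_card ?_, hidx⟩
  rw [hidx, hn, Nat.pow_minFac (by omega), (Fact.out : p.Prime).minFac_eq]

/-- The norm argument. -/
theorem mem_center_of_norm (T : Sylow p G) (K : Subgroup G) (hK : IsPGroup p K)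
    (V : Subgroup G) [V.Normal] (hV : IsMulCommutative V) (y : G) (hyV : y ∈ V)
    (hyT : y ∈ (T : Subgroup G)) (hTy : ∀ t ∈ (T : Subgroup G), Commute t y) (e : ℕ)
    (hfix : ∀ g : G, (∀ k ∈ K, g⁻¹ * k * g ∈ (T : Subgroup G)) → Commute g (y ^ e))
    (hstep : ∀ J0 : Subgroup ↥K, J0.Normal → J0.index = p → ∀ w ∈ V,
      (∀ j ∈ J0, Commute (j : G) w) → ∃ a : K, a ∉ J0 ∧ ∃ c ∈ V,
        Commute (a : G) c ∧ (a : G) * w * (a : G)⁻¹ = c * w ∧
          (w ^ p * c ^ p.choose 2) ^ e ∈ center G) :
    y ^ e ∈ center G := by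
  classical
  letI : CommGroup V := { (inferInstance : Group V) with mul_comm := hV.is_comm.comm }
  letI : Fintype (G ⧸ (T : Subgroup G)) := Fintype.ofFinite _
  -- the conjugates of `y`
  let f : G ⧸ (T : Subgroup G) → V := fun q =>
    ⟨q.out * y * q.out⁻¹, Normal.conj_mem ‹_› y hyV _⟩
  have hf : ∀ (g : G) (q : G ⧸ (T : Subgroup G)), f (g • q) = MulAut.conjNormal g (f q) := by
    intro g q
    obtain ⟨t, ht⟩ := QuotientGroup.mk_out_eq_mul (T : Subgroup G) (g * q.out)
    rw [← smul_eq_mul, ← MulAction.Quotient.smul_mk, QuotientGroup.out_eq', smul_eq_mul] at ht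
    apply Subtype.ext
    rw [MulAut.conjNormal_apply]
    show (g • q).out * y * (g • q).out⁻¹ = g * (q.out * y * q.out⁻¹) * g⁻¹
    rw [ht, mul_assoc _ (t : G) y, (hTy t t.2).eq]
    group
  let Zc : Subgroup V := (center G).subgroupOf V
  let π : V →* V ⧸ Zc := QuotientGroup.mk' Zc
  let F : G ⧸ (T : Subgroup G) → V ⧸ Zc := fun q => π (f q ^ e)
  let N : V := ∏ q, f q
  have hN : ((N ^ e : V) : G) ∈ center G := by
    refine mem_center_iff.mpr fun g => ?_
    have h1 : MulAut.conjNormal g (N ^ e) = N ^ e := by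
      rw [map_pow, map_prod]
      refine congrArg (· ^ e) (Fintype.prod_equiv (MulAction.toPerm g) _ _ fun q => ?_)
      exact (hf g q).symm
    have h2 := congrArg Subtype.val h1
    rw [MulAut.conjNormal_apply] at h2
    exact mul_inv_eq_iff_eq_mul.mp h2
  -- orbits of `K`
  letI : Fintype K := Fintype.ofFinite _
  have horbit : ∀ q : G ⧸ (T : Subgroup G), MulAction.stabilizer K q ≠ ⊤ →
      ∏ c : K ⧸ MulAction.stabilizer K q, F (c.out • q) = 1 := by
    intro q hq
    obtain ⟨J0, hJ0, hJ0n, hJ0i⟩ := exists_normal_index_p hK _ hq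
    set J1 := MulAction.stabilizer K q with hJ1
    let h : K ⧸ J1 → V := fun c => f (c.out • q)
    have hh : ∀ (k : K) (c : K ⧸ J1), h (k • c) = MulAut.conjNormal (k : G) (h c) := by
      intro k c
      obtain ⟨t, ht⟩ := QuotientGroup.mk_out_eq_mul J1 (k * c.out)
      rw [← smul_eq_mul, ← MulAction.Quotient.smul_mk, QuotientGroup.out_eq', smul_eq_mul] at ht
      show f ((k • c).out • q) = MulAut.conjNormal (k : G) (f (c.out • q))
      rw [ht, mul_smul, mul_smul, show (t : K) • q = q from t.2]
      exact hf (k : G) (c.out • q)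
    let φ : K ⧸ J1 → K ⧸ J0 := Subgroup.quotientMapOfLE hJ0
    have hφ : ∀ (k : K) (c : K ⧸ J1), φ (k • c) = k • φ c := by
      intro k c
      induction c using QuotientGroup.induction_on with
      | H x => rfl
    let W : K ⧸ J0 → V := fun d => ∏ c with φ c = d, h c
    have hW : ∀ (k : K) (d : K ⧸ J0), W (k • d) = MulAut.conjNormal (k : G) (W d) := by
      intro k d
      rw [map_prod]
      refine (Finset.prod_equiv (MulAction.toPerm k) (fun c => ?_) (fun c _ => (hh k c).symm)).symm
      simp only [Finset.mem_filter, Finset.mem_univ, true_and, MulAction.toPerm_apply, hφ]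
      exact ⟨fun h => h ▸ rfl, fun h => smul_left_cancel k h⟩
    set d0 : K ⧸ J0 := ((1 : K) : K ⧸ J0) with hd0
    set w : V := W d0 with hw
    obtain ⟨a, ha, c, hc, hac, hacw, hce⟩ := hstep J0 hJ0n hJ0i w w.2 fun j hj => by
      have h1 := hW j d0
      rw [show j • d0 = d0 from QuotientGroup.eq.mpr (by simpa using J0.inv_mem hj), ← hw] at h1
      have h2 := congrArg Subtype.val h1
      rw [MulAut.conjNormal_apply] at h2
      exact (eq_mul_inv_iff_mul_eq.mp h2).symm
    have hWa : ∀ i : ℕ, ((W (a ^ i • d0) : V) : G) = c ^ i * w := by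
      intro i
      induction i with
      | zero => simp [hw]
      | succ i ih =>
        rw [pow_succ', mul_smul, hW, MulAut.conjNormal_apply, ih,
          show (a : G) * (c ^ i * w) * (a : G)⁻¹ = ((a : G) * c ^ i) * w * (a : G)⁻¹ by group,
          (hac.pow_right i).eq, mul_assoc (c ^ i) (a : G) w, mul_assoc (c ^ i), hacw, pow_succ, mul_assoc]
    have hinj : Function.Injective fun i : Fin p => a ^ (i : ℕ) • d0 := by
      have hord : orderOf (QuotientGroup.mk' J0 a) = p := by
        refine orderOf_eq_prime ?_ fun h1 => ha ((QuotientGroup.eq_one_iff a).mp h1)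
        rw [← hJ0i, Subgroup.index]
        exact pow_card_eq_one'
      intro i j hij
      have hij' : (QuotientGroup.mk' J0 a) ^ (i : ℕ) = (QuotientGroup.mk' J0 a) ^ (j : ℕ) := by
        rw [← map_pow, ← map_pow]
        have h1 : ((a ^ (i : ℕ) * 1 : K) : K ⧸ J0) = ((a ^ (j : ℕ) * 1 : K) : K ⧸ J0) := hij
        simpa using h1
      exact Fin.ext (pow_injOn_Iio_orderOf (by rw [hord]; exact i.2) (by rw [hord]; exact j.2) hij')
    have hbij : Function.Bijective fun i : Fin p => a ^ (i : ℕ) • d0 :=
      (Nat.bijective_iff_injective_and_card _).mpr ⟨hinj, by rw [Nat.card_fin, ← hJ0i]; rfl⟩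
    letI : Fintype (K ⧸ J0) := Fintype.ofFinite _
    let cV : V := ⟨c, hc⟩
    have hprod : ∏ d : K ⧸ J0, W d = w ^ p * cV ^ p.choose 2 := by
      rw [← Fintype.prod_bijective _ hbij (fun i => W (a ^ (i : ℕ) • d0)) W fun i => rfl]
      have : ∀ i : Fin p, W (a ^ (i : ℕ) • d0) = cV ^ (i : ℕ) * w := fun i => Subtype.ext (hWa i)
      simp_rw [this]
      rw [Finset.prod_mul_distrib, Finset.prod_const, Finset.card_univ, Fintype.card_fin,
        Finset.prod_pow_eq_pow_sum, Fin.sum_univ_eq_sum_range (fun i => i), Finset.sum_range_id,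
        Nat.choose_two_right, mul_comm]
    show ∏ c : K ⧸ J1, π (h c ^ e) = 1
    rw [← map_prod, Finset.prod_pow, ← Finset.prod_fiberwise (g := φ) (f := h)]
    show π ((∏ d : K ⧸ J0, W d) ^ e) = 1
    rw [hprod]
    exact (QuotientGroup.eq_one_iff _).mpr hce
  -- fibres over the orbits
  let Q := MulAction.orbitRel.Quotient K (G ⧸ (T : Subgroup G))
  letI : Fintype Q := Fintype.ofFinite _
  let F' : G ⧸ (T : Subgroup G) → V ⧸ Zc :=
    fun q => if q ∈ MulAction.fixedPoints K (G ⧸ (T : Subgroup G)) then F q else 1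
  have hsplit : ∏ q, F q = ∏ q, F' q := by
    rw [← Finset.prod_fiberwise (g := fun q => (Quotient.mk'' q : Q)) (f := F),
      ← Finset.prod_fiberwise (g := fun q => (Quotient.mk'' q : Q)) (f := F')]
    refine Finset.prod_congr rfl fun o _ => ?_
    induction o using Quotient.inductionOn' with
    | h q =>
      by_cases hq : MulAction.stabilizer K q = ⊤
      · refine Finset.prod_congr rfl fun r hr => ?_
        have hr' : r ∈ MulAction.orbit K q := by
          simp only [Finset.mem_filter, Finset.mem_univ, true_and] at hr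
          exact (MulAction.orbitRel_apply).mp (Quotient.eq''.mp hr)
        obtain ⟨k, rfl⟩ := hr'
        have hqf : k • q = q := (hq ▸ Subgroup.mem_top k : k ∈ MulAction.stabilizer K q)
        show F (k • q) = if _ then _ else _
        simp only [hqf]; rw [if_pos (show q ∈ MulAction.fixedPoints K (G ⧸ (T : Subgroup G)) from
          fun k' => (hq ▸ Subgroup.mem_top k' : k' ∈ MulAction.stabilizer K q))]
      · have hne : ∀ r ∈ MulAction.orbit K q, r ∉ MulAction.fixedPoints K (G ⧸ (T : Subgroup G)) := by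
          rintro _ ⟨k, rfl⟩ hr
          refine hq (eq_top_iff.mpr fun k' _ => ?_)
          show k' • q = q
          have h1 : k⁻¹ • (k • q) = k • q := hr k⁻¹
          rw [inv_smul_smul] at h1
          rw [h1]
          exact hr k'
        trans (1 : V ⧸ Zc)
        · rw [← horbit q hq]
          refine (Finset.prod_bij (fun c _ => c.out • q) (fun c _ => ?_) ?_ ?_ (fun c _ => rfl)).symm
          · simp only [Finset.mem_filter, Finset.mem_univ, true_and]
            exact Quotient.eq''.mpr (MulAction.orbitRel_apply.mpr ⟨c.out, rfl⟩)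
          · intro c _ c' _ hcc
            rw [← QuotientGroup.out_eq' c, ← QuotientGroup.out_eq' c']
            refine QuotientGroup.eq.mpr ?_
            show (c.out⁻¹ * c'.out) • q = q
            rw [mul_smul, ← hcc, inv_smul_smul]
          · intro r hr
            simp only [Finset.mem_filter, Finset.mem_univ, true_and] at hr
            obtain ⟨k, rfl⟩ := (MulAction.orbitRel_apply).mp (Quotient.eq''.mp hr)
            refine ⟨(k : K ⧸ MulAction.stabilizer K q), Finset.mem_univ _, ?_⟩
            obtain ⟨t, ht⟩ := QuotientGroup.mk_out_eq_mul (MulAction.stabilizer K q) k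
            rw [ht, mul_smul, show (t : K) • q = q from t.2]
        · refine (Finset.prod_eq_one fun r hr => if_neg (hne r ?_)).symm
          simp only [Finset.mem_filter, Finset.mem_univ, true_and] at hr
          exact (MulAction.orbitRel_apply).mp (Quotient.eq''.mp hr)
  have hfixval : ∀ q ∈ MulAction.fixedPoints K (G ⧸ (T : Subgroup G)), F q = π (⟨y, hyV⟩ ^ e) := by
    intro q hq
    have hg : Commute q.out (y ^ e) := hfix q.out fun k hk => by
      have h1 : (⟨k, hk⟩ : K) • q = q := hq ⟨k, hk⟩
      conv_rhs at h1 => rw [← QuotientGroup.out_eq' q]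
      conv_lhs at h1 => rw [← QuotientGroup.out_eq' q]
      have h2 := QuotientGroup.eq.mp h1.symm
      show q.out⁻¹ * k * q.out ∈ (T : Subgroup G)
      simpa [mul_assoc] using h2
    refine congrArg π (Subtype.ext ?_)
    rw [Subgroup.coe_pow, Subgroup.coe_pow, conj_pow, hg.eq, mul_inv_cancel_right]
  have hprod : ∏ q, F q =
      π (⟨y, hyV⟩ ^ e) ^ Nat.card (MulAction.fixedPoints K (G ⧸ (T : Subgroup G))) := by
    rw [hsplit, Finset.prod_ite, Finset.prod_const_one, mul_one, Finset.prod_congr rfl fun q hq =>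
      hfixval q (Finset.mem_filter.mp hq).2, Finset.prod_const, Nat.card_eq_fintype_card]
    congr 1
    rw [Fintype.card_subtype]
  set k := Nat.card (MulAction.fixedPoints K (G ⧸ (T : Subgroup G))) with hk
  have hcop : k.Coprime p := by
    refine ((Fact.out : p.Prime).coprime_iff_not_dvd.mpr fun hd => T.not_dvd_index ?_).symm
    have := hK.card_modEq_card_fixedPoints (G ⧸ (T : Subgroup G))
    rw [← hk] at this
    rw [Subgroup.index]
    exact (Nat.ModEq.dvd_iff this dvd_rfl).mpr hd
  have hNe : π (N ^ e) = ∏ q, F q := by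
    rw [← Finset.prod_pow, map_prod]
  have h1 : π (N ^ e) = 1 := (QuotientGroup.eq_one_iff _).mpr hN
  rw [hNe, hprod, ← map_pow] at h1
  have h2 : (y ^ e) ^ k ∈ center G := by
    simpa using Subgroup.mem_subgroupOf.mp ((QuotientGroup.eq_one_iff ((⟨y, hyV⟩ ^ e : V) ^ k)).mp h1)
  obtain ⟨i, hi⟩ := T.isPGroup' ⟨y ^ e, pow_mem hyT e⟩
  obtain ⟨m, hm⟩ := exists_pow_eq_self_of_coprime (x := y ^ e) (n := k)
    (Nat.Coprime.coprime_dvd_right (orderOf_dvd_of_pow_eq_one (congrArg Subtype.val hi))
      (hcop.pow_right i))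
  rw [← hm]
  exact pow_mem h2 m

end Cfsg.Agent.H85
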