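import Cfsg.Agent.H59.ThompsonMain
import Cfsg.Agent.Thompson.ZJ

/-!
A strengthened Frobenius criterion: if the `p'`-elements normalizing a nontrivial characteristic subgroup
of a Sylow `p`-subgroup centralize it (and `p` is odd or `S₄` is not involved), there is a normal
`p`-complement.
-/

set_option autoImplicit false
set_option linter.style.haveILetI false

namespace Cfsg.Agent.H85

open Subgroup

universe u

variable {G : Type u} [Group G] {p : ℕ}

/-- The `p'`-elements normalizing a nontrivial characteristic subgroup of `T` centralize it. -/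
def CharHyp (p : ℕ) (T : Subgroup G) : Prop :=
  ∀ K : Subgroup ↥T, K.Characteristic → K ≠ ⊥ →
    ∀ g ∈ normalizer (K.map T.subtype : Set G), (orderOf g).Coprime p →
      g ∈ centralizer (K.map T.subtype : Set G)

theorem characteristic_thompsonA (X : Type u) [Group X] : (thompsonSubgroupA X).Characteristic :=
  characteristic_iff_map_eq.mpr fun φ => H59.map_thompsonA φ

theorem characteristic_comap_of_surjective {A : Type*} [Group A] {B : Type*} [Group B] (π : A →* B)
    (hπ : Function.Surjective π) [π.ker.Characteristic] {K : Subgroup B} (hK : K.Characteristic) :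
    (K.comap π).Characteristic := by
  refine characteristic_iff_le_comap.mpr fun φ x hx => ?_
  let e : A ⧸ π.ker ≃* B := QuotientGroup.quotientKerEquivOfSurjective π hπ
  let ψ : B ≃* B := e.symm.trans ((QuotientGroup.congr π.ker π.ker φ
    (characteristic_iff_map_eq.mp inferInstance φ)).trans e)
  have he : ∀ a : A, e (QuotientGroup.mk a) = π a := fun a => rfl
  have hψ : ψ (π x) = π (φ x) := by
    rw [← he x]
    simp only [ψ, MulEquiv.trans_apply, MulEquiv.symm_apply_apply]
    exact he (φ x)
  show π (φ x) ∈ K
  rw [← hψ]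
  exact characteristic_iff_le_comap.mp hK ψ hx

variable [Finite G] [Fact p.Prime]

/-- If every element of order prime to `p` lies in a normal subgroup with a normal `p`-complement, the
group has one. -/
theorem complement_of_coprime_mem {N : Subgroup G} (hN : HasNormalPComplement p N)
    (h : ∀ g : G, (orderOf g).Coprime p → g ∈ N) : HasNormalPComplement p G := by
  rw [Fusion.hasNormalPComplement_iff_pResidual] at hN ⊢
  intro hd
  have hle : pResidual p G ≤ (pResidual p N).map N.subtype := Fusion.pResidual_le.mpr fun g hg =>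
    ⟨⟨g, h g hg⟩, Fusion.mem_pResidual (by rwa [← orderOf_coe]), rfl⟩
  exact hN (hd.trans ((card_dvd_of_le hle).trans (card_map_of_injective N.subtype_injective).dvd))

/-- A group with a Sylow `p`-subgroup in its centre has a normal `p`-complement. -/
theorem complement_of_central_sylow (P : Sylow p G) (h : (P : Subgroup G) ≤ center G) :
    HasNormalPComplement p G :=
  Fusion.hasNormalPComplement_of_normalizer_le_centralizer P fun x _ =>
    mem_centralizer_iff.mpr fun y hy => (mem_center_iff.mp (h hy) x).symm

/-- The normalizer of the Thompson subgroup has a normal `p`-complement. -/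
theorem complement_normalizer_thompson (T : Sylow p G)
    (hT : ∀ g ∈ normalizer (thompsonSubgroupAOf (T : Subgroup G) : Set G), (orderOf g).Coprime p →
      g ∈ centralizer (thompsonSubgroupAOf (T : Subgroup G) : Set G)) :
    HasNormalPComplement p ↥(normalizer (thompsonSubgroupAOf (T : Subgroup G) : Set G)) := by
  rcases eq_or_ne (T : Subgroup G) ⊥ with hb | hb
  · refine Fusion.hasNormalPComplement_of_not_dvd fun hd => T.ne_bot_of_dvd_card ?_ hb
    exact hd.trans (card_subgroup_dvd_card _)
  set J := thompsonSubgroupAOf (T : Subgroup G) with hJ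
  set N := normalizer (J : Set G) with hN
  have hTN : (T : Subgroup G) ≤ N :=
    le_normalizer.trans (H59.normalizer_le_normalizer_thompsonAOf _)
  set C : Subgroup N := (centralizer (J : Set G)).subgroupOf N with hC
  haveI : C.Normal := ⟨fun c hc g => by
    refine mem_centralizer_iff.mpr fun y hy => ?_
    have hy' : (g : G)⁻¹ * y * g ∈ J := by
      simpa using (mem_normalizer_iff.mp (inv_mem g.2) y).mp hy
    have h1 := mem_centralizer_iff.mp hc _ hy'
    show y * ((g : G) * (c : G) * (g : G)⁻¹) = (g : G) * (c : G) * (g : G)⁻¹ * y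
    calc y * ((g : G) * (c : G) * (g : G)⁻¹)
        = (g : G) * ((g : G)⁻¹ * y * g * c) * (g : G)⁻¹ := by group
      _ = (g : G) * ((c : G) * ((g : G)⁻¹ * y * g)) * (g : G)⁻¹ := by
          rw [show ((g : G)⁻¹ * y * g) * (c : G) = (c : G) * ((g : G)⁻¹ * y * g) from h1]
      _ = (g : G) * (c : G) * (g : G)⁻¹ * y := by group⟩
  obtain ⟨Q, hQ⟩ := Thompson.exists_sylow_inf_normal (T.subtype hTN) C
  have hQc : (Q : Subgroup C) ≤ center C := by
    intro x hx
    obtain ⟨hxT, -⟩ : (x : N) ∈ ((T.subtype hTN : Sylow p N) : Subgroup N) ⊓ C :=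
      hQ ▸ mem_map_of_mem C.subtype hx
    have hxJ : ((x : N) : G) ∈ J := by
      obtain ⟨A, hA⟩ := Thompson.maxIn_nonempty 0 (T : Subgroup G)
      have hc : ∀ a ∈ J, a * ((x : N) : G) = ((x : N) : G) * a := mem_centralizer_iff.mp x.2
      rw [hJ, Thompson.thompsonSubgroupAOf_eq] at hc ⊢
      refine Thompson.le_jay hA (Thompson.mem_of_mem_centralizer hA (mem_subgroupOf.mp hxT) ?_ ?_)
      · exact mem_centralizer_iff.mpr fun a ha => hc a (Thompson.le_jay hA ha)
      · simp
    refine mem_center_iff.mpr fun y => Subtype.ext (Subtype.ext ?_)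
    exact (mem_centralizer_iff.mp y.2 _ hxJ).symm
  refine complement_of_coprime_mem (complement_of_central_sylow Q hQc) fun g hg => ?_
  exact hT g g.2 (by rwa [orderOf_coe])

omit [Finite G] [Fact p.Prime] in
theorem CharHyp.thompson [Finite G] {T : Subgroup G} (hT : CharHyp p T) (g : G)
    (hg : g ∈ normalizer (thompsonSubgroupAOf T : Set G)) (hgo : (orderOf g).Coprime p) :
    g ∈ centralizer (thompsonSubgroupAOf T : Set G) := by
  rcases eq_or_ne T ⊥ with hb | hb
  · subst hb
    refine mem_centralizer_iff.mpr fun y hy => ?_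
    rw [mem_bot.mp (H59.thompsonAOf_le _ hy), one_mul, mul_one]
  · exact hT _ (characteristic_thompsonA _)
      (fun h => H59.thompsonAOf_ne_bot hb (by rw [thompsonSubgroupAOf, h, Subgroup.map_bot])) g hg hgo

omit [Finite G] [Fact p.Prime] in
theorem CharHyp.of_le {T M : Subgroup G} (h : CharHyp p T) (hTM : T ≤ M) :
    CharHyp p (T.subgroupOf M) := by
  intro K hK hK1 g hg hgo
  let e : ↥(T.subgroupOf M) ≃* ↥T := subgroupOfEquivOfLe hTM
  have hmap : (K.map e.toMonoidHom).map T.subtype =
      (K.map (T.subgroupOf M).subtype).map M.subtype := by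
    rw [Subgroup.map_map, Subgroup.map_map]
    rfl
  have hchar : (K.map e.toMonoidHom).Characteristic := by
    refine characteristic_iff_le_comap.mpr fun φ => ?_
    rintro _ ⟨a, ha, rfl⟩
    refine ⟨(e.trans (φ.trans e.symm)) a, characteristic_iff_le_comap.mp hK _ ha, ?_⟩
    simp
  have hne : K.map e.toMonoidHom ≠ ⊥ := fun h1 => hK1
    ((map_eq_bot_iff_of_injective _ e.injective).mp h1)
  have hg' : (g : G) ∈ normalizer (((K.map (T.subgroupOf M).subtype).map M.subtype : Subgroup G) :
      Set G) := le_normalizer_map M.subtype (mem_map_of_mem M.subtype hg)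
  have h2 := h _ hchar hne (g : G) (hmap ▸ hg') (by rwa [orderOf_coe])
  rw [hmap] at h2
  exact mem_centralizer_iff.mpr fun y hy =>
    Subtype.ext (mem_centralizer_iff.mp h2 _ (mem_map_of_mem M.subtype hy))

theorem CharHyp.quotient {T Z : Subgroup G} [Z.Normal] (h : CharHyp p T) (hZT : Z ≤ T)
    (hZc : (Z.subgroupOf T).Characteristic) : CharHyp p (T.map (QuotientGroup.mk' Z)) := by
  generalize hf : QuotientGroup.mk' Z = f
  intro Kb hKb hKb1 x hx hxo
  set π := f.subgroupMap T with hπ
  have hker : π.ker = Z.subgroupOf T := by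
    ext t
    rw [MonoidHom.mem_ker, mem_subgroupOf, Subtype.ext_iff]
    subst hf
    exact QuotientGroup.eq_one_iff (t : G)
  haveI : π.ker.Characteristic := hker ▸ hZc
  set K := Kb.comap π with hK
  have hKc : K.Characteristic :=
    characteristic_comap_of_surjective π (f.subgroupMap_surjective T) hKb
  have hK1 : K ≠ ⊥ := fun h1 => hKb1 (by
    rw [← map_comap_eq_self_of_surjective (f.subgroupMap_surjective T) Kb, ← hπ, ← hK, h1, Subgroup.map_bot])
  have hmem : ∀ y, f y ∈ Kb.map (T.map f).subtype → y ∈ K.map T.subtype := by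
    rintro y ⟨k, hk, hky⟩
    obtain ⟨t, ht⟩ := f.subgroupMap_surjective T k
    have hz : y⁻¹ * t ∈ Z := by
      have hyt : f y = f t := by rw [← hky, ← ht]; rfl
      subst hf
      exact QuotientGroup.eq.mp hyt
    have hy : y ∈ T := by
      have := mul_mem t.2 (inv_mem (hZT hz))
      simpa [mul_assoc] using this
    refine ⟨⟨y, hy⟩, show π ⟨y, hy⟩ ∈ Kb from ?_, rfl⟩
    rw [show π ⟨y, hy⟩ = k from Subtype.ext hky.symm]
    exact hk
  have hmem' : ∀ y ∈ K.map T.subtype, f y ∈ Kb.map (T.map f).subtype := by
    rintro _ ⟨t, ht, rfl⟩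
    exact ⟨π t, ht, rfl⟩
  obtain ⟨g, rfl⟩ : ∃ g, f g = x := hf ▸ QuotientGroup.mk'_surjective Z x
  obtain ⟨k, hk⟩ := Fusion.exists_pow_coprime (p := p) g
  obtain ⟨m, hm⟩ := exists_pow_eq_self_of_coprime (x := f g) (n := p ^ k)
    (Nat.Coprime.pow_left k hxo.symm)
  have hn : g ^ p ^ k ∈ normalizer (K.map T.subtype : Set G) := by
    have hp : f (g ^ p ^ k) ∈ normalizer (Kb.map (T.map f).subtype : Set (G ⧸ Z)) := by
      rw [map_pow]; exact pow_mem hx _
    refine mem_normalizer_iff.mpr fun y => ⟨fun hy => hmem _ ?_, fun hy => hmem _ ?_⟩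
    · rw [map_mul, map_mul, map_inv]
      exact (mem_normalizer_iff.mp hp _).mp (hmem' y hy)
    · refine (mem_normalizer_iff.mp hp _).mpr ?_
      rw [← map_inv, ← map_mul, ← map_mul]
      exact hmem' _ hy
  have hc := h K hKc hK1 _ hn hk
  have hc' : f (g ^ p ^ k) ∈ centralizer (Kb.map (T.map f).subtype : Set (G ⧸ Z)) := by
    rintro _ ⟨kb, hkb, rfl⟩
    obtain ⟨t, rfl⟩ := f.subgroupMap_surjective T kb
    show f t * f (g ^ p ^ k) = f (g ^ p ^ k) * f t
    rw [← map_mul, ← map_mul]
    exact congrArg f (mem_centralizer_iff.mp hc _ ⟨t, hkb, rfl⟩)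
  rw [map_pow] at hc'
  rw [← hm]
  exact pow_mem hc' m

/-- The criterion. -/
theorem complement_of_charHyp : ∀ n : ℕ, ∀ (G : Type u) [Group G] [Finite G], Nat.card G ≤ n →
    (p ≠ 2 ∨ ¬ Cfsg.Involves (Equiv.Perm (Fin 4)) G) → ∀ T : Sylow p G,
      CharHyp p (T : Subgroup G) → HasNormalPComplement p G := by
  intro n
  induction n with
  | zero => intro G _ _ hn; exact absurd hn (by have := Nat.card_pos (α := G); omega)
  | succ n ih =>
    intro G _ _ hn hfree T hT
    rcases eq_or_ne (T : Subgroup G) ⊥ with hb | hb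
    · exact Fusion.hasNormalPComplement_of_not_dvd fun hd => T.ne_bot_of_dvd_card hd hb
    set Z := (T : Subgroup G) ⊓ centralizer ((T : Subgroup G) : Set G) with hZ
    refine H59.complement_aux _ G le_rfl hfree T ⟨?_, complement_normalizer_thompson T hT.thompson⟩
    rw [← hZ]
    set C := centralizer (Z : Set G) with hC
    have hTC : (T : Subgroup G) ≤ C := fun t ht => mem_centralizer_iff.mpr fun z hz =>
      (mem_centralizer_iff.mp hz.2 t ht).symm
    rcases eq_or_ne C ⊤ with hCt | hCt
    swap
    · have hlt : Nat.card C ≤ n := by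
        have h1 := C.card_mul_index
        have h2 : 1 < C.index := one_lt_index_of_ne_top hCt
        have h3 := Nat.card_pos (α := C)
        nlinarith
      refine ih C hlt (hfree.imp id fun h hi => h
        (H59.involves_of_surjective (MonoidHom.id C) Function.surjective_id hi)) (T.subtype hTC) ?_
      rw [Sylow.coe_subtype]
      exact hT.of_le hTC
    · have hZn : Z.Normal := ⟨fun z hz g => by
        rw [← mem_centralizer_iff.mp (hCt ▸ mem_top g : g ∈ C) z hz, mul_inv_cancel_right]
        exact hz⟩
      have hq : Nat.card (G ⧸ Z) ≤ n := by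
        have h1 := card_eq_card_quotient_mul_card_subgroup Z
        have h2 : 1 < Nat.card Z := one_lt_card_iff_ne_bot Z |>.mpr (H59.center_ne_bot T.isPGroup' hb)
        have h3 := Nat.card_pos (α := G ⧸ Z)
        nlinarith
      have hchar : (Z.subgroupOf (T : Subgroup G)).Characteristic := by
        have : Z.subgroupOf (T : Subgroup G) = center ↥(T : Subgroup G) := by
          ext t
          rw [mem_subgroupOf, mem_center_iff]
          exact ⟨fun ht y => Subtype.ext (mem_centralizer_iff.mp ht.2 y y.2),
            fun ht => ⟨t.2, mem_centralizer_iff.mpr fun y hy => congrArg Subtype.val (ht ⟨y, hy⟩)⟩⟩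
        rw [this]
        infer_instance
      have hQ : HasNormalPComplement p (G ⧸ Z) :=
        ih _ hq (hfree.imp id fun h hi => h (H59.involves_of_surjective
          ((QuotientGroup.mk' Z).comp (⊤ : Subgroup G).subtype)
          (fun q => by obtain ⟨g, rfl⟩ := QuotientGroup.mk'_surjective Z q; exact ⟨⟨g, trivial⟩, rfl⟩) hi))
          (T.mapSurjective (QuotientGroup.mk'_surjective Z))
          (by rw [Sylow.coe_mapSurjective]; exact hT.quotient inf_le_left hchar)
      suffices hG : HasNormalPComplement p G from Fusion.hasNormalPComplement_subgroup hG C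
      set f := QuotientGroup.mk' Z with hf
      set K0 := (pResidual p (G ⧸ Z)).comap f with hK0
      have hidx : ¬ p ∣ (Z.subgroupOf K0).index := by
        have h1 : Z.relIndex K0 = Nat.card (pResidual p (G ⧸ Z)) := by
          have := relIndex_ker f (K := K0)
          rwa [hf, QuotientGroup.ker_mk', ← hf, hK0,
            map_comap_eq_self_of_surjective (QuotientGroup.mk'_surjective Z)] at this
        rw [← relIndex, h1]
        exact Fusion.hasNormalPComplement_iff_pResidual.mp hQ
      refine complement_of_coprime_mem (N := K0) (complement_of_central_sylow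
        (((T.isPGroup'.to_le inf_le_left).comap_subtype (K := K0)).toSylow hidx) ?_) fun g hg => ?_
      · intro x hx
        refine mem_center_iff.mpr fun y => Subtype.ext ?_
        exact (mem_centralizer_iff.mp (hCt ▸ mem_top (y : G) : (y : G) ∈ C) x hx).symm
      · exact Fusion.mem_pResidual (Nat.Coprime.coprime_dvd_left (orderOf_map_dvd f g) hg)

end Cfsg.Agent.H85
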