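import Cfsg.Agent.H85.FusionModels
import Cfsg.Agent.H85.StrongFrobenius
import Cfsg.Agent.H91.CentSys
import Cfsg.Prelude.Def_FusionReduction

/-!
The fusion forms of the strengthened Frobenius criterion and of Thompson's normal `p`-complement theorem.
-/

set_option autoImplicit false
set_option linter.style.haveILetI false
set_option linter.unusedSectionVars false

namespace Cfsg.Agent.H85

open Cfsg Cfsg.FusionSystem Cfsg.Agent.FusionSys

universe u

theorem characteristic_subgroupOf_map {G : Type*} [Group G] {A B : Subgroup G} (h : A = B)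
    (K : Subgroup A) (hK : K.Characteristic) : ((K.map A.subtype).subgroupOf B).Characteristic := by
  subst h
  rwa [Subgroup.subgroupOf, Subgroup.comap_map_eq_self_of_injective A.subtype_injective]

theorem normalizer_le_normalizer_map {G : Type*} [Group G] (A : Subgroup G) (K : Subgroup A)
    (hK : K.Characteristic) :
    Subgroup.normalizer (A : Set G) ≤ Subgroup.normalizer (K.map A.subtype : Set G) := by
  have key : ∀ x ∈ Subgroup.normalizer (A : Set G), ∀ y ∈ K.map A.subtype,
      x * y * x⁻¹ ∈ K.map A.subtype := by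
    rintro x hx _ ⟨k, hk, rfl⟩
    exact ⟨_, Subgroup.characteristic_iff_le_comap.1 hK
      (Subgroup.normalizerMonoidHom A ⟨x, hx⟩) hk, rfl⟩
  intro x hx
  refine Subgroup.mem_normalizer_iff.2 fun y => ⟨key x hx y, fun h => ?_⟩
  have h1 := key x⁻¹ (inv_mem hx) _ h
  simpa [mul_assoc] using h1

theorem hasNormalPComplement_of_forall_eq_one {G : Type*} [Group G] [Finite G] {p : ℕ}
    [Fact p.Prime] (h : ∀ g : G, (orderOf g).Coprime p → g = 1) : HasNormalPComplement p G :=
  complement_of_coprime_mem (N := ⊥)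
    (Fusion.hasNormalPComplement_of_not_dvd (by simpa using (Fact.out : p.Prime).ne_one))
    fun g hg => Subgroup.mem_bot.2 (h g hg)

variable {Ω : Type u} [Group Ω] {S : Subgroup Ω} [Finite S] {p : ℕ} [Fact p.Prime] {F : FusionSystem S}

/-- A model with a normal `p`-complement is a `p`-group. -/
theorem isPGroup_model_of_complement {R : Subgroup Ω} {N : FusionSystem (normalizerIn S R)}
    {L : Type u} [Group L] [Finite L] {ι : ↥(normalizerIn S R) →* L} (hL : N.IsModel p L ι)
    (h : HasNormalPComplement p L) : IsPGroup p L := by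
  refine (H61.isPGroup_of_forall_coprime (K := (⊤ : Subgroup L)) fun x _ hx => ?_).of_equiv
    Subgroup.topEquiv
  obtain ⟨j, hj⟩ := Cores.pCore_isPGroup (p := p) ⟨x, hL.2.2.2 (Subgroup.mem_centralizer_iff.2
    fun y hy => (Fusion.commute_of_hasNormalPComplement h Cores.pCore_isPGroup hx hy).symm)⟩
  exact orderOf_eq_one_iff.1 (Nat.eq_one_of_dvd_coprimes (hx.pow_right j) dvd_rfl
    (orderOf_dvd_of_pow_eq_one (congrArg Subtype.val hj)))

/-- Characteristic subgroups of `N_S(R)` for a `R` with maximal normalizer have `p`-groups of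
automorphisms, given this for those of `S`. -/
theorem isPGroup_autGroup_of_char (hS : IsPGroup p S) {R : Subgroup Ω}
    (hmax : ∀ W : Subgroup Ω, W ≤ S → Nat.card (normalizerIn S R) < Nat.card (normalizerIn S W) →
      IsPGroup p (F.autGroup W))
    (K : Subgroup ↥(normalizerIn S R)) (hK : K.Characteristic)
    (htop : normalizerIn S R = S → IsPGroup p (F.autGroup (K.map (normalizerIn S R).subtype))) :
    IsPGroup p (F.autGroup (K.map (normalizerIn S R).subtype)) := by
  rcases eq_or_ne (normalizerIn S R) S with h | h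
  · exact htop h
  · refine hmax _ ((Subgroup.map_subtype_le _).trans normalizerIn_le) ?_
    haveI := finite_of_le (S := S) (P := normalizerIn S (K.map (normalizerIn S R).subtype))
      normalizerIn_le
    refine (card_lt_card_normalizerIn hS (lt_of_le_of_ne normalizerIn_le h)).trans_le
      (Subgroup.card_le_of_le ?_)
    exact inf_le_inf_left _ (normalizer_le_normalizer_map _ K hK)

/-- The strengthened Frobenius criterion. -/
theorem inner_of_characteristic (hS : IsPGroup p S) (hF : F.IsSaturated p)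
    (hp : p ≠ 2 ∨ F.IsSectionFree p (Equiv.Perm (Fin 4)))
    (h : ∀ Q : Subgroup Ω, Q ≤ S → Q ≠ ⊥ → (Q.subgroupOf S).Characteristic →
      IsPGroup p (F.autGroup Q)) :
    ∀ P : Subgroup Ω, F.Hom P = (innerFusionSystem S).Hom P := by
  by_contra hne
  obtain ⟨R, hR, hc, hbad, hmax⟩ := exists_max_bad hS hF hne
  obtain ⟨N, hN, L, _, ι, hL⟩ := exists_local_model hS hF hR hc
  haveI := hL.1
  refine not_isPGroup_model hS hR hN hL hbad (isPGroup_model_of_complement hL ?_)
  obtain ⟨T, hT⟩ := hL.2.2.1
  refine complement_of_charHyp _ L le_rfl (hp.imp id fun hf => hf R hR hc N hN L ι hL) T ?_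
  rw [hT]
  intro K hK hK1 g hg hgo
  set K0 := K.comap ι.rangeRestrict with hK0
  haveI : ι.rangeRestrict.ker.Characteristic := by
    rw [MonoidHom.ker_rangeRestrict, (MonoidHom.ker_eq_bot_iff ι).2 hL.2.1.1]
    infer_instance
  have hKeq : K0.map ι = K.map ι.range.subtype := by
    conv_rhs => rw [← Subgroup.map_comap_eq_self_of_surjective ι.rangeRestrict_surjective K]
    rw [Subgroup.map_map]
    rfl
  have hK0c : K0.Characteristic :=
    characteristic_comap_of_surjective _ ι.rangeRestrict_surjective hK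
  rw [← hKeq] at hg ⊢
  refine mem_centralizer_of_isPGroup_autGroup hN hL K0
    (isPGroup_autGroup_of_char hS hmax K0 hK0c fun htop => h _
      ((Subgroup.map_subtype_le _).trans normalizerIn_le) (fun hb => hK1 ?_)
      (characteristic_subgroupOf_map htop K0 hK0c)) hg hgo
  rw [← Subgroup.map_comap_eq_self_of_surjective ι.rangeRestrict_surjective K, ← hK0,
    (Subgroup.map_eq_bot_iff_of_injective _ (normalizerIn S R).subtype_injective).1 hb,
    Subgroup.map_bot]

/-- Thompson's normal `p`-complement theorem. -/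
theorem inner_of_center_thompson (hS : IsPGroup p S) (hF : F.IsSaturated p)
    (hp : p ≠ 2 ∨ F.IsSectionFree p (Equiv.Perm (Fin 4)))
    (hC : ∀ C : FusionSystem (centralizerIn S (S ⊓ Subgroup.centralizer (S : Set Ω))),
      F.IsCentralizerSystem (S ⊓ Subgroup.centralizer (S : Set Ω)) C →
      ∀ P : Subgroup Ω, C.Hom P =
        (innerFusionSystem (centralizerIn S (S ⊓ Subgroup.centralizer (S : Set Ω)))).Hom P)
    (hNJ : ∀ E : FusionSystem (normalizerIn S (thompsonSubgroupAOf S)),
      F.IsNormalizerSystem (thompsonSubgroupAOf S) E →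
      ∀ P : Subgroup Ω, E.Hom P =
        (innerFusionSystem (normalizerIn S (thompsonSubgroupAOf S))).Hom P) :
    ∀ P : Subgroup Ω, F.Hom P = (innerFusionSystem S).Hom P := by
  by_contra hne
  obtain ⟨R, hR, hc, hbad, hmax⟩ := exists_max_bad hS hF hne
  obtain ⟨N, hN, L, _, ι, hL⟩ := exists_local_model hS hF hR hc
  haveI := hL.1
  refine not_isPGroup_model hS hR hN hL hbad (isPGroup_model_of_complement hL ?_)
  obtain ⟨T, hT⟩ := hL.2.2.1
  haveI : Finite ↥(normalizerIn S R) := finite_of_le normalizerIn_le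
  set Z0 := S ⊓ Subgroup.centralizer (S : Set Ω) with hZ0
  set J0 := thompsonSubgroupA ↥(normalizerIn S R) with hJ0
  have hJmap : thompsonSubgroupAOf (T : Subgroup L) = J0.map ι := by
    rw [hT, MonoidHom.range_eq_map, H59.thompsonAOf_map ι ⊤ hL.2.1.1.injOn, thompsonSubgroupAOf,
      hJ0, ← H59.map_thompsonA (Subgroup.topEquiv (G := ↥(normalizerIn S R)))]
    rfl
  have hQT : modelCore p ι ≤ normalizerIn S R := modelCore_le
  have hQS : modelCore p ι ≤ S := hQT.trans normalizerIn_le
  have hZ0T : Z0 ≤ normalizerIn S R := (center_le_center_normalizerIn hc).trans inf_le_left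
  refine H59.complement_aux _ L le_rfl (hp.imp id fun hf => hf R hR hc N hN L ι hL) T
    ⟨hasNormalPComplement_of_forall_eq_one fun g hg => Subtype.ext ?_,
      complement_normalizer_thompson T ?_⟩
  · -- the centralizer of the centre
    have hgo : (orderOf (g : L)).Coprime p := by rwa [Subgroup.orderOf_coe]
    obtain ⟨x, hgx⟩ : ∃ x : L, x = g := ⟨_, rfl⟩
    have hz : ∀ z : ↥(normalizerIn S R), (z : Ω) ∈ Z0 → (g : L) * ι z * (g : L)⁻¹ = ι z := by
      intro z hz
      rw [mul_inv_eq_iff_eq_mul]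
      refine (Subgroup.mem_centralizer_iff.1 g.2 (ι z) ⟨hT ▸ ⟨z, rfl⟩, ?_⟩).symm
      refine Subgroup.mem_centralizer_iff.2 ?_
      rw [hT]
      rintro _ ⟨y, rfl⟩
      rw [← map_mul, ← map_mul]
      exact congrArg ι (Subtype.ext (Subgroup.mem_centralizer_iff.1
        (center_le_center_normalizerIn hc hz).2 _ y.2))
    have hX : modelCore p ι ⊔ Z0 ≤ (ι.range.comap ((MulAut.conj (g : L)).toMonoidHom.comp ι)).map
        (normalizerIn S R).subtype := by
      refine sup_le ?_ fun z hz' => ⟨⟨z, hZ0T hz'⟩, ?_, rfl⟩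
      · rintro _ ⟨y, hy, rfl⟩
        exact ⟨y, pCore_le_range hL (conj_mem_pCore hy _), rfl⟩
      · show (g : L) * ι _ * (g : L)⁻¹ ∈ ι.range
        rw [hz ⟨z, hZ0T hz'⟩ hz']
        exact ⟨_, rfl⟩
    obtain ⟨f, hfN, hf, hfe⟩ := exists_conj_map hN hL (g : L) (sup_le hQT hZ0T) fun y hy => by
      obtain ⟨y', hy', e⟩ := hX hy
      obtain rfl : y' = y := Subtype.ext e
      exact hy'
    have hfix : ∀ z ∈ Z0, f z = z := fun z hz' => by
      have h1 := hfe ⟨z, hZ0T hz'⟩ (Subgroup.mem_sup_right hz') (hfN.mem_S (Subgroup.mem_sup_right hz'))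
      rw [hz ⟨z, hZ0T hz'⟩ hz'] at h1
      exact congrArg Subtype.val (hL.2.1.1 h1)
    have hcent : ∀ y ∈ S, y ∈ centralizerIn S Z0 := fun y hy =>
      FusionSys.mem_centralizerIn.2 ⟨hy, fun z hz' => (Subgroup.mem_centralizer_iff.1 hz'.2 y hy).symm⟩
    obtain ⟨φ, -, hφe⟩ := hf.mono (le_sup_left (b := Z0))
    have hφ : φ ∈ (H91.centSys F (inf_le_left : Z0 ≤ S)).Hom (modelCore p ι) :=
      (H91.centralizerHom_iff F).2 ⟨fun y hy => hcent y (hQS hy), fun y => hφe y ▸
        hcent _ (hf.mem_S (Subgroup.mem_sup_left y.2)), f, hf, fun x => (hφe x).symm, hfix⟩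
    rw [hC _ (H91.isCentralizerSystem_centSys F inf_le_left)] at hφ
    obtain ⟨-, s, hs, hse⟩ := hφ
    refine eq_one_of_conj_eq hS hL hgo hs.1 fun y hy => ?_
    have hfy : f y = s * y * s⁻¹ := (hφe ⟨y, hy⟩).symm.trans (hse ⟨y, hy⟩)
    have hm : f y ∈ normalizerIn S R := hfN.mem_S (Subgroup.mem_sup_left hy)
    refine ⟨hfy ▸ hm, ?_⟩
    rw [← hfe y (Subgroup.mem_sup_left hy) hm]
    exact congrArg ι (Subtype.ext hfy.symm)
  · -- the normalizer of the Thompson subgroup
    rw [hJmap]
    intro g hg hgo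
    have hJS : (normalizerIn S R = S) → g = 1 := by
      intro htop
      have hWeq : J0.map (normalizerIn S R).subtype = thompsonSubgroupAOf S :=
        (congrArg thompsonSubgroupAOf htop : thompsonSubgroupAOf (normalizerIn S R) = _)
      set J := thompsonSubgroupAOf S with hJ
      have hJT : J ≤ normalizerIn S R := hWeq ▸ Subgroup.map_subtype_le _
      have hJm : ∀ y : ↥(normalizerIn S R), (y : Ω) ∈ J → ι y ∈ J0.map ι := by
        intro y hy
        rw [← hWeq] at hy
        obtain ⟨y', hy', e⟩ := hy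
        obtain rfl : y' = y := Subtype.ext e
        exact Subgroup.mem_map_of_mem ι hy'
      have hX : modelCore p ι ⊔ J ≤ (ι.range.comap ((MulAut.conj g).toMonoidHom.comp ι)).map
          (normalizerIn S R).subtype := by
        refine sup_le ?_ fun z hz' => ⟨⟨z, hJT hz'⟩, ?_, rfl⟩
        · rintro _ ⟨y, hy, rfl⟩
          exact ⟨y, pCore_le_range hL (conj_mem_pCore hy _), rfl⟩
        · exact Subgroup.map_le_range ι J0 ((Subgroup.mem_normalizer_iff.1 hg _).1 (hJm _ hz'))
      obtain ⟨f, hfN, hf, hfe⟩ := exists_conj_map hN hL g (sup_le hQT hJT) fun y hy => by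
        obtain ⟨y', hy', e⟩ := hX hy
        obtain rfl : y' = y := Subtype.ext e
        exact hy'
      haveI : Finite J := finite_of_le (S := S) (hJT.trans normalizerIn_le)
      have himg : f '' (J : Set Ω) = J := (hf.mono le_sup_right).image_eq_of_mapsTo fun y hy => by
        have hm := hfN.mem_S (Subgroup.mem_sup_right (S := modelCore p ι) hy)
        have h1 := (Subgroup.mem_normalizer_iff.1 hg _).1 (hJm ⟨y, hJT hy⟩ hy)
        rw [← hfe ⟨y, hJT hy⟩ (Subgroup.mem_sup_right hy) hm, Subgroup.mem_map_iff_mem hL.2.1.1] at h1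
        rw [← hWeq]
        exact ⟨_, h1, rfl⟩
      have hnorm : ∀ y ∈ S, y ∈ normalizerIn S J := fun y hy =>
        ⟨hy, H59.normalizer_le_normalizer_thompsonAOf S (Subgroup.le_normalizer hy)⟩
      obtain ⟨E, hE⟩ := exists_normalizerSystem F (Q := J) (H59.thompsonAOf_le S)
      have hm : IsMap E (modelCore p ι) f :=
        ((isKSys_normalizer_iff.1 hE).map_iff _ _).2 ⟨fun y hy => hnorm y (hQS hy),
          fun y hy => hnorm _ (hf.mem_S (Subgroup.mem_sup_left hy)), f, hf, fun _ _ => rfl,
          (onQ_top_iff hf le_sup_right).2 himg⟩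
      obtain ⟨φ, hφ, hφe⟩ := hm
      rw [hNJ E hE] at hφ
      obtain ⟨-, s, hs, hse⟩ := hφ
      refine eq_one_of_conj_eq hS hL hgo hs.1 fun y hy => ?_
      have hfy : f y = s * y * s⁻¹ := (hφe ⟨y, hy⟩).symm.trans (hse ⟨y, hy⟩)
      have hm : f y ∈ normalizerIn S R := hfN.mem_S (Subgroup.mem_sup_left hy)
      refine ⟨hfy ▸ hm, ?_⟩
      rw [← hfe y (Subgroup.mem_sup_left hy) hm]
      exact congrArg ι (Subtype.ext hfy.symm)
    rcases eq_or_ne (normalizerIn S R) S with htop | htop
    · rw [hJS htop]; exact one_mem _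
    · exact mem_centralizer_of_isPGroup_autGroup hN hL J0
        (isPGroup_autGroup_of_char hS hmax J0 (characteristic_thompsonA _) fun h => absurd h htop) hg hgo

end Cfsg.Agent.H85
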