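import Cfsg.Agent.H85.ItoElation

/-!
Ito's hypothesis (a subgroup of index equal to the degree, unfaithful on an orbit) gives an
elementary abelian normal subgroup of a point stabiliser, not semiregular, in the action on the
cosets of the subgroup.
-/

set_option autoImplicit false

namespace Cfsg.Agent.H85.ItoDesign

open MulAction

theorem exists_abelian_of_ito {G Ω : Type*} [Group G] [Finite G] [MulAction G Ω] [FaithfulSMul G Ω]
    [Finite Ω] (h2 : IsMultiplyPretransitive G Ω 2) (H : Subgroup G)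
    (hidx : H.index = Nat.card Ω) (hnt : ¬ IsPretransitive H Ω) (hfix : ∀ a : Ω, ∃ h : H, h • a ≠ a)
    (hunf : ∃ a : Ω, ∃ h : H, h ≠ 1 ∧ ∀ b ∈ orbit H a, h • b = b) :
    IsMultiplyPretransitive G (G ⧸ H) 2 ∧ FaithfulSMul G (G ⧸ H) ∧
      Nat.card (G ⧸ H) = Nat.card Ω ∧
      ∃ (x : G ⧸ H) (p : ℕ) (A : Subgroup G), p.Prime ∧ A ≤ stabilizer G x ∧
        (∀ g ∈ stabilizer G x, ∀ n ∈ A, g * n * g⁻¹ ∈ A) ∧
        (∀ n ∈ A, ∀ m ∈ A, n * m = m * n) ∧ (∀ n ∈ A, n ^ p = 1) ∧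
        ∃ n ∈ A, n ≠ 1 ∧ ∃ y : G ⧸ H, y ≠ x ∧ n • y = y := by
  classical
  have : Fintype Ω := Fintype.ofFinite Ω
  have : Fintype (G ⧸ H) := Fintype.ofFinite _
  obtain ⟨h2', hf, -⟩ := reduction h2 H hidx hnt hfix hunf
  obtain ⟨a, h₀, hh₀, hh₀fix⟩ := hunf
  obtain ⟨D, hD⟩ := exists_des h2 H hidx hnt hfix a
  refine ⟨h2', hf, hidx, ((1 : G) : G ⧸ H), ?_⟩
  obtain ⟨p, A, hp, h⟩ := D.exists_abelian (B := ((1 : G) : G ⧸ H)) (s₀ := (h₀ : G))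
    (fun P hP => hh₀fix P ((hD P).1 hP)) fun e => hh₀ (Subtype.ext e)
  exact ⟨p, A, hp, h⟩

end Cfsg.Agent.H85.ItoDesign
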