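import Mathlib.GroupTheory.GroupAction.MultipleTransitivity
import Mathlib.GroupTheory.GroupAction.Quotient
import Mathlib.Data.Fintype.BigOperators
import Mathlib.Algebra.Order.BigOperators.Group.Finset
import Mathlib.Tactic.Ring
import Mathlib.Tactic.Linarith
import Mathlib.Tactic.NormNum
import Mathlib.Tactic.LinearCombination
import Mathlib.Combinatorics.Enumerative.DoubleCounting

/-!
Ito: a 2-transitive group with an intransitive subgroup of index equal to the degree gives a
symmetric design; the kernel of the block stabiliser on its block is a TI normal subgroup of the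
stabiliser of a point of the dual action, fixing a second point.
-/

set_option autoImplicit false
set_option linter.unusedSectionVars false

namespace Cfsg.Agent.H85.ItoDesign

open MulAction Finset
open scoped BigOperators

/-- A block system on which `G` acts, as many blocks as points, `G` 2-transitive on points. -/
structure Des (G Ω X : Type*) [Group G] [MulAction G Ω] [MulAction G X]
    [Fintype Ω] [Fintype X] where
  blk : X → Finset Ω
  k : ℕ
  hk : ∀ C, (blk C).card = k
  mem : ∀ (g : G) (C : X) (P : Ω), g • P ∈ blk (g • C) ↔ P ∈ blk C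
  two : ∀ {a b c d : Ω}, a ≠ b → c ≠ d → ∃ g : G, g • a = c ∧ g • b = d
  hcard : Fintype.card X = Fintype.card Ω
  two_le : 2 ≤ k
  lt : k + 2 ≤ Fintype.card Ω

variable {G Ω X : Type*} [Group G] [MulAction G Ω] [MulAction G X]
  [Fintype Ω] [Fintype X] [DecidableEq Ω] [DecidableEq X]

namespace Des

variable (D : Des G Ω X)
include D

/-- blocks through two points -/
def thru (P Q : Ω) : Finset X := univ.filter fun C => P ∈ D.blk C ∧ Q ∈ D.blk C

lemma mem_thru {P Q : Ω} {C : X} : C ∈ D.thru P Q ↔ P ∈ D.blk C ∧ Q ∈ D.blk C := by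
  simp [thru]

lemma trans' (a c : Ω) : ∃ g : G, g • a = c := by
  obtain ⟨b, hb⟩ := Fintype.exists_ne_of_one_lt_card (by have := D.lt; omega) a
  obtain ⟨d, hd⟩ := Fintype.exists_ne_of_one_lt_card (by have := D.lt; omega) c
  obtain ⟨g, hg, -⟩ := D.two hb.symm hd.symm
  exact ⟨g, hg⟩

lemma card_thru_smul (g : G) (P Q : Ω) :
    (D.thru (g • P) (g • Q)).card = (D.thru P Q).card := by
  refine (Finset.card_bij (fun C _ => g • C) ?_ ?_ ?_).symm
  · intro C hC
    rw [mem_thru] at hC ⊢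
    exact ⟨(D.mem g C P).2 hC.1, (D.mem g C Q).2 hC.2⟩
  · intro C _ C' _ h
    exact smul_left_cancel g h
  · intro C hC
    refine ⟨g⁻¹ • C, ?_, smul_inv_smul g C⟩
    rw [mem_thru] at hC ⊢
    exact ⟨(D.mem g (g⁻¹ • C) P).1 (by rw [smul_inv_smul]; exact hC.1),
      (D.mem g (g⁻¹ • C) Q).1 (by rw [smul_inv_smul]; exact hC.2)⟩

lemma card_self (P : Ω) : (D.thru P P).card = D.k := by
  have hconst : ∀ Q : Ω, (D.thru Q Q).card = (D.thru P P).card := by
    intro Q
    obtain ⟨g, rfl⟩ := D.trans' P Q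
    exact D.card_thru_smul g P P
  have h := Finset.sum_card_bipartiteAbove_eq_sum_card_bipartiteBelow
    (s := (univ : Finset Ω)) (t := (univ : Finset X)) (fun Q C => Q ∈ D.blk C)
  have h1 : ∀ Q : Ω, (univ : Finset X).bipartiteAbove (fun Q C => Q ∈ D.blk C) Q = D.thru Q Q := by
    intro Q; ext C; simp [Finset.bipartiteAbove, mem_thru]
  have h2 : ∀ C : X, (univ : Finset Ω).bipartiteBelow (fun Q C => Q ∈ D.blk C) C = D.blk C := by
    intro C; ext Q; simp [Finset.bipartiteBelow]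
  simp only [h1, h2, hconst, D.hk, Finset.sum_const, Finset.card_univ, D.hcard, smul_eq_mul] at h
  exact Nat.eq_of_mul_eq_mul_left (by have := D.lt; omega) h

lemma exists_lam : ∃ l, ∀ P Q : Ω, P ≠ Q → (D.thru P Q).card = l := by
  obtain ⟨a, b, hab⟩ := Fintype.exists_pair_of_one_lt_card (α := Ω) (by have := D.lt; omega)
  refine ⟨(D.thru a b).card, fun P Q h => ?_⟩
  obtain ⟨g, rfl, rfl⟩ := D.two hab h
  exact D.card_thru_smul g a b

noncomputable def lam : ℕ := D.exists_lam.choose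

lemma card_thru {P Q : Ω} (h : P ≠ Q) : (D.thru P Q).card = D.lam := D.exists_lam.choose_spec P Q h

lemma card_thru_ite (P Q : Ω) :
    ((D.thru P Q).card : ℤ) = (if P = Q then (D.k : ℤ) else D.lam) := by
  split_ifs with h
  · subst h; exact_mod_cast D.card_self P
  · exact_mod_cast D.card_thru h

lemma thru_eq_sum (P Q : Ω) : ((D.thru P Q).card : ℤ) =
    ∑ C : X, (if P ∈ D.blk C ∧ Q ∈ D.blk C then (1 : ℤ) else 0) := by
  rw [thru, Finset.natCast_card_filter]

lemma count : (D.k : ℤ) * ((D.k : ℤ) - 1) = D.lam * ((Fintype.card Ω : ℤ) - 1) := by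
  obtain ⟨P⟩ : Nonempty Ω := Fintype.card_pos_iff.1 (by have := D.lt; omega)
  have h : ∑ Q : Ω, ((D.thru P Q).card : ℤ) = (D.k : ℤ) * D.k := by
    simp only [D.thru_eq_sum]
    rw [Finset.sum_comm]
    calc _ = ∑ C : X, (if P ∈ D.blk C ∧ P ∈ D.blk C then (D.k : ℤ) else 0) := by
          refine Finset.sum_congr rfl fun C _ => ?_
          by_cases hP : P ∈ D.blk C
          · simp [hP, D.hk]
          · simp [hP]
      _ = ∑ C : X, (D.k : ℤ) * (if P ∈ D.blk C ∧ P ∈ D.blk C then (1 : ℤ) else 0) := by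
          refine Finset.sum_congr rfl fun C _ => ?_
          split_ifs <;> simp
      _ = _ := by rw [← Finset.mul_sum, ← D.thru_eq_sum, D.card_self P]
  simp only [D.card_thru_ite] at h
  have h2 : ∀ Q : Ω, (if P = Q then (D.k : ℤ) else D.lam)
      = D.lam + (if P = Q then ((D.k : ℤ) - D.lam) else 0) := by
    intro Q; split_ifs <;> ring
  simp only [h2, Finset.sum_add_distrib, Finset.sum_ite_eq, Finset.mem_univ, if_true,
    Finset.sum_const, Finset.card_univ, nsmul_eq_mul] at h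
  linarith

lemma lam_lt : D.lam < D.k := by
  by_contra h
  push Not at h
  have hc := D.count
  have h1 : (D.k : ℤ) ≤ D.lam := by exact_mod_cast h
  have h2 : (D.k : ℤ) + 2 ≤ (Fintype.card Ω : ℤ) := by exact_mod_cast D.lt
  have h3 : (2 : ℤ) ≤ D.k := by exact_mod_cast D.two_le
  nlinarith

lemma add_two_le : D.lam + 2 ≤ D.k := by
  by_contra h
  have h1 : D.lam + 1 = D.k := by have := D.lam_lt; omega
  have hc := D.count
  have h1' : (D.lam : ℤ) + 1 = D.k := by exact_mod_cast h1
  have h2 : (D.k : ℤ) + 2 ≤ (Fintype.card Ω : ℤ) := by exact_mod_cast D.lt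
  have h3 : (2 : ℤ) ≤ D.k := by exact_mod_cast D.two_le
  nlinarith

/-- two different blocks meet in `lam` points -/
lemma card_inter {B C : X} (h : C ≠ B) : (D.blk B ∩ D.blk C).card = D.lam := by
  set x : X → ℤ := fun C => ∑ P ∈ D.blk B, if P ∈ D.blk C then (1 : ℤ) else 0 with hx
  have hxc : ∀ C, x C = ((D.blk B ∩ D.blk C).card : ℤ) := by
    intro C; simp [hx]
  have hxB : x B = D.k := by rw [hxc, Finset.inter_self, D.hk]
  have s1 : ∑ C, x C = (D.k : ℤ) * D.k := by
    simp only [hx]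
    rw [Finset.sum_comm]
    calc _ = ∑ P ∈ D.blk B, ((D.thru P P).card : ℤ) :=
          Finset.sum_congr rfl fun P _ => by simp [D.thru_eq_sum]
      _ = _ := by simp [D.card_self, D.hk]
  have s2 : ∑ C, x C * x C = (D.k : ℤ) * (D.k + (D.k - 1) * D.lam) := by
    calc _ = ∑ C : X, ∑ P ∈ D.blk B, ∑ Q ∈ D.blk B,
          (if P ∈ D.blk C ∧ Q ∈ D.blk C then (1 : ℤ) else 0) := by
          refine Finset.sum_congr rfl fun C _ => ?_
          simp only [hx, Finset.sum_mul_sum]
          refine Finset.sum_congr rfl fun P _ => Finset.sum_congr rfl fun Q _ => ?_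
          split_ifs with a b c <;> simp_all
      _ = ∑ P ∈ D.blk B, ∑ Q ∈ D.blk B, ((D.thru P Q).card : ℤ) := by
          rw [Finset.sum_comm]
          refine Finset.sum_congr rfl fun P _ => ?_
          rw [Finset.sum_comm]
          simp [D.thru_eq_sum]
      _ = ∑ P ∈ D.blk B, ((D.k : ℤ) + (D.k - 1) * D.lam) := by
          refine Finset.sum_congr rfl fun P hP => ?_
          simp only [D.card_thru_ite]
          have h2 : ∀ Q : Ω, (if P = Q then (D.k : ℤ) else D.lam)
              = D.lam + (if P = Q then ((D.k : ℤ) - D.lam) else 0) := by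
            intro Q; split_ifs <;> ring
          simp only [h2, Finset.sum_add_distrib, Finset.sum_ite_eq, hP, if_true,
            Finset.sum_const, D.hk, nsmul_eq_mul]
          ring
      _ = _ := by simp [Finset.sum_const, D.hk]
  have hz : ∑ C ∈ univ.erase B, (x C - D.lam) * (x C - D.lam) = 0 := by
    have e : ∑ C ∈ univ.erase B, (x C - D.lam) * (x C - D.lam)
        = (∑ C, (x C - D.lam) * (x C - D.lam)) - (x B - D.lam) * (x B - D.lam) := by
      rw [← Finset.add_sum_erase _ _ (Finset.mem_univ B)]; ring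
    have e2 : ∑ C, (x C - D.lam) * (x C - D.lam)
        = (∑ C, x C * x C) - 2 * D.lam * (∑ C, x C) + (Fintype.card Ω : ℤ) * (D.lam * D.lam) := by
      have e3 : ∀ C, (x C - D.lam) * (x C - D.lam)
          = x C * x C - 2 * D.lam * x C + D.lam * D.lam := fun C => by ring
      simp only [e3, Finset.sum_add_distrib, Finset.sum_sub_distrib, ← Finset.mul_sum,
        Finset.sum_const, Finset.card_univ, nsmul_eq_mul, D.hcard]
      ring
    rw [e, e2, s1, s2, hxB]
    have hc := D.count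
    linear_combination (-(D.lam : ℤ)) * hc
  have := (Finset.sum_eq_zero_iff_of_nonneg (fun C _ => mul_self_nonneg _)).1 hz C
    (Finset.mem_erase.2 ⟨h, Finset.mem_univ C⟩)
  rw [mul_self_eq_zero, sub_eq_zero, hxc] at this
  exact_mod_cast this

lemma blk_inj {B C : X} (h : D.blk B = D.blk C) : C = B := by
  by_contra hne
  have := D.card_inter hne
  rw [← h, Finset.inter_self, D.hk] at this
  exact absurd this D.lam_lt.ne'

lemma card_inter_ite (B C : X) :
    ((D.blk B ∩ D.blk C).card : ℤ) = D.lam + (if C = B then ((D.k : ℤ) - D.lam) else 0) := by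
  split_ifs with h
  · subst h; rw [Finset.inter_self, D.hk]; ring
  · rw [D.card_inter h]; ring

lemma fix_eq (g : G) : (univ.filter fun P : Ω => g • P = P).card =
    (univ.filter fun C : X => g • C = C).card := by
  have h : ∑ P : Ω, ((D.thru P (g • P)).card : ℤ) =
      ∑ C : X, ((D.blk C ∩ D.blk (g⁻¹ • C)).card : ℤ) := by
    simp only [D.thru_eq_sum]
    rw [Finset.sum_comm]
    refine Finset.sum_congr rfl fun C _ => ?_
    rw [← Finset.natCast_card_filter]
    congr 2
    ext P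
    simp only [Finset.mem_filter, Finset.mem_univ, true_and, Finset.mem_inter]
    conv_rhs => rw [← D.mem g (g⁻¹ • C) P, smul_inv_smul]
  simp only [D.card_thru_ite, D.card_inter_ite] at h
  have h2 : ∀ P : Ω, (if P = g • P then (D.k : ℤ) else D.lam)
      = D.lam + (if g • P = P then ((D.k : ℤ) - D.lam) else 0) := by
    intro P; by_cases hP : g • P = P
    · simp [hP]
    · simp [hP, Ne.symm hP]
  have h3 : ∀ C : X, (g⁻¹ • C = C) ↔ g • C = C := by
    intro C; rw [inv_smul_eq_iff, eq_comm]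
  simp only [h2, h3, Finset.sum_add_distrib, Finset.sum_const, Finset.card_univ, nsmul_eq_mul,
    D.hcard, add_right_inj, ← Finset.sum_filter] at h
  have hne : (D.k : ℤ) - D.lam ≠ 0 := by
    have : (D.lam : ℤ) < D.k := by exact_mod_cast D.lam_lt
    omega
  simp only [mul_eq_mul_right_iff, or_iff_left hne] at h
  exact_mod_cast h

lemma eq_one_of_fix_blocks [FaithfulSMul G Ω] {g : G} (h : ∀ C : X, g • C = C) : g = 1 := by
  have h1 := D.fix_eq g
  rw [Finset.filter_true_of_mem (fun C _ => h C), Finset.card_univ, D.hcard, ← Finset.card_univ]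
    at h1
  have h2 := Finset.eq_univ_of_card _ h1
  refine FaithfulSMul.eq_of_smul_eq_smul (α := Ω) fun P => ?_
  have : P ∈ univ.filter fun P : Ω => g • P = P := by rw [h2]; exact Finset.mem_univ P
  rw [one_smul]
  exact (Finset.mem_filter.1 this).2

lemma inter_subset {B : X} {s : G} (hB : ∀ P ∈ D.blk B, s • P = P) (C : X) :
    D.blk B ∩ D.blk C ⊆ D.blk C ∩ D.blk (s • C) := by
  intro P hP
  rw [Finset.mem_inter] at hP ⊢
  refine ⟨hP.2, ?_⟩
  rw [← hB P hP.1]
  exact (D.mem s C P).2 hP.2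

lemma smul_self_of_axis {B : X} {s : G} (hB : ∀ P ∈ D.blk B, s • P = P) : s • B = B := by
  refine D.blk_inj ?_
  refine Finset.eq_of_subset_of_card_le ?_ (by simp [D.hk])
  intro P hP
  rw [← hB P hP]
  exact (D.mem s B P).2 hP

lemma block_fixed {B C : X} {s : G} (hB : ∀ P ∈ D.blk B, s • P = P) {P : Ω} (hP : s • P = P)
    (hPB : P ∉ D.blk B) (hPC : P ∈ D.blk C) : s • C = C := by
  by_contra hC
  have hCB : C ≠ B := fun e => hPB (e ▸ hPC)
  have h1 : insert P (D.blk B ∩ D.blk C) ⊆ D.blk C ∩ D.blk (s • C) :=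
    Finset.insert_subset (Finset.mem_inter.2 ⟨hPC, by rw [← hP]; exact (D.mem s C P).2 hPC⟩)
      (D.inter_subset hB C)
  have h2 := Finset.card_le_card h1
  rw [Finset.card_insert_of_notMem (fun h => hPB (Finset.mem_inter.1 h).1), D.card_inter hCB,
    D.card_inter hC] at h2
  omega

lemma thru_eq {B : X} {s : G} (hB : ∀ P ∈ D.blk B, s • P = P) {P R : Ω} (hP : s • P = P)
    (hPB : P ∉ D.blk B) (hR : s • R ≠ R) : D.thru P R = D.thru R (s • R) := by
  have hPR : P ≠ R := fun e => hR (e ▸ hP)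
  refine Finset.eq_of_subset_of_card_le ?_ ?_
  · intro C hC
    rw [mem_thru] at hC ⊢
    have hf := D.block_fixed hB hP hPB hC.1
    exact ⟨hC.2, by rw [← hf]; exact (D.mem s C R).2 hC.2⟩
  · rw [D.card_thru hPR, D.card_thru (Ne.symm hR)]

lemma thru_pair {B : X} {s : G} (hB : ∀ P ∈ D.blk B, s • P = P) {P Q R : Ω} (hP : s • P = P)
    (hPB : P ∉ D.blk B) (hQ : s • Q = Q) (hQB : Q ∉ D.blk B) (hPQ : P ≠ Q) (hR : s • R ≠ R) :
    D.thru P R = D.thru P Q := by
  have hPR : P ≠ R := fun e => hR (e ▸ hP)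
  refine Finset.eq_of_subset_of_card_le ?_ (by rw [D.card_thru hPR, D.card_thru hPQ])
  intro C hC
  have hC' : C ∈ D.thru Q R := by rw [D.thru_eq hB hQ hQB hR, ← D.thru_eq hB hP hPB hR]; exact hC
  rw [mem_thru] at hC hC' ⊢
  exact ⟨hC.1, hC'.1⟩

/-- at most one fixed point off the axis -/
lemma axis_unique [FaithfulSMul G Ω] {B : X} {s : G} (hB : ∀ P ∈ D.blk B, s • P = P) {P Q : Ω}
    (hP : s • P = P) (hPB : P ∉ D.blk B) (hQ : s • Q = Q) (hQB : Q ∉ D.blk B) (hPQ : P ≠ Q) :
    s = 1 := by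
  by_contra hs
  obtain ⟨C, hC⟩ : ∃ C : X, s • C ≠ C := by
    by_contra h
    push Not at h
    exact hs (D.eq_one_of_fix_blocks h)
  obtain ⟨R, hR⟩ : ∃ R : Ω, s • R ≠ R := by
    by_contra h
    push Not at h
    exact hs (FaithfulSMul.eq_of_smul_eq_smul (α := Ω) fun P => by rw [h P, one_smul])
  obtain ⟨C0, hC0⟩ : (D.thru P Q).Nonempty := by
    rw [← Finset.card_pos, D.card_thru hPQ]
    by_contra h
    push Not at h
    have hc := D.count
    have h0 : (D.lam : ℤ) = 0 := by exact_mod_cast Nat.le_zero.1 h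
    have h3 : (2 : ℤ) ≤ D.k := by exact_mod_cast D.two_le
    rw [h0] at hc
    nlinarith
  have hC0' := (D.mem_thru).1 hC0
  have hC0B : C0 ≠ B := fun e => hPB (e ▸ hC0'.1)
  -- every point lies in `B` or in `C0`
  have hall : ∀ S : Ω, S ∈ D.blk B ∨ S ∈ D.blk C0 := by
    intro S
    by_cases hSB : S ∈ D.blk B
    · exact Or.inl hSB
    refine Or.inr ?_
    by_cases hS : s • S = S
    · by_cases hSP : S = P
      · exact hSP ▸ hC0'.1
      have h1 := D.thru_pair hB hP hPB hQ hQB hPQ hR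
      have h2 := D.thru_pair hB hP hPB hS hSB (Ne.symm hSP) hR
      have h3 : C0 ∈ D.thru P S := by rw [← h2, h1]; exact hC0
      exact ((D.mem_thru).1 h3).2
    · have h1 := D.thru_pair hB hP hPB hQ hQB hPQ hS
      have h3 : C0 ∈ D.thru P S := by rw [h1]; exact hC0
      exact ((D.mem_thru).1 h3).2
  have hU : (univ : Finset Ω) ⊆ D.blk B ∪ D.blk C0 := fun S _ => Finset.mem_union.2 (hall S)
  have h4 := Finset.card_le_card hU
  have h5 := Finset.card_union_add_card_inter (D.blk B) (D.blk C0)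
  rw [D.card_inter hC0B, D.hk, D.hk] at h5
  rw [Finset.card_univ] at h4
  have hn : Fintype.card Ω + D.lam ≤ D.k + D.k := by omega
  have hc := D.count
  have hn' : (Fintype.card Ω : ℤ) + D.lam ≤ D.k + D.k := by exact_mod_cast hn
  have h2 : (D.k : ℤ) + 2 ≤ (Fintype.card Ω : ℤ) := by exact_mod_cast D.lt
  have h6 : (D.lam : ℤ) + 2 ≤ D.k := by exact_mod_cast D.add_two_le
  nlinarith

lemma ti [FaithfulSMul G Ω] {B C : X} (hBC : C ≠ B) {s : G}
    (hB : ∀ P ∈ D.blk B, s • P = P) (hC : ∀ P ∈ D.blk C, s • P = P) : s = 1 := by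
  have h := Finset.card_sdiff_add_card_inter (D.blk C) (D.blk B)
  rw [Finset.inter_comm, D.card_inter hBC, D.hk] at h
  have h2 : 1 < (D.blk C \ D.blk B).card := by have := D.add_two_le; omega
  obtain ⟨P, hP, Q, hQ, hPQ⟩ := Finset.one_lt_card.1 h2
  rw [Finset.mem_sdiff] at hP hQ
  exact D.axis_unique hB (hC P hP.1) hP.2 (hC Q hQ.1) hQ.2 hPQ

lemma exists_second_fixed {B : X} {s : G} (hB : ∀ P ∈ D.blk B, s • P = P) :
    ∃ C : X, C ≠ B ∧ s • C = C := by
  have h : D.k ≤ (univ.filter fun P : Ω => s • P = P).card := by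
    rw [← D.hk B]
    exact Finset.card_le_card fun P hP => Finset.mem_filter.2 ⟨Finset.mem_univ P, hB P hP⟩
  rw [D.fix_eq s] at h
  have h2 : 1 < (univ.filter fun C : X => s • C = C).card := by have := D.two_le; omega
  obtain ⟨C, hC, hne⟩ := Finset.exists_mem_ne h2 B
  exact ⟨C, hne, (Finset.mem_filter.1 hC).2⟩

lemma two_blocks [Finite G] : IsMultiplyPretransitive G X 2 := by
  classical
  have : Fintype G := Fintype.ofFinite G
  have hfix : ∀ g : G, Nat.card (fixedBy (Ω × Ω) g) = Nat.card (fixedBy (X × X) g) := by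
    intro g
    have eΩ : fixedBy (Ω × Ω) g = (fixedBy Ω g) ×ˢ (fixedBy Ω g) := by
      ext ⟨a, b⟩; simp [Prod.smul_def, Set.mem_prod]
    have eX : fixedBy (X × X) g = (fixedBy X g) ×ˢ (fixedBy X g) := by
      ext ⟨a, b⟩; simp [Prod.smul_def, Set.mem_prod]
    rw [eΩ, eX, Nat.card_congr (Equiv.Set.prod _ _), Nat.card_congr (Equiv.Set.prod _ _),
      Nat.card_prod, Nat.card_prod]
    have h := D.fix_eq g
    have hΩ : Nat.card (fixedBy Ω g) = (univ.filter fun P : Ω => g • P = P).card := by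
      rw [Nat.card_eq_fintype_card, Fintype.card_of_subtype]; intro P; simp
    have hX : Nat.card (fixedBy X g) = (univ.filter fun P : X => g • P = P).card := by
      rw [Nat.card_eq_fintype_card, Fintype.card_of_subtype]; intro P; simp
    rw [hΩ, hX, h]
  have horb : Nat.card (Quotient (orbitRel G (X × X))) = Nat.card (Quotient (orbitRel G (Ω × Ω))) := by
    have h1 := sum_card_fixedBy_eq_card_orbits_mul_card_group G (X × X)
    have h2 := sum_card_fixedBy_eq_card_orbits_mul_card_group G (Ω × Ω)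
    simp only [← Nat.card_eq_fintype_card] at h1 h2
    simp only [hfix, h1] at h2
    exact Nat.eq_of_mul_eq_mul_right Nat.card_pos h2
  obtain ⟨a, b, hab⟩ := Fintype.exists_pair_of_one_lt_card (α := Ω) (by have := D.lt; omega)
  have hle : Nat.card (Quotient (orbitRel G (Ω × Ω))) ≤ 2 := by
    have hs : Function.Surjective (fun t : Bool =>
        (Quotient.mk (orbitRel G (Ω × Ω)) (if t then (a, a) else (a, b)))) := by
      intro q
      induction q using Quotient.inductionOn with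
      | h p =>
        obtain ⟨c, d⟩ := p
        by_cases hcd : c = d
        · refine ⟨true, Quotient.sound ?_⟩
          obtain ⟨g, hg⟩ := D.trans' c a
          exact ⟨g, by simp [Prod.smul_def, ← hcd, hg]⟩
        · refine ⟨false, Quotient.sound ?_⟩
          obtain ⟨g, hg1, hg2⟩ := D.two hcd hab
          exact ⟨g, by simp [Prod.smul_def, hg1, hg2]⟩
    have := Nat.card_le_card_of_surjective _ hs
    simpa using this
  rw [is_two_pretransitive_iff]
  intro A A' C C' hA hC
  by_contra hno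
  have hinj : Function.Injective (fun t : Fin 3 =>
      Quotient.mk (orbitRel G (X × X)) (![(A, A), (A, A'), (C, C')] t)) := by
    have key : ∀ p q : X × X, (Quotient.mk (orbitRel G (X × X)) p) = Quotient.mk _ q →
        ∃ g : G, g • q.1 = p.1 ∧ g • q.2 = p.2 := by
      intro p q h
      obtain ⟨g, hg⟩ := Quotient.exact h
      exact ⟨g, congrArg Prod.fst hg, congrArg Prod.snd hg⟩
    have k01 : Quotient.mk (orbitRel G (X × X)) (A, A) ≠ Quotient.mk _ (A, A') := by
      intro h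
      obtain ⟨g, hg1, hg2⟩ := key _ _ h
      exact hA (smul_left_cancel g (hg1.trans hg2.symm))
    have k02 : Quotient.mk (orbitRel G (X × X)) (A, A) ≠ Quotient.mk _ (C, C') := by
      intro h
      obtain ⟨g, hg1, hg2⟩ := key _ _ h
      exact hC (smul_left_cancel g (hg1.trans hg2.symm))
    have k12 : Quotient.mk (orbitRel G (X × X)) (C, C') ≠ Quotient.mk _ (A, A') := by
      intro h
      obtain ⟨g, hg1, hg2⟩ := key _ _ h
      exact hno ⟨g, hg1, hg2⟩
    intro s t h
    fin_cases s <;> fin_cases t <;>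
      simp_all [Matrix.cons_val_zero, Matrix.cons_val_one, eq_comm]
  have := Nat.card_le_card_of_injective _ hinj
  rw [horb, Nat.card_fin] at this
  omega

end Des

section Main

variable {G Ω : Type*} [Group G] [Finite G] [MulAction G Ω] [FaithfulSMul G Ω] [Finite Ω]

/-- The symmetric design on the cosets of `H` whose basic block is the orbit of `a`. -/
theorem exists_des (h2 : IsMultiplyPretransitive G Ω 2) (H : Subgroup G) [Fintype Ω] [Fintype (G ⧸ H)]
    (hidx : H.index = Nat.card Ω) (hnt : ¬ IsPretransitive H Ω) (hfix : ∀ a : Ω, ∃ h : H, h • a ≠ a)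
    (a : Ω) : ∃ D : Des G Ω (G ⧸ H), ∀ P, P ∈ D.blk ((1 : G) : G ⧸ H) ↔ P ∈ orbit H a := by
  classical
  let Δ : Finset Ω := univ.filter fun P => P ∈ orbit H a
  have hΔ : ∀ P, P ∈ Δ ↔ P ∈ orbit H a := fun P => by simp [Δ]
  have hΔH : ∀ h ∈ H, ∀ P, h • P ∈ Δ ↔ P ∈ Δ := by
    intro h hh P
    rw [hΔ, hΔ]
    constructor
    · intro hP
      have := (orbit H a)
      obtain ⟨h', hh'⟩ := hP
      refine ⟨(⟨h, hh⟩ : H)⁻¹ * h', ?_⟩
      change ((⟨h, hh⟩ : H)⁻¹ * h') • a = P
      rw [mul_smul, inv_smul_eq_iff]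
      exact hh'
    · rintro ⟨h', rfl⟩
      exact ⟨(⟨h, hh⟩ : H) * h', mul_smul (⟨h, hh⟩ : H) h' a⟩
  have h2' : ∀ {a b c d : Ω}, a ≠ b → c ≠ d → ∃ g : G, g • a = c ∧ g • b = d :=
    fun hab hcd => (is_two_pretransitive_iff.1 h2) hab hcd
  have two_le : 2 ≤ Δ.card := by
    obtain ⟨h, hh⟩ := hfix a
    exact Finset.one_lt_card.2 ⟨a, (hΔ a).2 (mem_orbit_self a), h • a,
      (hΔ _).2 (mem_orbit a h), Ne.symm hh⟩
  have lt : Δ.card + 2 ≤ Fintype.card Ω := by
    obtain ⟨b, hb⟩ : ∃ b, b ∉ Δ := by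
      by_contra hall
      push Not at hall
      apply hnt
      refine ⟨fun c d => ?_⟩
      obtain ⟨u, hu⟩ := (hΔ c).1 (hall c)
      obtain ⟨v, hv⟩ := (hΔ d).1 (hall d)
      refine ⟨v * u⁻¹, ?_⟩
      simp only at hu hv
      rw [← hu, ← hv, mul_smul, inv_smul_smul]
    obtain ⟨h, hh⟩ := hfix b
    have hb' : h • b ∉ Δ := fun hm => hb ((hΔH h.1 h.2 b).1 hm)
    have h1 : Δ ⊆ (univ.erase b).erase (h • b) := by
      intro P hP
      simp only [Finset.mem_erase, Finset.mem_univ, and_true]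
      exact ⟨fun e => hb' (e ▸ hP), fun e => hb (e ▸ hP)⟩
    have h3 := Finset.card_le_card h1
    rw [Finset.card_erase_of_mem (Finset.mem_erase.2 ⟨hh, Finset.mem_univ _⟩),
      Finset.card_erase_of_mem (Finset.mem_univ _), Finset.card_univ] at h3
    omega
  let blk : G ⧸ H → Finset Ω := fun C => univ.filter fun P => C.out⁻¹ • P ∈ Δ
  have hblk : ∀ (g : G) (P : Ω), P ∈ blk (g : G ⧸ H) ↔ g⁻¹ • P ∈ Δ := by
    intro g P
    obtain ⟨h, hh⟩ := QuotientGroup.mk_out_eq_mul H g
    simp only [blk, Finset.mem_filter, Finset.mem_univ, true_and, hh, mul_inv_rev, mul_smul]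
    exact hΔH (h : G)⁻¹ (H.inv_mem h.2) _
  let D : Des G Ω (G ⧸ H) :=
    { blk := blk
      k := Δ.card
      hk := by
        intro C
        refine Finset.card_bij (fun P _ => C.out⁻¹ • P) (fun P hP => (Finset.mem_filter.1 hP).2)
          (fun P _ Q _ h => smul_left_cancel _ h) (fun Q hQ => ⟨C.out • Q, ?_, inv_smul_smul _ _⟩)
        exact Finset.mem_filter.2 ⟨Finset.mem_univ _, by rwa [inv_smul_smul]⟩
      mem := by
        intro g C P
        induction C using QuotientGroup.induction_on with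
        | H c =>
          change g • P ∈ blk ((g * c : G) : G ⧸ H) ↔ P ∈ blk (c : G ⧸ H)
          rw [hblk, hblk, mul_inv_rev, mul_smul, inv_smul_smul]
      two := fun hab hcd => h2' hab hcd
      hcard := by
        rw [← Nat.card_eq_fintype_card, ← Nat.card_eq_fintype_card, ← hidx]
        rfl
      two_le := two_le
      lt := lt }
  let x : G ⧸ H := ((1 : G) : G ⧸ H)
  have hx : ∀ P, P ∈ D.blk x ↔ P ∈ Δ := fun P => by
    have := hblk 1 P
    simpa [D, x] using this
  exact ⟨D, fun P => (hx P).trans (hΔ P)⟩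

/-- The data needed for the TI theorem, on the cosets of `H`. -/
theorem reduction (h2 : IsMultiplyPretransitive G Ω 2) (H : Subgroup G)
    (hidx : H.index = Nat.card Ω) (hnt : ¬ IsPretransitive H Ω) (hfix : ∀ a : Ω, ∃ h : H, h • a ≠ a)
    (hunf : ∃ a : Ω, ∃ h : H, h ≠ 1 ∧ ∀ b ∈ orbit H a, h • b = b) :
    IsMultiplyPretransitive G (G ⧸ H) 2 ∧ FaithfulSMul G (G ⧸ H) ∧
      ∃ (x : G ⧸ H) (N : Subgroup G), N ≤ stabilizer G x ∧
        (∀ g ∈ stabilizer G x, ∀ n ∈ N, g * n * g⁻¹ ∈ N) ∧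
        (∀ g : G, N.map (MulAut.conj g).toMonoidHom = N ∨
          N.map (MulAut.conj g).toMonoidHom ⊓ N = ⊥) ∧
        ∃ n ∈ N, n ≠ 1 ∧ ∃ y : G ⧸ H, y ≠ x ∧ n • y = y := by
  classical
  have : Fintype Ω := Fintype.ofFinite Ω
  have : Fintype (G ⧸ H) := Fintype.ofFinite _
  obtain ⟨a, h₀, hh₀, hh₀fix⟩ := hunf
  obtain ⟨D, hΔ⟩ := exists_des h2 H hidx hnt hfix a
  let x : G ⧸ H := ((1 : G) : G ⧸ H)
  let Δ : Finset Ω := D.blk x
  have hx : ∀ P, P ∈ D.blk x ↔ P ∈ Δ := fun P => Iff.rfl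
  let N : Subgroup G :=
    { carrier := {g | ∀ P ∈ Δ, g • P = P}
      mul_mem' := fun {g g'} hg hg' P hP => by rw [mul_smul, hg' P hP, hg P hP]
      one_mem' := fun P _ => one_smul G P
      inv_mem' := fun {g} hg P hP => inv_smul_eq_iff.2 (hg P hP).symm }
  have hN : ∀ g, g ∈ N ↔ ∀ P ∈ D.blk x, g • P = P :=
    fun g => ⟨fun h P hP => h P ((hx P).1 hP), fun h P hP => h P ((hx P).2 hP)⟩
  have hconj : ∀ g n, n ∈ N.map (MulAut.conj g).toMonoidHom →
      ∀ P ∈ D.blk (g • x), n • P = P := by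
    rintro g n ⟨m, hm, rfl⟩ P hP
    have h1 : g⁻¹ • P ∈ D.blk x := (D.mem g x (g⁻¹ • P)).1 (by rwa [smul_inv_smul])
    simp only [MulEquiv.coe_toMonoidHom, MulAut.conj_apply, mul_smul]
    rw [(hN m).1 hm _ h1, smul_inv_smul]
  have hnorm : ∀ g, g • x = x → ∀ n, n ∈ N → g * n * g⁻¹ ∈ N := by
    intro g hg n hn
    rw [hN]
    have h1 := hconj g (g * n * g⁻¹) ⟨n, hn, rfl⟩
    rwa [hg] at h1
  refine ⟨D.two_blocks, ⟨fun {g g'} h => ?_⟩, x, N, ?_, fun g hg => hnorm g (mem_stabilizer_iff.1 hg),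
    ?_, ?_⟩
  · have h1 : g'⁻¹ * g = 1 := D.eq_one_of_fix_blocks fun C => by rw [mul_smul, h C, inv_smul_smul]
    exact (inv_mul_eq_one.1 h1).symm
  · intro g hg
    exact mem_stabilizer_iff.2 (D.smul_self_of_axis ((hN g).1 hg))
  · intro g
    by_cases hg : g • x = x
    · left
      ext n
      constructor
      · rintro ⟨m, hm, rfl⟩
        exact hnorm g hg m hm
      · intro hn
        refine ⟨g⁻¹ * n * g, ?_, by simp [MulAut.conj_apply, mul_assoc]⟩
        have h1 := hnorm g⁻¹ (inv_smul_eq_iff.2 hg.symm) n hn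
        rwa [inv_inv] at h1
    · right
      rw [eq_bot_iff]
      intro n hn
      rw [Subgroup.mem_bot]
      exact D.ti hg ((hN n).1 hn.2) (hconj g n hn.1)
  · have hmem : (h₀ : G) ∈ N := fun P hP => hh₀fix P ((hΔ P).1 hP)
    refine ⟨h₀, hmem, fun e => hh₀ (Subtype.ext e), ?_⟩
    obtain ⟨C, hC, hC'⟩ := D.exists_second_fixed ((hN _).1 hmem)
    exact ⟨C, hC, hC'⟩

/-- A nontrivial normal subgroup of `H` fixing a point makes `H` unfaithful on that orbit. -/
theorem unfaithful_of_normal (H : Subgroup G) (N : Subgroup H) (hN : N.Normal) (hN1 : N ≠ ⊥)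
    (hNfix : ∃ a : Ω, ∀ x ∈ N, x • a = a) :
    ∃ a : Ω, ∃ h : H, h ≠ 1 ∧ ∀ b ∈ orbit H a, h • b = b := by
  obtain ⟨a, ha⟩ := hNfix
  have := (Subgroup.nontrivial_iff_ne_bot N).2 hN1
  obtain ⟨⟨h, hh⟩, hne⟩ := exists_ne (1 : N)
  refine ⟨a, h, fun e => hne (Subtype.ext e), ?_⟩
  rintro b ⟨u, rfl⟩
  change h • u • a = u • a
  have h1 := ha _ (hN.conj_mem h hh u⁻¹)
  rw [inv_inv, mul_smul, mul_smul] at h1
  exact inv_smul_eq_iff.1 h1

end Main

end Cfsg.Agent.H85.ItoDesign
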