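import Cfsg.Agent.H85.ItoDesign
import Mathlib.GroupTheory.Perm.Cycle.Type

/-!
Elations of the symmetric design of Ito's theorem: the nonidentity elements of the kernel of a block
stabiliser on its block that fix no point outside generate an abelian normal subgroup.
-/

set_option autoImplicit false
set_option linter.unusedSectionVars false

namespace Cfsg.Agent.H85.ItoDesign

open MulAction Finset
open scoped BigOperators

theorem dvd_card_of_classes {α : Type*} [DecidableEq α] (S : Finset α) (cls : α → Finset α) (d : ℕ)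
    (hself : ∀ a ∈ S, a ∈ cls a) (hsub : ∀ a ∈ S, cls a ⊆ S)
    (heq : ∀ a ∈ S, ∀ b ∈ cls a, cls b = cls a) (hcard : ∀ a ∈ S, (cls a).card = d) :
    d ∣ S.card := by
  rw [Finset.card_eq_sum_card_image cls S]
  refine Finset.dvd_sum fun c hc => ?_
  obtain ⟨a, ha, rfl⟩ := Finset.mem_image.1 hc
  have h : S.filter (fun b => cls b = cls a) = cls a := by
    ext b
    simp only [Finset.mem_filter]
    exact ⟨fun hb => hb.2 ▸ hself b hb.1, fun hb => ⟨hsub a ha hb, heq a ha b hb⟩⟩
  rw [h, hcard a ha]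

variable {G Ω X : Type*} [Group G] [MulAction G Ω] [MulAction G X]
  [Fintype Ω] [Fintype X] [DecidableEq Ω] [DecidableEq X] [Finite G]

namespace Des

variable (D : Des G Ω X)
include D

/-- the blocks containing the intersection of two given blocks -/
def dlin (A C : X) : Finset X := univ.filter fun E => D.blk A ∩ D.blk C ⊆ D.blk E

lemma mem_dlin {A C E : X} : E ∈ D.dlin A C ↔ D.blk A ∩ D.blk C ⊆ D.blk E := by simp [dlin]

lemma left_mem_dlin (A C : X) : A ∈ D.dlin A C := D.mem_dlin.2 Finset.inter_subset_left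

lemma right_mem_dlin (A C : X) : C ∈ D.dlin A C := D.mem_dlin.2 Finset.inter_subset_right

lemma inter_eq {A C E F : X} (hAC : A ≠ C) (hE : E ∈ D.dlin A C) (hF : F ∈ D.dlin A C)
    (hEF : E ≠ F) : D.blk E ∩ D.blk F = D.blk A ∩ D.blk C := by
  symm
  refine Finset.eq_of_subset_of_card_le
    (Finset.subset_inter (D.mem_dlin.1 hE) (D.mem_dlin.1 hF)) ?_
  rw [D.card_inter hEF.symm, D.card_inter hAC.symm]

lemma dlin_eq {A C E F : X} (hAC : A ≠ C) (hE : E ∈ D.dlin A C) (hF : F ∈ D.dlin A C)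
    (hEF : E ≠ F) : D.dlin E F = D.dlin A C := by
  ext U
  rw [mem_dlin, mem_dlin, D.inter_eq hAC hE hF hEF]

lemma dlin_of_mem {A C E : X} (hAC : A ≠ C) (hE : E ∈ D.dlin A C) (hAE : A ≠ E) :
    D.dlin A E = D.dlin A C := D.dlin_eq hAC (D.left_mem_dlin A C) hE hAE

lemma smul_mem_dlin (g : G) (A C E : X) :
    g • E ∈ D.dlin (g • A) (g • C) ↔ E ∈ D.dlin A C := by
  simp only [mem_dlin]
  constructor
  · intro h P hP
    rw [Finset.mem_inter] at hP
    exact (D.mem g E P).1 (h (Finset.mem_inter.2 ⟨(D.mem g A P).2 hP.1, (D.mem g C P).2 hP.2⟩))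
  · intro h Q hQ
    rw [Finset.mem_inter, ← smul_inv_smul g Q, D.mem, D.mem] at hQ
    rw [← smul_inv_smul g Q, D.mem]
    exact h (Finset.mem_inter.2 hQ)

lemma card_dlin_eq {A C A' C' : X} (h : A ≠ C) (h' : A' ≠ C') :
    (D.dlin A' C').card = (D.dlin A C).card := by
  obtain ⟨g, rfl, rfl⟩ := (is_two_pretransitive_iff.1 D.two_blocks) h h'
  refine (Finset.card_bij (fun E _ => g • E) (fun E hE => (D.smul_mem_dlin g A C E).2 hE)
    (fun E _ F _ h => smul_left_cancel g h) fun U hU => ⟨g⁻¹ • U, ?_, smul_inv_smul g U⟩).symm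
  rwa [← D.smul_mem_dlin g, smul_inv_smul]

lemma smul_mem_of_axis {B C : X} {s : G} (hB : ∀ P ∈ D.blk B, s • P = P) :
    s • C ∈ D.dlin B C :=
  D.mem_dlin.2 ((D.inter_subset hB C).trans Finset.inter_subset_right)

/-- the line of blocks through two blocks, minus the first, divides the blocks at a point -/
lemma dvd_k_sub_one {B C : X} (hCB : C ≠ B) : ((D.dlin B C).card - 1) ∣ D.k - 1 := by
  obtain ⟨P, hP⟩ : (D.blk B).Nonempty := by
    rw [← Finset.card_pos, D.hk]; have := D.two_le; omega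
  have hS : ((D.thru P P).erase B).card = D.k - 1 := by
    rw [Finset.card_erase_of_mem (D.mem_thru.2 ⟨hP, hP⟩), D.card_self]
  rw [← hS]
  refine dvd_card_of_classes _ (fun E => (D.dlin B E).erase B) _ ?_ ?_ ?_ ?_
  · intro E hE
    exact Finset.mem_erase.2 ⟨(Finset.mem_erase.1 hE).1, D.right_mem_dlin B E⟩
  · intro E hE U hU
    rw [Finset.mem_erase, mem_thru] at hE
    rw [Finset.mem_erase, mem_dlin] at hU
    have := hU.2 (Finset.mem_inter.2 ⟨hP, hE.2.1⟩)
    exact Finset.mem_erase.2 ⟨hU.1, D.mem_thru.2 ⟨this, this⟩⟩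
  · intro E hE U hU
    rw [Finset.mem_erase] at hU hE
    simp only [D.dlin_of_mem (Ne.symm hE.1) hU.2 (Ne.symm hU.1)]
  · intro E hE
    rw [Finset.card_erase_of_mem (D.left_mem_dlin B E),
      D.card_dlin_eq hCB.symm (Finset.mem_erase.1 hE).1.symm]

/-- `s` fixes `B` pointwise and no point outside it -/
structure IsEl (B : X) (s : G) : Prop where
  ne_one : s ≠ 1
  axis : ∀ P ∈ D.blk B, s • P = P
  free : ∀ P, P ∉ D.blk B → s • P ≠ P

/-- the fixed blocks -/
def fixB (_D : Des G Ω X) (s : G) : Finset X := univ.filter fun C => s • C = C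

lemma mem_fixB {s : G} {C : X} : C ∈ D.fixB s ↔ s • C = C := by simp [fixB]

lemma card_fixB {B : X} {s : G} (hs : D.IsEl B s) : (D.fixB s).card = D.k := by
  rw [fixB, ← D.fix_eq, ← D.hk B]
  congr 1
  ext P
  simp only [Finset.mem_filter, Finset.mem_univ, true_and]
  exact ⟨fun h => by_contra fun hP => hs.free P hP h, hs.axis P⟩

/-- a fixed block of an elation has its whole line fixed -/
lemma line_fixed {B C : X} {s : G} (hs : D.IsEl B s) (hC : s • C = C) (hCB : C ≠ B) {U : X}
    (hU : U ∈ D.dlin B C) : s • U = U := by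
  have hB : s • B = B := D.smul_self_of_axis hs.axis
  have hBl := D.left_mem_dlin B C
  have hS : (D.fixB s ∩ D.dlin B C) = D.dlin B C := by
    refine Finset.eq_of_subset_of_card_le Finset.inter_subset_right ?_
    have h2 : ({B, C} : Finset X) ⊆ D.fixB s ∩ D.dlin B C := by
      intro E hE
      simp only [Finset.mem_insert, Finset.mem_singleton] at hE
      rw [Finset.mem_inter, mem_fixB]
      rcases hE with rfl | rfl
      · exact ⟨hB, hBl⟩
      · exact ⟨hC, D.right_mem_dlin B E⟩
    have h2' := Finset.card_le_card h2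
    rw [Finset.card_pair hCB.symm] at h2'
    have hsplit := Finset.card_sdiff_add_card_inter (D.fixB s) (D.dlin B C)
    rw [D.card_fixB hs] at hsplit
    have hd : ((D.dlin B C).card - 1) ∣ (D.fixB s \ D.dlin B C).card := by
      refine dvd_card_of_classes _ (fun E => (D.dlin C E).erase C) _ ?_ ?_ ?_ ?_
      · intro E hE
        rw [Finset.mem_sdiff] at hE
        exact Finset.mem_erase.2 ⟨fun e => hE.2 (e ▸ D.right_mem_dlin B C), D.right_mem_dlin C E⟩
      · intro E hE U hU
        rw [Finset.mem_sdiff, mem_fixB] at hE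
        rw [Finset.mem_erase] at hU
        have hCE : C ≠ E := fun e => hE.2 (e ▸ D.right_mem_dlin B C)
        have hUn : U ∉ D.dlin B C := by
          intro hUl
          apply hE.2
          have e1 := D.dlin_eq hCB.symm (D.right_mem_dlin B C) hUl (Ne.symm hU.1)
          have e2 := D.dlin_of_mem hCE hU.2 (Ne.symm hU.1)
          rw [← e1, e2]
          exact D.right_mem_dlin C E
        rw [Finset.mem_sdiff, mem_fixB]
        refine ⟨?_, hUn⟩
        by_contra hne
        have hUB : B ≠ U := fun e => hUn (e ▸ hBl)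
        have h3 : s • U ∈ D.dlin C E := by
          have := (D.smul_mem_dlin s C E U).2 hU.2
          rwa [hC, hE.1] at this
        have h4 : s • U ∈ D.dlin B U := D.smul_mem_of_axis hs.axis
        have e1 := D.dlin_eq hUB (D.right_mem_dlin B U) h4 (Ne.symm hne)
        have e2 := D.dlin_eq hCE hU.2 h3 (Ne.symm hne)
        have hBm : B ∈ D.dlin C E := by rw [← e2, e1]; exact D.left_mem_dlin B U
        have e3 := D.dlin_eq hCE (D.left_mem_dlin C E) hBm hCB
        apply hE.2
        rw [← D.dlin_eq (Ne.symm hCB) (D.right_mem_dlin B C) hBl hCB, e3]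
        exact D.right_mem_dlin C E
      · intro E hE U hU
        rw [Finset.mem_sdiff] at hE
        rw [Finset.mem_erase] at hU
        have hCE : C ≠ E := fun e => hE.2 (e ▸ D.right_mem_dlin B C)
        simp only [D.dlin_of_mem hCE hU.2 (Ne.symm hU.1)]
      · intro E hE
        rw [Finset.mem_sdiff] at hE
        have hCE : C ≠ E := fun e => hE.2 (e ▸ D.right_mem_dlin B C)
        rw [Finset.card_erase_of_mem (D.left_mem_dlin C E), D.card_dlin_eq hCB.symm hCE]
    have hk1 := D.dvd_k_sub_one hCB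
    have hle := Finset.card_le_card (Finset.inter_subset_right (s₁ := D.fixB s) (s₂ := D.dlin B C))
    generalize (D.fixB s ∩ D.dlin B C).card = f at *
    generalize (D.fixB s \ D.dlin B C).card = r at *
    generalize (D.dlin B C).card = j at *
    have h5 : (j - 1) ∣ f - 1 := by
      have h6 : D.k - 1 = r + (f - 1) := by omega
      rw [h6] at hk1
      exact (Nat.dvd_add_right hd).1 hk1
    have h7 := Nat.le_of_dvd (by omega) h5
    omega
  have := (hS.symm ▸ hU : U ∈ D.fixB s ∩ D.dlin B C)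
  exact D.mem_fixB.1 (Finset.mem_inter.1 this).1

lemma conj_axis {B : X} {g : G} (hg : g • B = B) {s : G} (hs : ∀ P ∈ D.blk B, s • P = P) :
    ∀ P ∈ D.blk B, (g * s * g⁻¹) • P = P := by
  intro P hP
  have h1 : g⁻¹ • P ∈ D.blk B := by rw [← D.mem g, hg, smul_inv_smul]; exact hP
  rw [mul_smul, mul_smul, hs _ h1, smul_inv_smul]

lemma isEl_conj {B : X} {g : G} (hg : g • B = B) {s : G} (hs : D.IsEl B s) :
    D.IsEl B (g * s * g⁻¹) := by
  refine ⟨fun e => hs.ne_one (conj_eq_one_iff.1 e), D.conj_axis hg hs.axis, fun P hP e => ?_⟩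
  have h1 : g⁻¹ • P ∉ D.blk B := by rw [← D.mem g, hg, smul_inv_smul]; exact hP
  apply hs.free _ h1
  rw [mul_smul, mul_smul] at e
  exact eq_inv_smul_iff.2 e

/-- conjugating an elation by an element fixing `B` pointwise keeps its fixed blocks -/
lemma fixB_conj {B : X} {m s : G} (hm : ∀ P ∈ D.blk B, m • P = P) (hs : D.IsEl B s) :
    D.fixB (m * s * m⁻¹) = D.fixB s := by
  symm
  refine Finset.eq_of_subset_of_card_le ?_ ?_
  · intro C hC
    rw [mem_fixB] at hC ⊢
    have hmB : m • B = B := D.smul_self_of_axis hm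
    have hm' : ∀ P ∈ D.blk B, m⁻¹ • P = P := fun P hP => inv_smul_eq_iff.2 (hm P hP).symm
    by_cases hCB : C = B
    · rw [hCB, mul_smul, mul_smul, D.smul_self_of_axis hm', D.smul_self_of_axis hs.axis, hmB]
    · rw [mul_smul, mul_smul, D.line_fixed hs hC hCB (D.smul_mem_of_axis hm'), smul_inv_smul]
  · rw [D.card_fixB hs, D.card_fixB (D.isEl_conj (D.smul_self_of_axis hm) hs)]

lemma three_le {B C : X} {s : G} (hs : D.IsEl B s) [FaithfulSMul G Ω] (hCB : C ≠ B) :
    3 ≤ (D.dlin B C).card := by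
  obtain ⟨E, hE⟩ : ∃ E : X, s • E ≠ E := by
    by_contra h
    push Not at h
    exact hs.ne_one (D.eq_one_of_fix_blocks h)
  have hB : s • B = B := D.smul_self_of_axis hs.axis
  have hEB : E ≠ B := fun e => hE (e ▸ hB)
  have h3 : ({B, E, s • E} : Finset X) ⊆ D.dlin B E := by
    intro U hU
    simp only [Finset.mem_insert, Finset.mem_singleton] at hU
    rcases hU with rfl | rfl | rfl
    · exact D.left_mem_dlin _ _
    · exact D.right_mem_dlin _ _
    · exact D.smul_mem_of_axis hs.axis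
  have h4 := Finset.card_le_card h3
  rw [Finset.card_eq_three.2 ⟨B, E, s • E, hEB.symm, ?_, hE.symm, rfl⟩,
    D.card_dlin_eq hCB.symm hEB.symm] at h4
  · exact h4
  · intro e
    exact hEB (smul_left_cancel s (e.symm.trans hB.symm))

lemma comm_of_ne [FaithfulSMul G Ω] {B : X} {s r : G} (hs : D.IsEl B s) (hr : D.IsEl B r)
    (hne : D.fixB s ≠ D.fixB r) : s * r = r * s := by
  have hsB : s • B = B := D.smul_self_of_axis hs.axis
  have hrB : r • B = B := D.smul_self_of_axis hr.axis
  set c := s * r * s⁻¹ * r⁻¹ with hc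
  have hcax : ∀ P ∈ D.blk B, c • P = P := by
    intro P hP
    have hr' : r⁻¹ • P = P := inv_smul_eq_iff.2 (hr.axis P hP).symm
    have hs' : s⁻¹ • P = P := inv_smul_eq_iff.2 (hs.axis P hP).symm
    rw [hc, mul_smul, hr', mul_smul, hs', mul_smul, hr.axis P hP, hs.axis P hP]
  have hfix1 : ∀ C ∈ D.fixB s, c • C = C := by
    intro C hC
    have h1 : C ∈ D.fixB (r * s * r⁻¹) := by rw [D.fixB_conj hr.axis hs]; exact hC
    rw [mem_fixB] at h1 hC
    rw [hc, show s * r * s⁻¹ * r⁻¹ = s * (r * s * r⁻¹)⁻¹ by simp [mul_assoc], mul_smul,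
      inv_smul_eq_iff.2 h1.symm, hC]
  have hfix2 : ∀ C ∈ D.fixB r, c • C = C := by
    intro C hC
    have h1 : C ∈ D.fixB (s * r * s⁻¹) := by rw [D.fixB_conj hs.axis hr]; exact hC
    rw [mem_fixB] at h1 hC
    rw [hc, mul_smul, inv_smul_eq_iff.2 hC.symm, h1]
  obtain ⟨C, hCs, hCr⟩ : ∃ C, C ∈ D.fixB s ∧ C ∉ D.fixB r := by
    by_contra h
    push Not at h
    exact hne (Finset.eq_of_subset_of_card_le h (by rw [D.card_fixB hs, D.card_fixB hr]))
  have hCB : C ≠ B := fun e => hCr (D.mem_fixB.2 (e ▸ hrB))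
  obtain ⟨U, hU, hUB, hUC⟩ : ∃ U ∈ D.dlin B C, U ≠ B ∧ U ≠ C := by
    have h3 := D.three_le hs hCB
    by_contra h
    push Not at h
    have h4 : D.dlin B C ⊆ {B, C} := fun U hU => by
      simp only [Finset.mem_insert, Finset.mem_singleton]
      by_cases e : U = B
      · exact Or.inl e
      · exact Or.inr (h U hU e)
    have h5 := Finset.card_le_card h4
    rw [Finset.card_pair hCB.symm] at h5
    omega
  have hCs' := D.mem_fixB.1 hCs
  have hUs : U ∈ D.fixB s := D.mem_fixB.2 (D.line_fixed hs hCs' hCB hU)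
  have hUr : U ∉ D.fixB r := by
    intro h
    apply hCr
    rw [mem_fixB] at h ⊢
    refine D.line_fixed hr h hUB ?_
    rw [D.dlin_of_mem hCB.symm hU hUB.symm]
    exact D.right_mem_dlin B C
  have hsub : insert C (insert U (D.fixB r)) ⊆ D.fixB c := by
    intro E hE
    simp only [Finset.mem_insert] at hE
    rw [mem_fixB]
    rcases hE with rfl | rfl | hE
    · exact hfix1 _ hCs
    · exact hfix1 _ hUs
    · exact hfix2 _ hE
  have hcard := Finset.card_le_card hsub
  rw [Finset.card_insert_of_notMem (by simp [hUC.symm, hCr]), Finset.card_insert_of_notMem hUr,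
    D.card_fixB hr, fixB, ← D.fix_eq] at hcard
  have hdiff : 1 < ((univ.filter fun P : Ω => c • P = P) \ D.blk B).card := by
    have := Finset.card_sdiff_add_card_inter (univ.filter fun P : Ω => c • P = P) (D.blk B)
    have h' := Finset.card_le_card
      (Finset.inter_subset_right (s₁ := univ.filter fun P : Ω => c • P = P) (s₂ := D.blk B))
    rw [D.hk] at h'
    omega
  obtain ⟨P, hP, Q, hQ, hPQ⟩ := Finset.one_lt_card.1 hdiff
  rw [Finset.mem_sdiff, Finset.mem_filter] at hP hQ
  have hc1 := D.axis_unique hcax hP.1.2 hP.2 hQ.1.2 hQ.2 hPQ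
  rwa [hc, mul_inv_eq_one, mul_inv_eq_iff_eq_mul] at hc1

lemma mul_isEl [FaithfulSMul G Ω] {B : X} {s r : G} (hs : D.IsEl B s) (hr : D.IsEl B r)
    (hne : D.fixB s ≠ D.fixB r) : D.IsEl B (r * s) ∧ D.fixB (r * s) ≠ D.fixB s := by
  have hne1 : r * s ≠ 1 := by
    intro e
    apply hne
    have e' : r = s⁻¹ := eq_inv_of_mul_eq_one_left e
    ext C
    rw [mem_fixB, mem_fixB, e', inv_smul_eq_iff, eq_comm]
  have hax : ∀ P ∈ D.blk B, (r * s) • P = P := fun P hP => by
    rw [mul_smul, hs.axis P hP, hr.axis P hP]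
  refine ⟨⟨hne1, hax, fun P hP e => ?_⟩, fun e => ?_⟩
  · have hc : (r * s) • (s • P) = s • P := by
      conv_rhs => rw [← e]
      rw [← mul_smul, ← mul_smul, ← mul_assoc, D.comm_of_ne hs hr hne]
    have hsP : s • P ∉ D.blk B := by
      intro h
      exact hP (smul_left_cancel s (hs.axis _ h) ▸ h)
    exact hne1 (D.axis_unique hax e hP hc hsP (Ne.symm (hs.free P hP)))
  · apply hne
    refine Finset.eq_of_subset_of_card_le ?_ (by rw [D.card_fixB hs, D.card_fixB hr])
    intro C hC
    have h1 : (r * s) • C = C := D.mem_fixB.1 (e.symm ▸ hC)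
    rw [mem_fixB] at hC ⊢
    rwa [mul_smul, hC] at h1

lemma isEl_comm [FaithfulSMul G Ω] {B : X} {s s' : G} (hs : D.IsEl B s) (hs' : D.IsEl B s') :
    s * s' = s' * s := by
  by_cases hne : D.fixB s = D.fixB s'
  swap
  · exact D.comm_of_ne hs hs' hne
  obtain ⟨C, hC, hCB⟩ : ∃ C ∈ D.fixB s, C ≠ B :=
    Finset.exists_mem_ne (by rw [D.card_fixB hs]; have := D.two_le; omega) B
  obtain ⟨E, hE⟩ : ∃ E, E ∉ D.fixB s := by
    by_contra h
    push Not at h
    exact hs.ne_one (D.eq_one_of_fix_blocks fun E => D.mem_fixB.1 (h E))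
  have hsB : s • B = B := D.smul_self_of_axis hs.axis
  have hEB : E ≠ B := fun e => hE (D.mem_fixB.2 (e ▸ hsB))
  obtain ⟨g, hgB, hgC⟩ := (is_two_pretransitive_iff.1 D.two_blocks) hCB.symm hEB.symm
  set r := g * s * g⁻¹ with hr'
  have hr : D.IsEl B r := D.isEl_conj hgB hs
  have hEr : E ∈ D.fixB r := by
    rw [mem_fixB, hr', ← hgC, mul_smul, mul_smul, inv_smul_smul, D.mem_fixB.1 hC]
  have hner : D.fixB s ≠ D.fixB r := fun e => hE (e ▸ hEr)
  obtain ⟨hx, hxne⟩ := D.mul_isEl hs' hr (hne ▸ hner)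
  have h1 := D.comm_of_ne hs hx (hne.symm ▸ hxne.symm)
  have h2 := D.comm_of_ne hs hr hner
  have h3 : r * (s * s') = r * (s' * s) := by
    calc r * (s * s') = (r * s) * s' := (mul_assoc _ _ _).symm
      _ = s * r * s' := by rw [h2]
      _ = s * (r * s') := mul_assoc _ _ _
      _ = (r * s') * s := h1
      _ = _ := mul_assoc _ _ _
  exact mul_left_cancel h3

lemma stab_trans {B : X} {P Q : Ω} (hP : P ∉ D.blk B) (hQ : Q ∉ D.blk B) :
    ∃ g : G, g • B = B ∧ g • P = Q := by
  classical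
  have : Fintype G := Fintype.ofFinite G
  have hfix : ∀ g : G, Nat.card (fixedBy (Ω × X) g) = Nat.card (fixedBy (Ω × Ω) g) := by
    intro g
    have eX : fixedBy (Ω × X) g = (fixedBy Ω g) ×ˢ (fixedBy X g) := by
      ext ⟨a, b⟩; simp [Prod.smul_def, Set.mem_prod]
    have eΩ : fixedBy (Ω × Ω) g = (fixedBy Ω g) ×ˢ (fixedBy Ω g) := by
      ext ⟨a, b⟩; simp [Prod.smul_def, Set.mem_prod]
    rw [eΩ, eX, Nat.card_congr (Equiv.Set.prod _ _), Nat.card_congr (Equiv.Set.prod _ _),
      Nat.card_prod, Nat.card_prod]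
    have h := D.fix_eq g
    have hΩ : Nat.card (fixedBy Ω g) = (univ.filter fun P : Ω => g • P = P).card := by
      rw [Nat.card_eq_fintype_card, Fintype.card_of_subtype]; intro P; simp
    have hX : Nat.card (fixedBy X g) = (univ.filter fun P : X => g • P = P).card := by
      rw [Nat.card_eq_fintype_card, Fintype.card_of_subtype]; intro P; simp
    rw [hΩ, hX, h]
  have horb : Nat.card (Quotient (orbitRel G (Ω × X))) = Nat.card (Quotient (orbitRel G (Ω × Ω))) := by
    have h1 := sum_card_fixedBy_eq_card_orbits_mul_card_group G (Ω × X)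
    have h2 := sum_card_fixedBy_eq_card_orbits_mul_card_group G (Ω × Ω)
    simp only [← Nat.card_eq_fintype_card] at h1 h2
    simp only [hfix, h2] at h1
    exact (Nat.eq_of_mul_eq_mul_right Nat.card_pos h1).symm
  obtain ⟨a, b, hab⟩ := Fintype.exists_pair_of_one_lt_card (α := Ω) (by have := D.lt; omega)
  have hle : Nat.card (Quotient (orbitRel G (Ω × Ω))) ≤ 2 := by
    have hs : Function.Surjective (fun t : Bool =>
        (Quotient.mk (orbitRel G (Ω × Ω)) (if t then (a, a) else (a, b)))) := by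
      intro q
      induction q using Quotient.inductionOn with
      | h p =>
        obtain ⟨c, d⟩ := p
        by_cases hcd : c = d
        · refine ⟨true, Quotient.sound ?_⟩
          obtain ⟨g, hg⟩ := D.trans' c a
          exact ⟨g, by simp [Prod.smul_def, ← hcd, hg]⟩
        · refine ⟨false, Quotient.sound ?_⟩
          obtain ⟨g, hg1, hg2⟩ := D.two hcd hab
          exact ⟨g, by simp [Prod.smul_def, hg1, hg2]⟩
    have := Nat.card_le_card_of_surjective _ hs
    simpa using this
  obtain ⟨R, hR⟩ : (D.blk B).Nonempty := by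
    rw [← Finset.card_pos, D.hk]; have := D.two_le; omega
  by_contra hno
  push Not at hno
  have key : ∀ p q : Ω × X, (Quotient.mk (orbitRel G (Ω × X)) p) = Quotient.mk _ q →
      ∃ g : G, g • q.1 = p.1 ∧ g • q.2 = p.2 := by
    intro p q h
    obtain ⟨g, hg⟩ := Quotient.exact h
    exact ⟨g, congrArg Prod.fst hg, congrArg Prod.snd hg⟩
  have k01 : Quotient.mk (orbitRel G (Ω × X)) (R, B) ≠ Quotient.mk _ (P, B) := by
    intro h
    obtain ⟨g, hg1, hg2⟩ := key _ _ h
    simp only at hg1 hg2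
    apply hP
    rw [← D.mem g, hg2, hg1]; exact hR
  have k02 : Quotient.mk (orbitRel G (Ω × X)) (R, B) ≠ Quotient.mk _ (Q, B) := by
    intro h
    obtain ⟨g, hg1, hg2⟩ := key _ _ h
    simp only at hg1 hg2
    apply hQ
    rw [← D.mem g, hg2, hg1]; exact hR
  have k12 : Quotient.mk (orbitRel G (Ω × X)) (Q, B) ≠ Quotient.mk _ (P, B) := by
    intro h
    obtain ⟨g, hg1, hg2⟩ := key _ _ h
    exact hno g hg2 hg1
  have hinj : Function.Injective (fun t : Fin 3 =>
      Quotient.mk (orbitRel G (Ω × X)) (![(R, B), (P, B), (Q, B)] t)) := by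
    intro s t h
    fin_cases s <;> fin_cases t <;>
      simp_all [Matrix.cons_val_zero, Matrix.cons_val_one, eq_comm]
  have := Nat.card_le_card_of_injective _ hinj
  rw [horb, Nat.card_fin] at this
  omega

/-- the pointwise stabiliser of the block `B` -/
def axisGroup (B : X) : Subgroup G where
  carrier := {g | ∀ P ∈ D.blk B, g • P = P}
  mul_mem' := fun {g g'} hg hg' P hP => by rw [mul_smul, hg' P hP, hg P hP]
  one_mem' := fun P _ => one_smul G P
  inv_mem' := fun {g} hg P hP => inv_smul_eq_iff.2 (hg P hP).symm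

lemma mem_axisGroup {B : X} {g : G} : g ∈ D.axisGroup B ↔ ∀ P ∈ D.blk B, g • P = P := Iff.rfl

lemma conj_mem_axisGroup {B : X} {g : G} (hg : g • B = B) {n : G} (hn : n ∈ D.axisGroup B) :
    g * n * g⁻¹ ∈ D.axisGroup B := D.conj_axis hg hn

lemma exists_el [FaithfulSMul G Ω] {B : X} {s₀ : G} (h₀ : ∀ P ∈ D.blk B, s₀ • P = P)
    (h₁ : s₀ ≠ 1) : ∃ s, D.IsEl B s := by
  classical
  by_contra hno
  push Not at hno
  have : Fintype G := Fintype.ofFinite G
  set K := D.axisGroup B with hK
  have hfix1 : ∀ s ∈ K, s ≠ 1 → ∃ P, P ∉ D.blk B ∧ s • P = P := by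
    intro s hs hs1
    by_contra h
    push Not at h
    exact hno s ⟨hs1, hs, h⟩
  obtain ⟨P₀, hP₀⟩ : ∃ P, P ∉ D.blk B := by
    by_contra h
    push Not at h
    have := Finset.card_le_card (fun P _ => h P : (univ : Finset Ω) ⊆ D.blk B)
    rw [Finset.card_univ, D.hk] at this
    have := D.lt
    omega
  set S : Finset Ω := (D.blk B)ᶜ with hS
  set orb : Ω → Finset Ω := fun P => univ.filter fun Q => ∃ m ∈ K, m • P = Q with horb
  set st : Ω → Finset G := fun P => univ.filter fun g => g ∈ K ∧ g ≠ 1 ∧ g • P = P with hst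
  have hmemS : ∀ {P}, P ∈ S ↔ P ∉ D.blk B := fun {P} => by simp [hS]
  -- conjugation by the block stabiliser
  have horbcard : ∀ P ∈ S, (orb P).card = (orb P₀).card ∧ (st P).card = (st P₀).card := by
    intro P hP
    obtain ⟨g, hgB, rfl⟩ := D.stab_trans hP₀ (hmemS.1 hP)
    have hg' : g⁻¹ • B = B := inv_smul_eq_iff.2 hgB.symm
    constructor
    · refine (Finset.card_bij (fun Q _ => g • Q) ?_ (fun Q _ R _ h => smul_left_cancel g h) ?_).symm
      · intro Q hQ
        simp only [horb, Finset.mem_filter, Finset.mem_univ, true_and] at hQ ⊢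
        obtain ⟨m, hm, rfl⟩ := hQ
        exact ⟨g * m * g⁻¹, D.conj_mem_axisGroup hgB hm, by simp [mul_smul]⟩
      · intro Q hQ
        simp only [horb, Finset.mem_filter, Finset.mem_univ, true_and] at hQ ⊢
        obtain ⟨m, hm, rfl⟩ := hQ
        refine ⟨g⁻¹ • (m • g • P₀), ⟨g⁻¹ * m * g, ?_, by simp [mul_smul]⟩, by simp⟩
        have := D.conj_mem_axisGroup hg' hm
        rwa [inv_inv] at this
    · refine (Finset.card_bij (fun m _ => g * m * g⁻¹) ?_
        (fun m _ m' _ h => mul_left_cancel (mul_right_cancel h)) ?_).symm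
      · intro m hm
        simp only [hst, Finset.mem_filter, Finset.mem_univ, true_and] at hm ⊢
        exact ⟨D.conj_mem_axisGroup hgB hm.1, fun e => hm.2.1 (conj_eq_one_iff.1 e),
          by simp [mul_smul, hm.2.2]⟩
      · intro m hm
        simp only [hst, Finset.mem_filter, Finset.mem_univ, true_and] at hm ⊢
        refine ⟨g⁻¹ * m * g, ⟨?_, ?_, by simp [mul_smul, hm.2.2]⟩, by simp [mul_assoc]⟩
        · have := D.conj_mem_axisGroup hg' hm.1
          rwa [inv_inv] at this
        · intro e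
          apply hm.2.1
          rw [show m = g * (g⁻¹ * m * g) * g⁻¹ by simp [mul_assoc], e]
          simp
  have horbS : ∀ P ∈ S, orb P ⊆ S := by
    intro P hP Q hQ
    simp only [horb, Finset.mem_filter, Finset.mem_univ, true_and] at hQ
    obtain ⟨m, hm, rfl⟩ := hQ
    rw [hmemS] at hP ⊢
    intro h
    exact hP (smul_left_cancel m (hm _ h) ▸ h)
  have hdvd : (orb P₀).card ∣ S.card := by
    refine dvd_card_of_classes S orb _ ?_ horbS ?_ fun P hP => (horbcard P hP).1
    · intro P _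
      simp only [horb, Finset.mem_filter, Finset.mem_univ, true_and]
      exact ⟨1, one_mem K, one_smul G P⟩
    · intro P hP Q hQ
      simp only [horb, Finset.mem_filter, Finset.mem_univ, true_and] at hQ
      obtain ⟨m, hm, rfl⟩ := hQ
      ext R
      simp only [horb, Finset.mem_filter, Finset.mem_univ, true_and]
      exact ⟨fun ⟨m', hm', e⟩ => ⟨m' * m, mul_mem hm' hm, by rw [mul_smul]; exact e⟩,
        fun ⟨m', hm', e⟩ => ⟨m' * m⁻¹, mul_mem hm' (inv_mem hm), by
          rw [mul_smul, inv_smul_smul]; exact e⟩⟩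
  -- the stabilisers partition the nonidentity elements
  have hpart : ∑ P ∈ S, (st P).card = Nat.card K - 1 := by
    rw [← Finset.card_biUnion]
    · rw [show Nat.card K = (univ.filter fun g => g ∈ K).card by
        rw [Nat.card_eq_fintype_card, Fintype.card_subtype],
        ← Finset.card_erase_of_mem (Finset.mem_filter.2 ⟨Finset.mem_univ (1 : G), one_mem K⟩)]
      congr 1
      ext g
      simp only [Finset.mem_biUnion, hst, Finset.mem_filter, Finset.mem_univ, true_and,
        Finset.mem_erase, hmemS]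
      exact ⟨fun ⟨P, _, hg, hg1, _⟩ => ⟨hg1, hg⟩, fun ⟨hg1, hg⟩ => by
        obtain ⟨P, hP, hgP⟩ := hfix1 g hg hg1
        exact ⟨P, hP, hg, hg1, hgP⟩⟩
    · intro P hP Q hQ hPQ
      simp only [Function.onFun, Finset.disjoint_left, hst, Finset.mem_filter, Finset.mem_univ,
        true_and]
      rintro g ⟨hg, hg1, hgP⟩ ⟨_, _, hgQ⟩
      exact hg1 (D.axis_unique hg hgP (hmemS.1 hP) hgQ (hmemS.1 hQ) hPQ)
  rw [Finset.sum_congr rfl (fun P hP => (horbcard P hP).2), Finset.sum_const, smul_eq_mul] at hpart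
  have horbit : (orb P₀).card ∣ Nat.card K := by
    have e : (orb P₀).card = Nat.card (MulAction.orbit K P₀) := by
      rw [Nat.card_eq_fintype_card, Fintype.card_of_subtype]
      intro Q
      simp only [horb, Finset.mem_filter, Finset.mem_univ, true_and]
      exact ⟨fun ⟨m, hm, e⟩ => ⟨⟨m, hm⟩, e⟩, fun ⟨⟨m, hm⟩, e⟩ => ⟨m, hm, e⟩⟩
    rw [e]
    refine ⟨Nat.card (MulAction.stabilizer K P₀), ?_⟩
    rw [← Nat.card_prod]
    exact Nat.card_congr (MulAction.orbitProdStabilizerEquivGroup K P₀).symm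
  have hone : (orb P₀).card = 1 := by
    have hK1 : 0 < Nat.card K := Nat.card_pos
    have h2 : (orb P₀).card ∣ Nat.card K - 1 := hpart ▸ hdvd.mul_right _
    have h3 := Nat.dvd_sub horbit h2
    rw [show Nat.card K - (Nat.card K - 1) = 1 by omega] at h3
    exact Nat.dvd_one.1 h3
  apply h₁
  refine FaithfulSMul.eq_of_smul_eq_smul (α := Ω) fun P => ?_
  rw [one_smul]
  by_cases hP : P ∈ D.blk B
  · exact h₀ P hP
  · have hc := (horbcard P (hmemS.2 hP)).1.trans hone
    have m1 : P ∈ orb P := by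
      simp only [horb, Finset.mem_filter, Finset.mem_univ, true_and]
      exact ⟨1, one_mem K, one_smul G P⟩
    have m2 : s₀ • P ∈ orb P := by
      simp only [horb, Finset.mem_filter, Finset.mem_univ, true_and]
      exact ⟨s₀, h₀, rfl⟩
    exact Finset.card_le_one.1 hc.le _ m2 _ m1

/-- a nontrivial elementary abelian normal subgroup of the block stabiliser, fixing a second block -/
theorem exists_abelian [FaithfulSMul G Ω] {B : X} {s₀ : G} (h₀ : ∀ P ∈ D.blk B, s₀ • P = P)
    (h₁ : s₀ ≠ 1) :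
    ∃ (p : ℕ) (A : Subgroup G), p.Prime ∧ A ≤ stabilizer G B ∧
      (∀ g ∈ stabilizer G B, ∀ n ∈ A, g * n * g⁻¹ ∈ A) ∧
      (∀ n ∈ A, ∀ m ∈ A, n * m = m * n) ∧ (∀ n ∈ A, n ^ p = 1) ∧
      ∃ n ∈ A, n ≠ 1 ∧ ∃ C, C ≠ B ∧ n • C = C := by
  classical
  obtain ⟨s, hs⟩ := D.exists_el h₀ h₁
  set E : Set G := {g | D.IsEl B g} with hE
  have hEK : Subgroup.closure E ≤ D.axisGroup B := (Subgroup.closure_le _).2 fun g hg => hg.axis
  have hEcomm : ∀ n ∈ Subgroup.closure E, ∀ m ∈ Subgroup.closure E, n * m = m * n := by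
    have h1 : Subgroup.closure E ≤ Subgroup.centralizer E :=
      (Subgroup.closure_le _).2 fun g hg => Subgroup.mem_centralizer_iff.2
        fun h hh => D.isEl_comm hh hg
    intro n hn m hm
    have h2 : Subgroup.closure E ≤ Subgroup.centralizer (Subgroup.closure E : Set G) := by
      refine (Subgroup.closure_le _).2 fun g hg => Subgroup.mem_centralizer_iff.2 fun h hh => ?_
      exact (Subgroup.mem_centralizer_iff.1 (h1 hh) g hg).symm
    exact (Subgroup.mem_centralizer_iff.1 (h2 hm) n hn)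
  have hEconj : ∀ g ∈ stabilizer G B, ∀ n ∈ Subgroup.closure E, g * n * g⁻¹ ∈ Subgroup.closure E := by
    intro g hg n hn
    induction hn using Subgroup.closure_induction with
    | mem x hx => exact Subgroup.subset_closure (D.isEl_conj (mem_stabilizer_iff.1 hg) hx)
    | one => simp
    | mul x y _ _ hx hy =>
      rw [show g * (x * y) * g⁻¹ = g * x * g⁻¹ * (g * y * g⁻¹) by simp [mul_assoc]]
      exact mul_mem hx hy
    | inv x _ hx =>
      rw [show g * x⁻¹ * g⁻¹ = (g * x * g⁻¹)⁻¹ by simp [mul_assoc]]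
      exact inv_mem hx
  have hord : orderOf s ≠ 1 := fun e => hs.ne_one (orderOf_eq_one_iff.1 e)
  have hp : (orderOf s).minFac.Prime := Nat.minFac_prime hord
  set p := (orderOf s).minFac with hp'
  let A : Subgroup G :=
    { carrier := {n | n ∈ Subgroup.closure E ∧ n ^ p = 1}
      one_mem' := ⟨one_mem _, one_pow p⟩
      mul_mem' := fun {a b} ha hb => ⟨mul_mem ha.1 hb.1, by
        rw [(show Commute a b from hEcomm a ha.1 b hb.1).mul_pow, ha.2, hb.2, one_mul]⟩
      inv_mem' := fun {a} ha => ⟨inv_mem ha.1, by rw [inv_pow, ha.2, inv_one]⟩ }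
  refine ⟨p, A, hp, fun n hn => mem_stabilizer_iff.2 (D.smul_self_of_axis (hEK hn.1)),
    fun g hg n hn => ⟨hEconj g hg n hn.1, by rw [conj_pow, hn.2, mul_one, mul_inv_cancel]⟩,
    fun n hn m hm => hEcomm n hn.1 m hm.1, fun n hn => hn.2, s ^ (orderOf s / p), ?_, ?_, ?_⟩
  · refine ⟨pow_mem (Subgroup.subset_closure hs) _, ?_⟩
    rw [← pow_mul, Nat.div_mul_cancel (Nat.minFac_dvd _), pow_orderOf_eq_one]
  · refine pow_ne_one_of_lt_orderOf ?_ (Nat.div_lt_self (orderOf_pos s) hp.one_lt)
    exact (Nat.div_pos (Nat.minFac_le (orderOf_pos s)) hp.pos).ne'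
  · exact D.exists_second_fixed fun P hP =>
      hEK (pow_mem (Subgroup.subset_closure hs) _) P hP

end Des

end Cfsg.Agent.H85.ItoDesign
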