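import Cfsg.Agent.H85.ItoAbelian
import Cfsg.Agent.H70.ONan.Reduce
import Mathlib.LinearAlgebra.Projectivization.Cardinality

/-!
Ito's theorem on a subgroup of index equal to the degree which is unfaithful on an orbit.
-/

set_option autoImplicit false

namespace Cfsg.Agent.H85.ItoDesign

open MulAction

theorem ito_psl {G Ω : Type*} [Group G] [Finite G] [MulAction G Ω] [FaithfulSMul G Ω] [Finite Ω]
    (h2 : IsMultiplyPretransitive G Ω 2) (H : Subgroup G)
    (hidx : H.index = Nat.card Ω) (hnt : ¬ IsPretransitive H Ω) (hfix : ∀ a : Ω, ∃ h : H, h • a ≠ a)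
    (hunf : ∃ a : Ω, ∃ h : H, h ≠ 1 ∧ ∀ b ∈ orbit H a, h • b = b) :
    ∃ (m : ℕ) (F : Type) (_ : Field F) (_ : Fintype F), 2 ≤ m ∧
      Nat.card Ω = (Fintype.card F ^ (m + 1) - 1) / (Fintype.card F - 1) ∧
      ∃ N : Subgroup G, N.Normal ∧
        Nonempty (N ≃* Matrix.ProjectiveSpecialLinearGroup (Fin (m + 1)) F) ∧
        Subgroup.centralizer (N : Set G) = ⊥ := by
  classical
  have : Fintype (G ⧸ H) := Fintype.ofFinite _
  obtain ⟨hX2, hXf, hcardX, x, p, A, -, hle, hn, hcomm, -, hns⟩ :=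
    exists_abelian_of_ito h2 H hidx hnt hfix hunf
  obtain ⟨L, F, iF, iF', n, hn3, hL, hC, hiso, hcard⟩ :=
    Cfsg.Agent.H70.ONan.main_abelian hX2 x A hle hn ⟨⟨fun a b => Subtype.ext (hcomm a a.2 b b.2)⟩⟩ hns
  obtain ⟨m, rfl⟩ : ∃ m, n = m + 1 := ⟨n - 1, by omega⟩
  refine ⟨m, F, iF, iF', by omega, ?_, L, hL, hiso, hC⟩
  have hq : 0 < Fintype.card F - 1 := by have := Fintype.one_lt_card (α := F); omega
  have h := Projectivization.card F (Fin (m + 1) → F)
  rw [← hcard, hcardX, Nat.card_fun, Nat.card_fin, Nat.card_eq_fintype_card (α := F)] at h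
  rw [h, Nat.mul_div_cancel _ hq]

end Cfsg.Agent.H85.ItoDesign
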