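import Cfsg.Agent.H85.ItoDesign
import Mathlib.LinearAlgebra.Matrix.ProjectiveSpecialLinearGroup
import Mathlib.Algebra.Field.Defs

/-!
The conclusion of Ito's theorem on a subgroup of index equal to the degree, from the classification
of 2-transitive groups with a TI normal, non-semiregular subgroup of a point stabiliser.
-/

set_option autoImplicit false

namespace Cfsg.Agent.H85.ItoDesign

open MulAction

/-- `TIClass G X` is the classification of TI normal non-semiregular subgroups for the action on `X`. -/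
def TIClass (G X : Type*) [Group G] [Fintype X] [MulAction G X] : Prop :=
  IsMultiplyPretransitive G X 2 → FaithfulSMul G X → ∀ (x : X) (N : Subgroup G),
    N ≤ stabilizer G x → (∀ g ∈ stabilizer G x, ∀ n ∈ N, g * n * g⁻¹ ∈ N) →
    (∀ g : G, N.map (MulAut.conj g).toMonoidHom = N ∨
      N.map (MulAut.conj g).toMonoidHom ⊓ N = ⊥) →
    (∃ n ∈ N, n ≠ 1 ∧ ∃ y : X, y ≠ x ∧ n • y = y) →
    ∃ (L : Subgroup G) (F : Type) (_ : Field F) (_ : Fintype F) (n : ℕ), 3 ≤ n ∧ L.Normal ∧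
      Subgroup.centralizer (L : Set G) = ⊥ ∧
      Nonempty (↥L ≃* Matrix.ProjectiveSpecialLinearGroup (Fin n) F) ∧
      Fintype.card X * (Fintype.card F - 1) = Fintype.card F ^ n - 1

theorem conclusion {G Ω : Type*} [Group G] [Finite G] [MulAction G Ω] [FaithfulSMul G Ω] [Finite Ω]
    (h2 : IsMultiplyPretransitive G Ω 2) (H : Subgroup G) [Fintype (G ⧸ H)]
    (hTI : TIClass G (G ⧸ H))
    (hidx : H.index = Nat.card Ω) (hnt : ¬ IsPretransitive H Ω) (hfix : ∀ a : Ω, ∃ h : H, h • a ≠ a)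
    (hunf : ∃ a : Ω, ∃ h : H, h ≠ 1 ∧ ∀ b ∈ orbit H a, h • b = b) :
    ∃ (m : ℕ) (F : Type) (_ : Field F) (_ : Fintype F), 2 ≤ m ∧
      Nat.card Ω = (Fintype.card F ^ (m + 1) - 1) / (Fintype.card F - 1) ∧
      ∃ N : Subgroup G, N.Normal ∧
        Nonempty (N ≃* Matrix.ProjectiveSpecialLinearGroup (Fin (m + 1)) F) ∧
        Subgroup.centralizer (N : Set G) = ⊥ := by
  obtain ⟨hX2, hXf, x, N, hle, hn, hti, hns⟩ := reduction h2 H hidx hnt hfix hunf
  obtain ⟨L, F, iF, iF', n, hn3, hL, hC, hiso, hcard⟩ := hTI hX2 hXf x N hle hn hti hns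
  obtain ⟨m, rfl⟩ : ∃ m, n = m + 1 := ⟨n - 1, by omega⟩
  refine ⟨m, F, iF, iF', by omega, ?_, L, hL, hiso, hC⟩
  have hq : 0 < Fintype.card F - 1 := by have := Fintype.one_lt_card (α := F); omega
  rw [← hcard, Nat.mul_div_cancel _ hq, ← Nat.card_eq_fintype_card, ← hidx]
  rfl

end Cfsg.Agent.H85.ItoDesign
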