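import Cfsg.Agent.H85.ModP
import Cfsg.Agent.H85.CharAux
import Mathlib.GroupTheory.QuotientGroup.Basic

/-!
# The idempotent of the orbit of an irreducible character of a normal subgroup
-/

set_option linter.unusedSectionVars false

open scoped ComplexConjugate
open MonoidAlgebra

namespace Cfsg.Agent.H85

open Cfsg.Agent.CharBasic Cfsg.Agent.BlockBasic

variable {G : Type*} [Group G] [Fintype G] (N : Subgroup G) [N.Normal] [Fintype N]

/-- The conjugates of `θ`. -/
def conjOrbit (θ : Cfsg.IrrCharacter N) : Set (Cfsg.IrrCharacter N) :=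
  {μ | ∃ g : G, ∀ n : N, (μ : N → ℂ) n = (θ : N → ℂ) (MulAut.conjNormal g n)}

/-- Embedding of the group algebra of `N`. -/
noncomputable def inclAlg : MonoidAlgebra ℂ N →+* MonoidAlgebra ℂ G :=
  MonoidAlgebra.mapDomainRingHom ℂ N.subtype

theorem coeff_inclAlg (w : MonoidAlgebra ℂ N) (n : N) :
    (inclAlg N w).coeff (n : G) = w.coeff n := by
  simp only [inclAlg]
  exact Finsupp.mapDomain_apply N.subtype_injective w.coeff n

theorem coeff_inclAlg_of_notMem (w : MonoidAlgebra ℂ N) {g : G} (hg : g ∉ N) :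
    (inclAlg N w).coeff g = 0 := by
  classical
  simp only [inclAlg]
  refine Finsupp.mapDomain_of_notMem_range w.coeff g ?_
  rintro ⟨n, rfl⟩
  exact hg n.2

theorem chiLin_inclAlg (χ : G → ℂ) (w : MonoidAlgebra ℂ N) :
    chiLin χ (inclAlg N w) = chiLin (fun n : N => χ n) w := by
  induction w using MonoidAlgebra.induction_linear with
  | zero => simp [chiLin]
  | add a b ha hb => rw [map_add, chiLin_add, chiLin_add, ha, hb]
  | single m r =>
    rw [show inclAlg N (single m r) = single (m : G) r by simp [inclAlg], chiLin_single, chiLin_single]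

variable (θ : Cfsg.IrrCharacter N)

/-- The orbit idempotent. -/
noncomputable def orbitIdem : MonoidAlgebra ℂ G := inclAlg N (blockElem (conjOrbit N θ))

theorem orbitIdem_idem : orbitIdem N θ * orbitIdem N θ = orbitIdem N θ := by
  rw [orbitIdem, ← map_mul, blockElem_idem]

theorem blockCoeff_orbit_conj (g : G) (n : N) :
    Cfsg.blockCoeff (conjOrbit N θ) (MulAut.conjNormal g n) =
      Cfsg.blockCoeff (conjOrbit N θ) n := by
  classical
  simp only [Cfsg.blockCoeff]
  congr 1
  rw [finsum_mem_eq_sum_ite, finsum_mem_eq_sum_ite]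
  let e : Cfsg.IrrCharacter N ≃ Cfsg.IrrCharacter N :=
    { toFun := fun μ => ⟨fun m => (μ : N → ℂ) (MulAut.conjNormal g m),
        isIrrCharacter_comp_equiv μ.2 (MulAut.conjNormal g)⟩
      invFun := fun μ => ⟨fun m => (μ : N → ℂ) ((MulAut.conjNormal g).symm m),
        isIrrCharacter_comp_equiv μ.2 (MulAut.conjNormal g).symm⟩
      left_inv := fun μ => Subtype.ext (funext fun m => by simp)
      right_inv := fun μ => Subtype.ext (funext fun m => by simp) }
  have hmem : ∀ μ, e μ ∈ conjOrbit N θ ↔ μ ∈ conjOrbit N θ := by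
    intro μ
    constructor
    · rintro ⟨h, hh⟩
      refine ⟨h * g⁻¹, fun m => ?_⟩
      have := hh (MulAut.conjNormal g⁻¹ m)
      simp only [e, Equiv.coe_fn_mk] at this
      rw [show MulAut.conjNormal g (MulAut.conjNormal g⁻¹ m) = m by
        ext; simp [MulAut.conjNormal_apply, mul_assoc]] at this
      rw [this]
      exact congrArg _ (by ext; simp [MulAut.conjNormal_apply, mul_assoc])
    · rintro ⟨h, hh⟩
      refine ⟨h * g, fun m => ?_⟩
      show (μ : N → ℂ) (MulAut.conjNormal g m) = _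
      rw [hh]
      exact congrArg _ (by ext; simp [MulAut.conjNormal_apply, mul_assoc])
  refine Fintype.sum_equiv e _ _ fun μ => ?_
  simp only [hmem]
  refine if_congr Iff.rfl ?_ rfl
  simp [e]

theorem isCentralElt_orbitIdem : IsCentralElt (orbitIdem N θ) := by
  intro g h
  simp only [orbitIdem]
  by_cases hg : g ∈ N
  · have he : h * g * h⁻¹ = ((MulAut.conjNormal h ⟨g, hg⟩ : N) : G) :=
      (MulAut.conjNormal_apply h ⟨g, hg⟩).symm
    rw [he, coeff_inclAlg, coeff_blockElem, blockCoeff_orbit_conj, ← coeff_blockElem]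
    exact (coeff_inclAlg N _ (⟨g, hg⟩ : N)).symm
  · rw [coeff_inclAlg_of_notMem N _ hg, coeff_inclAlg_of_notMem]
    exact fun hh => hg (by simpa [mul_assoc] using ‹N.Normal›.conj_mem _ hh h⁻¹)

open scoped Classical in
theorem omega_orbitIdem (χ : Cfsg.IrrCharacter G) :
    omega (χ : G → ℂ) (orbitIdem N θ) =
      if Cfsg.classInner (fun n : N => (χ : G → ℂ) n) (θ : N → ℂ) ≠ 0 then 1 else 0 := by
  have hid : omega (χ : G → ℂ) (orbitIdem N θ) = 0 ∨ omega (χ : G → ℂ) (orbitIdem N θ) = 1 := by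
    have h := omega_mul χ.2 (isCentralElt_orbitIdem N θ) (orbitIdem N θ)
    rw [orbitIdem_idem] at h
    set w := omega (χ : G → ℂ) (orbitIdem N θ)
    rcases eq_or_ne w 0 with h0 | h0
    · exact Or.inl h0
    · exact Or.inr (mul_left_cancel₀ h0 (by rw [mul_one]; exact h.symm))
  obtain ⟨k, ρ, -, hρ⟩ := χ.2
  have hres : Cfsg.IsCharacter N (fun n : N => (χ : G → ℂ) n) :=
    ⟨k, ρ.comp N.subtype, funext fun n => congrFun hρ (n : G)⟩
  choose a ha using fun μ : Cfsg.IrrCharacter N =>
    classInner_isChar_nat hres (IsIrr.isCharacter μ.2)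
  choose d hd hd1 using fun μ : Cfsg.IrrCharacter N => IsIrr.exists_degree μ.2
  have hchi : chiLin (χ : G → ℂ) (orbitIdem N θ) =
      ((∑ μ : Cfsg.IrrCharacter N, if μ ∈ conjOrbit N θ then d μ * a μ else 0 : ℕ) : ℂ) := by
    rw [orbitIdem, chiLin_inclAlg]
    simp only [chiLin, coeff_blockElem, Cfsg.blockCoeff, finsum_mem_eq_sum_ite, Finset.mul_sum,
      Finset.sum_mul, Nat.cast_sum]
    rw [Finset.sum_comm]
    refine Finset.sum_congr rfl fun μ _ => ?_
    split_ifs with hμ
    · rw [Nat.cast_mul, ← hd1, ← ha, Cfsg.classInner, Finset.mul_sum, Finset.mul_sum]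
      exact Finset.sum_congr rfl fun n _ => by ring
    · simp
  have hinv : ∀ μ ∈ conjOrbit N θ, a μ = a θ := by
    rintro μ ⟨g, hg⟩
    have h : (a μ : ℂ) = (a θ : ℂ) := by
      rw [← ha, ← ha, Cfsg.classInner, Cfsg.classInner]
      congr 1
      refine Fintype.sum_equiv (MulAut.conjNormal g).toEquiv _ _ fun n => ?_
      simp only [MulEquiv.toEquiv_eq_coe, MulEquiv.coe_toEquiv, MulAut.conjNormal_apply, hg n]
      rw [IsIrr.isClassFunction χ.2]
    exact_mod_cast h
  have hθ : θ ∈ conjOrbit N θ := ⟨1, fun n => by simp⟩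
  have h0 : omega (χ : G → ℂ) (orbitIdem N θ) = 0 ↔ a θ = 0 := by
    rw [omega, div_eq_zero_iff, or_iff_left (IsIrr.one_ne_zero χ.2), hchi, Nat.cast_eq_zero,
      Finset.sum_eq_zero_iff]
    refine ⟨fun h => ?_, fun h μ _ => ?_⟩
    · have := h θ (Finset.mem_univ _)
      rw [if_pos hθ, Nat.mul_eq_zero] at this
      exact this.resolve_left (hd θ).ne'
    · split_ifs with hμ
      · rw [hinv μ hμ, h, mul_zero]
      · rfl
  rw [ha θ]
  by_cases hz : a θ = 0
  · rw [if_neg (by simp [hz]), h0.2 hz]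
  · rw [if_pos (by simpa using hz), hid.resolve_left fun h => hz (h0.1 h)]

open scoped Classical in
/-- For a `p`-element outside `N`, the part of a block over `θ` is orthogonal to the degrees. -/
theorem sum_block_over_eq_zero {p : ℕ} [hp : Fact p.Prime] {M : Ideal Cfsg.AlgInt}
    (hM : Cfsg.IsPModular p M) {B : Set (Cfsg.IrrCharacter G)} (hB : Cfsg.IsPBlock M B)
    {x : G} (hx : ∃ k : ℕ, orderOf x = p ^ k) (hxN : x ∉ N) :
    ∑ χ : Cfsg.IrrCharacter G,
      (if χ ∈ B ∧ Cfsg.classInner (fun n : N => (χ : G → ℂ) n) (θ : N → ℂ) ≠ 0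
        then (χ : G → ℂ) 1 * conj ((χ : G → ℂ) x) else 0) = 0 := by
  have hc := (isCentralElt_orbitIdem N θ).mul (isCentralElt_blockElem B)
  have hcoef : (orbitIdem N θ * blockElem B).coeff x = 0 := by
    rw [MonoidAlgebra.coeff_mul]
    refine Finset.sum_eq_zero fun a ha => Finset.sum_eq_zero fun b _ => ?_
    dsimp only
    split_ifs with hab
    · by_cases haN : a ∈ N
      · rw [coeff_blockElem, blockCoeff_eq_zero_of_singular hM hB ?_, mul_zero]
        have hxb : ((x : G) : G ⧸ N) = (b : G ⧸ N) := by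
          rw [← hab, QuotientGroup.mk_mul, (QuotientGroup.eq_one_iff a).2 haN, one_mul]
        obtain ⟨k, hk⟩ := hx
        have h1 : orderOf (b : G ⧸ N) ∣ p ^ k :=
          hxb ▸ hk ▸ orderOf_map_dvd (QuotientGroup.mk' N) x
        obtain ⟨j, -, hj⟩ := (Nat.dvd_prime_pow hp.out).1 h1
        have hj0 : j ≠ 0 := by
          rintro rfl
          rw [pow_zero, orderOf_eq_one_iff, ← hxb, QuotientGroup.eq_one_iff] at hj
          exact hxN hj
        exact (hj ▸ dvd_pow_self p hj0).trans (orderOf_map_dvd (QuotientGroup.mk' N) b)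
      · rw [orbitIdem, coeff_inclAlg_of_notMem N _ haN, zero_mul]
    · rfl
  rw [coeff_eq_sum_omega hc, mul_eq_zero, or_iff_right (by simp [Nat.card_pos.ne'])] at hcoef
  refine (Finset.sum_congr rfl fun χ _ => ?_).trans hcoef
  rw [omega_mul χ.2 (isCentralElt_orbitIdem N θ), omega_orbitIdem, omega_blockElem]
  by_cases h1 : χ ∈ B <;>
    by_cases h2 : Cfsg.classInner (fun n : N => (χ : G → ℂ) n) (θ : N → ℂ) = 0 <;>
      simp [h1, h2]

end Cfsg.Agent.H85
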