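import Cfsg.Agent.CharInduce.Gallagher
import Cfsg.Agent.S0886
import Cfsg.Agent.PGroups.Basic
import Cfsg.Agent.BlockBasic.Basic
import Cfsg.Agent.CharBasic.Kernel

/-!
# Degrees over a normal subgroup with quotient a `p`-group
-/

set_option linter.unusedSectionVars false

open scoped Classical ComplexConjugate

namespace Cfsg.Agent.H85

open Cfsg.Agent.CharBasic

universe u

variable {G : Type u} [Group G] [Fintype G]

/-- Across a normal subgroup of prime index the degree is multiplied by one or by the prime. -/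
theorem ratio_prime_index (p : ℕ) [Fact p.Prime] (M : Subgroup G) [M.Normal] [Fintype M]
    (hM : M.index = p) {χ : G → ℂ} (hχ : Cfsg.IsIrrCharacter G χ) {ψ : M → ℂ}
    (hψ : Cfsg.IsIrrCharacter M ψ)
    (h : Cfsg.classInner (fun m : M => χ m) ψ ≠ 0) : χ 1 = ψ 1 ∨ χ 1 = p * ψ 1 := by
  have hp : p.Prime := Fact.out
  set I := CharInduce.inertia M ψ with hI
  have hMI : M ≤ I := CharInduce.le_inertia M (IsIrr.isClassFunction hψ)
  rcases (Nat.dvd_prime hp).1 (hM ▸ Subgroup.index_dvd_of_le hMI) with h1 | h1
  · -- invariant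
    left
    have htop : I = ⊤ := Subgroup.index_eq_one.1 h1
    have hinv : ∀ x, CharInduce.conjFun M ψ x = ψ := fun x => by
      have : x ∈ I := htop ▸ Subgroup.mem_top x
      exact this
    haveI : Fact (Nat.card (G ⧸ M)).Prime := ⟨by rw [← Subgroup.index_eq_card, hM]; exact hp⟩
    have hcyc : IsCyclic (G ⧸ M) := isCyclic_of_prime_card rfl
    obtain ⟨η, hη, hηr⟩ := S0886.result M hcyc ψ hψ fun g n => congrFun (hinv g) n
    have hprod : (fun _ : M => (1 : ℂ)) * ψ = ψ := by funext m; simp
    obtain ⟨β, hβ, hβe⟩ := (CharInduce.gallagher M (φ := fun _ : M => (1 : ℂ)) isIrrCharacter_one hψ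
      (CharInduce.conjFun_one_char M) hinv (by rw [hprod]; exact hψ) hη hηr).2.2 χ hχ (by
      rw [hprod, CharInduce.classInner_indFun_left M _ _ (IsIrr.isClassFunction hχ),
        ← classInner_conj_symm]
      exact fun e => h ((map_eq_zero _).1 e))
    rw [CharInduce.mem_above, CharInduce.classInner_indFun_left M _ _
      (IsIrr.isClassFunction β.2)] at hβ
    have hβM : ∀ n ∈ M, (β : G → ℂ) n = (β : G → ℂ) 1 :=
      (CharInduce.constituent_one_iff M β.2).1 (by
        rw [← classInner_conj_symm]
        exact fun e => hβ ((map_eq_zero _).1 e))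
    obtain ⟨γ, -, hγ, hγi⟩ := CharInduce.IsChar.exists_deflate (IsIrr.isCharacter β.2) M hβM
    haveI : Fintype (G ⧸ M) := Fintype.ofFinite _
    have hγ1 : γ 1 = 1 := by
      refine commutative_iff_forall_linear.1 (fun a b => ?_) ⟨γ, hγi β.2⟩
      obtain ⟨g, hg⟩ := hcyc.exists_generator
      obtain ⟨i, rfl⟩ := Subgroup.mem_zpowers_iff.1 (hg a)
      obtain ⟨j, rfl⟩ := Subgroup.mem_zpowers_iff.1 (hg b)
      rw [← zpow_add, ← zpow_add, add_comm]
    rw [← hβe, Pi.mul_apply, hγ 1, QuotientGroup.mk_one, hγ1, one_mul, ← hηr 1,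
      Subgroup.coe_one]
  · -- induced
    right
    have hIM : I = M := by
      refine le_antisymm (fun x hx => ?_) hMI
      by_contra hxM
      have : M < I := lt_of_le_of_ne hMI fun e => hxM (e ▸ hx)
      exact absurd (h1.trans hM.symm) (Subgroup.index_strictAnti this).ne
    obtain ⟨φ, hφ, hind, f, hf, hres⟩ := CharInduce.exists_clifford_correspondent M hχ hψ h
    have hφM : Cfsg.IsIrrCharacter M (fun m : M => φ (Subgroup.inclusion hMI m)) :=
      CharInduce.IsIrr.comp hφ (Subgroup.inclusion hMI) fun x => ⟨⟨x, hIM.le x.2⟩, rfl⟩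
    have hf1 : f = 1 := by
      have e : (fun m : M => φ (Subgroup.inclusion hMI m)) = (f : ℂ) • ψ := funext hres
      have h1 := classInner_irr_self hφM
      rw [e, classInner_smul_left, classInner_smul_right, classInner_irr_self hψ, mul_one,
        map_natCast] at h1
      have : f * f = 1 := by exact_mod_cast h1
      exact Nat.eq_one_of_mul_eq_one_right this
    have h3 := hres 1
    rw [hf1, Nat.cast_one, one_mul] at h3
    rw [← hind, CharInduce.indFun_one]
    show (I.index : ℂ) * φ 1 = _
    rw [h1, ← h3]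
    rfl

/-- An irreducible character over one of a normal subgroup with `p`-group quotient has degree a
`p`-power multiple. -/
theorem exists_ratio_pow (p : ℕ) [Fact p.Prime] : ∀ (n : ℕ) {G : Type u} [Group G] [Fintype G]
    (N : Subgroup G) [N.Normal] [Fintype N], N.index = n → IsPGroup p (G ⧸ N) → ∀ {χ : G → ℂ}
    {φ : N → ℂ}, Cfsg.IsIrrCharacter G χ → Cfsg.IsIrrCharacter N φ →
    Cfsg.classInner (fun k : N => χ k) φ ≠ 0 → ∃ k : ℕ, χ 1 = (p : ℂ) ^ k * φ 1 := by
  intro n
  induction n using Nat.strong_induction_on with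
  | _ n ih =>
    intro G _ _ N _ _ hn hP χ φ hχ hφ h
    by_cases hN : N = ⊤
    · refine ⟨0, ?_⟩
      have hres : Cfsg.IsIrrCharacter N (fun k : N => χ k) :=
        CharInduce.IsIrr.comp hχ N.subtype fun x => ⟨⟨x, hN ▸ Subgroup.mem_top x⟩, rfl⟩
      have e : (fun k : N => χ k) = φ := by
        by_contra hne
        exact h (classInner_irr_of_ne hres hφ hne)
      rw [pow_zero, one_mul, ← e]
      rfl
    haveI : Nontrivial (G ⧸ N) := QuotientGroup.nontrivial_iff.2 hN
    obtain ⟨K, hK, -⟩ := IsCoatomic.eq_top_or_exists_le_coatom (⊥ : Subgroup (G ⧸ N))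
      |>.resolve_left bot_ne_top
    haveI := PGroups.normal_of_isCoatom hP hK
    set M := K.comap (QuotientGroup.mk' N) with hM
    have hidx : M.index = p := by
      rw [hM, Subgroup.index_comap_of_surjective _ (QuotientGroup.mk'_surjective N),
        PGroups.index_eq_of_isCoatom hP hK]
    have hNM : N ≤ M := by
      intro x hx
      rw [hM, Subgroup.mem_comap, QuotientGroup.mk'_apply, (QuotientGroup.eq_one_iff x).2 hx]
      exact K.one_mem
    haveI : Fintype M := Fintype.ofFinite M
    haveI : Fintype (N.subgroupOf M) := Fintype.ofFinite _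
    let e : N.subgroupOf M ≃* N := Subgroup.subgroupOfEquivOfLe hNM
    have hlt : (N.subgroupOf M).index < n := by
      rw [← hn, ← Subgroup.relIndex_mul_index hNM, hidx]
      show N.relIndex M < N.relIndex M * p
      exact lt_mul_of_one_lt_right (Nat.pos_of_ne_zero (Subgroup.index_ne_zero_of_finite (H := N.subgroupOf M)))
        (Fact.out : p.Prime).one_lt
    have hP' : IsPGroup p (M ⧸ N.subgroupOf M) := by
      refine hP.of_injective (QuotientGroup.lift (N.subgroupOf M)
        ((QuotientGroup.mk' N).comp M.subtype) fun x hx =>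
          (QuotientGroup.eq_one_iff _).2 hx) ?_
      rw [injective_iff_map_eq_one]
      intro x
      induction x using QuotientGroup.induction_on with
      | _ x => exact fun hx => (QuotientGroup.eq_one_iff x).2 ((QuotientGroup.eq_one_iff (x : G)).1 hx)
    have hφ' : Cfsg.IsIrrCharacter (N.subgroupOf M) (fun x => φ (e x)) :=
      CharInduce.IsIrr.comp hφ e.toMonoidHom e.surjective
    -- a constituent of the restriction to `M` above `φ`
    have hcM := CharInduce.IsChar.res (IsIrr.isCharacter hχ) M
    obtain ⟨ψ, hψχ, hψφ⟩ : ∃ ψ : Cfsg.IrrCharacter M,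
        Cfsg.classInner (fun m : M => χ m) (ψ : M → ℂ) ≠ 0 ∧
        Cfsg.classInner (fun x : N.subgroupOf M => (ψ : M → ℂ) x) (fun x => φ (e x)) ≠ 0 := by
      by_contra hcon
      push Not at hcon
      refine h ?_
      have hexp := classFunction_expansion (IsChar.isClassFunction hcM)
      have hN' : Cfsg.classInner (fun x : N.subgroupOf M => χ ((x : M) : G)) (fun x => φ (e x)) = 0 := by
        have he : (fun x : N.subgroupOf M => χ ((x : M) : G)) =
            ∑ ψ : Cfsg.IrrCharacter M, Cfsg.classInner (fun m : M => χ m) (ψ : M → ℂ) •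
              (fun x : N.subgroupOf M => (ψ : M → ℂ) x) := by
          funext x
          have := congrFun hexp (x : M)
          simpa [Finset.sum_apply] using this
        rw [he, classInner_sum_left]
        refine Finset.sum_eq_zero fun ψ _ => ?_
        rw [classInner_smul_left]
        by_cases hc : Cfsg.classInner (fun m : M => χ m) (ψ : M → ℂ) = 0
        · rw [hc, zero_mul]
        · rw [hcon ψ hc, mul_zero]
      rw [← hN']
      exact (CharInduce.classInner_comp_mulEquiv e (fun k : N => χ k) φ).symm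
    obtain ⟨k, hk⟩ := ih _ hlt (N.subgroupOf M) rfl hP' ψ.2 hφ' hψφ
    rw [map_one] at hk
    rcases ratio_prime_index p M hidx hχ ψ.2 hψχ with h1 | h1
    · exact ⟨k, h1.trans hk⟩
    · exact ⟨k + 1, by rw [h1, hk, pow_succ]; ring⟩

end Cfsg.Agent.H85
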