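import Cfsg.Agent.CharInduce.Twist
import Mathlib.GroupTheory.GroupAction.Quotient
import Mathlib.GroupTheory.QuotientGroup.Basic

/-!
# Orbits on real characters and real classes of a normal subgroup of odd index
-/

set_option linter.unusedSectionVars false

open scoped ComplexConjugate

namespace Cfsg.Agent.H85

open Cfsg.Agent.CharBasic

variable {G : Type*} [Group G] [Finite G] (K : Subgroup G) [K.Normal]

/-- Conjugate-inverse. -/
def invConj (g : G) (k : K) : K := (MulAut.conjNormal g k)⁻¹

theorem iterate_invConj (g : G) (k : K) (j : ℕ) :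
    (invConj K g)^[2 * j + 1] k = (MulAut.conjNormal (g ^ (2 * j + 1)) k)⁻¹ := by
  induction j with
  | zero => simp [invConj]
  | succ j ih =>
    rw [show 2 * (j + 1) + 1 = (2 * j + 1) + 1 + 1 by ring, Function.iterate_succ_apply',
      Function.iterate_succ_apply', ih]
    simp only [invConj, map_inv, inv_inv]
    refine congrArg _ (Subtype.ext ?_)
    simp only [MulAut.conjNormal_apply, pow_succ']
    group

theorem exists_odd_pow_mem (hodd : Odd K.index) (g : G) : ∃ j : ℕ, g ^ (2 * j + 1) ∈ K := by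
  have hd : orderOf (g : G ⧸ K) ∣ K.index := by
    rw [Subgroup.index]
    exact orderOf_dvd_natCard _
  obtain ⟨c, hc⟩ := hd
  have : Odd (orderOf (g : G ⧸ K)) := (Nat.odd_mul.1 (hc ▸ hodd)).1
  obtain ⟨j, hj⟩ := this
  refine ⟨j, ?_⟩
  rw [← hj, ← QuotientGroup.eq_one_iff, QuotientGroup.mk_pow, pow_orderOf_eq_one]

theorem isConj_conjNormal_of_mem {n : G} (hn : n ∈ K) (k : K) :
    IsConj k (MulAut.conjNormal n k) :=
  isConj_iff.2 ⟨⟨n, hn⟩, Subtype.ext (by simp [MulAut.conjNormal_apply])⟩

theorem isConj_inv_inv {H : Type*} [Group H] {a b : H} (h : IsConj a b) : IsConj a⁻¹ b⁻¹ := by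
  obtain ⟨c, rfl⟩ := isConj_iff.1 h
  exact isConj_iff.2 ⟨c, by group⟩

theorem isConj_map {H L : Type*} [Group H] [Group L] (f : H →* L) {a b : H} (h : IsConj a b) :
    IsConj (f a) (f b) := MonoidHom.map_isConj f h

theorem isIrr_invConj (g : G) (θ : Cfsg.IrrCharacter K) :
    Cfsg.IsIrrCharacter K ((θ : K → ℂ) ∘ invConj K g) :=
  CharInduce.isIrr_comp_mulEquiv (MulAut.conjNormal g) ⟨_, CharInduce.isIrr_comp_inv θ⟩

theorem im_eq_zero_iff (θ : Cfsg.IrrCharacter K) (k : K) :
    ((θ : K → ℂ) k).im = 0 ↔ (θ : K → ℂ) k⁻¹ = (θ : K → ℂ) k := by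
  rw [IsChar.inv_apply (IsIrr.isCharacter θ.2), Complex.conj_eq_iff_im]

/-- A character is fixed by conjugate-inverse iff it is real and fixed by conjugation. -/
theorem comp_invConj_eq_iff (hodd : Odd K.index) (g : G) (θ : Cfsg.IrrCharacter K) :
    (θ : K → ℂ) ∘ invConj K g = θ ↔
      (∀ k, ((θ : K → ℂ) k).im = 0) ∧
        ∀ k, (θ : K → ℂ) (MulAut.conjNormal g k) = (θ : K → ℂ) k := by
  simp only [im_eq_zero_iff]
  constructor
  · intro h
    have hit : ∀ j k, (θ : K → ℂ) ((invConj K g)^[j] k) = (θ : K → ℂ) k := by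
      intro j
      induction j with
      | zero => simp
      | succ j ih => intro k; rw [Function.iterate_succ_apply]; exact (ih _).trans (congrFun h k)
    obtain ⟨j, hj⟩ := exists_odd_pow_mem K hodd g
    have hreal : ∀ k, (θ : K → ℂ) k⁻¹ = (θ : K → ℂ) k := fun k => by
      conv_rhs => rw [← hit (2 * j + 1) k, iterate_invConj]
      obtain ⟨c, hc⟩ := isConj_iff.1 (isConj_inv_inv (isConj_conjNormal_of_mem K hj k))
      rw [← hc, IsIrr.isClassFunction θ.2]
    refine ⟨hreal, fun k => ?_⟩
    rw [← hreal (MulAut.conjNormal g k)]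
    exact congrFun h k
  · rintro ⟨h1, h2⟩
    funext k
    exact (h1 _).trans (h2 k)

/-- A class is fixed by conjugate-inverse iff it is real and fixed by conjugation. -/
theorem class_invConj_iff (hodd : Odd K.index) (g : G) (C : ConjClasses K) :
    (∀ k : K, ConjClasses.mk k = C → IsConj k (invConj K g k)) ↔
      (∀ k : K, ConjClasses.mk k = C → IsConj k k⁻¹) ∧
        ∀ k : K, ConjClasses.mk k = C → IsConj k (MulAut.conjNormal g k) := by
  constructor
  · intro h
    have hreal : ∀ k : K, ConjClasses.mk k = C → IsConj k k⁻¹ := by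
      intro k hk
      have hit : ∀ j, IsConj k ((invConj K g)^[j] k) := by
        intro j
        induction j with
        | zero => exact IsConj.refl k
        | succ j ih =>
          rw [Function.iterate_succ_apply']
          exact (h k hk).trans (isConj_inv_inv (isConj_map (MulAut.conjNormal g : K ≃* K).toMonoidHom ih))
      obtain ⟨j, hj⟩ := exists_odd_pow_mem K hodd g
      have h1 := hit (2 * j + 1)
      rw [iterate_invConj] at h1
      exact h1.trans (isConj_inv_inv (isConj_conjNormal_of_mem K hj k)).symm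
    refine ⟨hreal, fun k hk => ?_⟩
    have h1 := (hreal k hk).trans (isConj_inv_inv (h k hk))
    simpa [invConj] using h1
  · rintro ⟨h1, h2⟩ k hk
    exact (h1 k hk).trans (isConj_inv_inv (h2 k hk))

/-- The real irreducible characters of `K`. -/
abbrev RealIrr : Type _ := {θ : Cfsg.IrrCharacter K // ∀ k : K, ((θ : K → ℂ) k).im = 0}

/-- The real classes of `K`. -/
abbrev RealClass : Type _ :=
  {C : ConjClasses K // ∀ k : K, ConjClasses.mk k = C → IsConj k k⁻¹}

/-- `G` permutes the real irreducible characters of `K`. -/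
@[instance_reducible]
noncomputable def actionRealIrr : MulAction G (RealIrr K) where
  smul g θ := ⟨⟨(θ.1 : K → ℂ) ∘ (MulAut.conjNormal g⁻¹ : K ≃* K),
    CharInduce.isIrr_comp_mulEquiv _ θ.1⟩, fun k => θ.2 _⟩
  one_smul θ := Subtype.ext (Subtype.ext (funext fun k => congrArg (θ.1 : K → ℂ)
    (Subtype.ext (by simp))))
  mul_smul g h θ := Subtype.ext (Subtype.ext (funext fun k => congrArg (θ.1 : K → ℂ)
    (Subtype.ext (by simp [mul_assoc]))))

/-- `G` permutes the real classes of `K`. -/
@[instance_reducible]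
noncomputable def actionRealClass : MulAction G (RealClass K) where
  smul g C := ⟨ConjClasses.map (MulAut.conjNormal g : K ≃* K).toMonoidHom C.1, fun k hk => by
    obtain ⟨k', hk'⟩ := ConjClasses.exists_rep C.1
    rw [← hk'] at hk
    change ConjClasses.mk k = ConjClasses.mk _ at hk
    rw [ConjClasses.mk_eq_mk_iff_isConj] at hk
    have h2 := isConj_map (MulAut.conjNormal g : K ≃* K).toMonoidHom (C.2 k' hk')
    rw [map_inv] at h2
    exact hk.trans (h2.trans (isConj_inv_inv hk.symm))⟩
  one_smul C := by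
    obtain ⟨k, hk⟩ := ConjClasses.exists_rep C.1
    refine Subtype.ext ?_
    change ConjClasses.map _ C.1 = C.1
    rw [← hk]
    exact congrArg ConjClasses.mk (Subtype.ext (by simp))
  mul_smul g h C := by
    obtain ⟨k, hk⟩ := ConjClasses.exists_rep C.1
    refine Subtype.ext ?_
    change ConjClasses.map _ C.1 = ConjClasses.map _ (ConjClasses.map _ C.1)
    rw [← hk]
    exact congrArg ConjClasses.mk (Subtype.ext (by simp [mul_assoc]))

/-- Equal permutation characters give equal numbers of orbits. -/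
theorem card_orbits_eq {G : Type*} [Group G] [Finite G] {α β : Type*} [Finite α] [Finite β]
    [MulAction G α] [MulAction G β]
    (h : ∀ g : G, Nat.card (MulAction.fixedBy α g) = Nat.card (MulAction.fixedBy β g)) :
    Nat.card (Quotient (MulAction.orbitRel G α)) = Nat.card (Quotient (MulAction.orbitRel G β)) := by
  classical
  cases nonempty_fintype G
  have := Fintype.ofFinite α
  have := Fintype.ofFinite β
  have h1 := MulAction.sum_card_fixedBy_eq_card_orbits_mul_card_group G α
  have h2 := MulAction.sum_card_fixedBy_eq_card_orbits_mul_card_group G β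
  simp only [← Nat.card_eq_fintype_card] at h1 h2
  rw [Finset.sum_congr rfl fun g _ => h g, h2] at h1
  exact (Nat.eq_of_mul_eq_mul_right Nat.card_pos h1).symm

/-- `G` has as many orbits on real characters as on real classes of `K`. -/
theorem card_real_orbits (hodd : Odd K.index) :
    Nat.card (Quot (fun θ η : RealIrr K =>
      ∃ g : G, ∀ k k' : K, (k' : G) = g * (k : G) * g⁻¹ → (η.1 : K → ℂ) k' = (θ.1 : K → ℂ) k)) =
    Nat.card (Quot (fun x y : {x : K // IsConj x x⁻¹} => ∃ g : G, (y.1 : G) = g * x.1 * g⁻¹)) := by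
  classical
  letI := actionRealIrr K
  letI := actionRealClass K
  have : Finite (ConjClasses K) := Finite.of_surjective _ ConjClasses.mk_surjective
  have hfix : ∀ g : G, Nat.card (MulAction.fixedBy (RealIrr K) g) =
      Nat.card (MulAction.fixedBy (RealClass K) g) := by
    intro g
    have hI : MulAction.fixedBy (RealIrr K) g ≃
        {θ : Cfsg.IrrCharacter K // (θ : K → ℂ) ∘ invConj K g⁻¹ = θ} :=
      { toFun := fun θ => ⟨θ.1.1, (comp_invConj_eq_iff K hodd _ _).2 ⟨θ.1.2, fun k =>
          congrFun (congrArg Subtype.val (congrArg Subtype.val θ.2)) k⟩⟩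
        invFun := fun θ => ⟨⟨θ.1, ((comp_invConj_eq_iff K hodd _ _).1 θ.2).1⟩,
          Subtype.ext (Subtype.ext (funext ((comp_invConj_eq_iff K hodd _ _).1 θ.2).2))⟩
        left_inv := fun θ => rfl
        right_inv := fun θ => rfl }
    have hC : MulAction.fixedBy (RealClass K) g ≃
        {C : ConjClasses K // ∀ k : K, ConjClasses.mk k = C → IsConj k (invConj K g⁻¹ k)} :=
      { toFun := fun C => ⟨C.1.1, (class_invConj_iff K hodd _ _).2 ⟨C.1.2, fun k hk => by
          have h := congrArg Subtype.val C.2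
          change ConjClasses.map _ C.1.1 = C.1.1 at h
          rw [← hk] at h
          change ConjClasses.mk _ = ConjClasses.mk k at h
          rw [ConjClasses.mk_eq_mk_iff_isConj] at h
          have h' := isConj_map (MulAut.conjNormal g⁻¹ : K ≃* K).toMonoidHom h
          have e : (MulAut.conjNormal g⁻¹ : K ≃* K).toMonoidHom
              ((MulAut.conjNormal g : K ≃* K).toMonoidHom k) = k :=
            Subtype.ext (by simp)
          rwa [e] at h'⟩⟩
        invFun := fun C => ⟨⟨C.1, ((class_invConj_iff K hodd _ _).1 C.2).1⟩, Subtype.ext (by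
          obtain ⟨k, hk⟩ := ConjClasses.exists_rep C.1
          change ConjClasses.map _ C.1 = C.1
          rw [← hk]
          change ConjClasses.mk _ = ConjClasses.mk k
          rw [ConjClasses.mk_eq_mk_iff_isConj]
          have h' := isConj_map (MulAut.conjNormal g : K ≃* K).toMonoidHom
            (((class_invConj_iff K hodd _ _).1 C.2).2 k hk)
          have e : (MulAut.conjNormal g : K ≃* K).toMonoidHom (MulAut.conjNormal g⁻¹ k) = k :=
            Subtype.ext (by simp)
          rwa [e] at h')⟩
        left_inv := fun C => rfl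
        right_inv := fun C => rfl }
    rw [Nat.card_congr hI, Nat.card_congr hC]
    exact CharInduce.card_fixed_irr_eq_card_fixed_classes (invConj K g⁻¹) (isIrr_invConj K g⁻¹)
  have key := card_orbits_eq hfix
  rw [Nat.card_congr (Quot.congrRight (r' := (MulAction.orbitRel G (RealIrr K)).r) fun θ η => ?_)]
  · refine key.trans (Nat.card_congr (Equiv.ofBijective (Quot.lift
      (fun x => (Quotient.mk (MulAction.orbitRel G (RealClass K)) ⟨ConjClasses.mk x.1, ?_⟩)) ?_)
      ⟨?_, ?_⟩)).symm
    · intro k hk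
      rw [ConjClasses.mk_eq_mk_iff_isConj] at hk
      exact hk.trans (x.2.trans (isConj_inv_inv hk.symm))
    · rintro x y ⟨g, hg⟩
      refine Quotient.sound ⟨g⁻¹, Subtype.ext ?_⟩
      exact congrArg ConjClasses.mk (Subtype.ext (by simp [hg, mul_assoc]))
    · rintro ⟨x⟩ ⟨y⟩ h
      obtain ⟨g, hg⟩ := Quotient.exact h
      have hg' : ConjClasses.mk (MulAut.conjNormal g y.1) = ConjClasses.mk x.1 :=
        congrArg Subtype.val hg
      rw [ConjClasses.mk_eq_mk_iff_isConj, isConj_iff] at hg'
      obtain ⟨c, hc⟩ := hg'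
      refine (Quot.sound ⟨(c : G) * g, ?_⟩).symm
      rw [← hc]
      simp [mul_assoc]
    · rintro ⟨C, hC⟩
      obtain ⟨k, rfl⟩ := ConjClasses.exists_rep C
      exact ⟨Quot.mk _ ⟨k, hC k rfl⟩, rfl⟩
  · constructor
    · rintro ⟨g, hg⟩
      refine ⟨g⁻¹, Subtype.ext (Subtype.ext (funext fun k => ?_))⟩
      show (η.1 : K → ℂ) (MulAut.conjNormal g⁻¹⁻¹ k) = (θ.1 : K → ℂ) k
      exact hg k _ (by simp)
    · rintro ⟨g, hg⟩
      refine ⟨g⁻¹, fun k k' hk => ?_⟩
      rw [← hg]
      show (η.1 : K → ℂ) k' = (η.1 : K → ℂ) (MulAut.conjNormal g⁻¹ k)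
      exact congrArg _ (Subtype.ext (by simp [hk]))

end Cfsg.Agent.H85
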