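import Cfsg.Agent.H85.StrongReal
import Cfsg.Agent.CharBasic.Kernel
import Cfsg.Agent.Coprime.Centralize
import Cfsg.Agent.PGroups.Basic

/-!
# Real characters over an inverted linear character of a normal subgroup of odd order
-/

set_option linter.unusedSectionVars false

open scoped Classical ComplexConjugate

namespace Cfsg.Agent.H85

open Cfsg.Agent.CharBasic

/-- Two-valued cosets: index two. -/
theorem relIndex_eq_two {G : Type*} [Group G] (T S : Subgroup G) {a : G} (ha : a ∈ S) (haT : a ∉ T)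
    (h : ∀ b ∈ S, b ∉ T → b * a ∈ T) : T.relIndex S = 2 := by
  rw [Subgroup.relIndex, Subgroup.index_eq_two_iff]
  refine ⟨⟨a, ha⟩, fun b => ?_⟩
  simp only [Subgroup.mem_subgroupOf, Subgroup.coe_mul]
  by_cases hb : (b : G) ∈ T
  · exact Or.inr ⟨hb, fun hba => haT (by simpa using T.mul_mem (T.inv_mem hb) hba)⟩
  · exact Or.inl ⟨h b b.2 hb, hb⟩

/-- A character of `p'`-degree of a `p`-group has a linear constituent. -/
theorem exists_linear_constituent {P : Type*} [Group P] [Fintype P] {p : ℕ} [Fact p.Prime]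
    (hP : IsPGroup p P) {χ : P → ℂ} (hχ : Cfsg.IsCharacter P χ) {d : ℕ} (hd : χ 1 = d)
    (hpd : ¬ p ∣ d) :
    ∃ l : P →* ℂˣ, Cfsg.classInner χ (fun g => (l g : ℂ)) ≠ 0 := by
  by_contra hne
  push Not at hne
  obtain ⟨k, hk⟩ := (IsPGroup.iff_card (p := p) (G := P)).1 hP
  choose m hm using fun ψ : Cfsg.IrrCharacter P =>
    classInner_isChar_nat hχ (IsIrr.isCharacter ψ.2)
  have hexp := congrFun (classFunction_expansion (IsChar.isClassFunction hχ)) 1
  simp only [Finset.sum_apply, Pi.smul_apply, smul_eq_mul, hm, hd,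
    BlockBasic.apply_one_eq_charDegree] at hexp
  have hexp' : d = ∑ ψ : Cfsg.IrrCharacter P, m ψ * Cfsg.charDegree (ψ : P → ℂ) := by
    exact_mod_cast hexp
  refine hpd (hexp' ▸ Finset.dvd_sum fun ψ _ => ?_)
  obtain ⟨n, hn, hχn, hnd, -⟩ := IsIrr.degree_dvd ψ.2
  rw [BlockBasic.apply_one_eq_charDegree, Nat.cast_inj] at hχn
  rw [hχn]
  rw [hk] at hnd
  obtain ⟨j, -, hj⟩ := (Nat.dvd_prime_pow Fact.out).1 hnd
  rcases Nat.eq_zero_or_pos j with rfl | hj0
  · obtain ⟨l, hl⟩ := CharInduce.IsChar.exists_hom_of_degree_one (IsIrr.isCharacter ψ.2) (by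
      rw [BlockBasic.apply_one_eq_charDegree, hχn, hj, pow_zero, Nat.cast_one])
    have h0 := hne l
    rw [show (fun g => (l g : ℂ)) = (ψ : P → ℂ) from funext fun g => (hl g).symm, hm,
      Nat.cast_eq_zero] at h0
    simp [h0]
  · exact Dvd.dvd.mul_left (hj ▸ dvd_pow_self p hj0.ne') _

variable {G : Type*} [Group G] [Fintype G] {p : ℕ} [Fact p.Prime] (M : Subgroup G) [M.Normal]
  [Fintype M]

/-- A 2-element acting nontrivially on a normal `p`-subgroup yields an inverted linear character. -/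
theorem exists_inverted_linear (hp : p ≠ 2) (hM : IsPGroup p M) {t : G} {k : ℕ}
    (ht : orderOf t = 2 ^ k) (hnc : ¬ ∀ m ∈ M, t * m = m * t) :
    ∃ lam : M →* ℂˣ, lam ≠ 1 ∧ ∃ g : G, ∀ n, lam (MulAut.conjNormal g n) = (lam n)⁻¹ := by
  have hdual : ¬ ∀ (μ : M →* ℂˣ) (m : M), μ (MulAut.conjNormal t m) = μ m := by
    intro hall
    refine hnc ?_
    have hcomm : ∀ m : M, MulAut.conjNormal t m * m⁻¹ ∈ commutator M := by
      intro m
      by_contra hx
      have hx' : Abelianization.of (MulAut.conjNormal t m * m⁻¹) ≠ 1 := fun h => hx (by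
        rw [← Abelianization.ker_of M]; exact h)
      obtain ⟨φ, hφ⟩ := CommGroup.exists_apply_ne_one_of_hasEnoughRootsOfUnity
        (G := Abelianization M) (M := ℂ) hx'
      refine hφ ?_
      have := hall (φ.comp Abelianization.of) m
      simp only [MonoidHom.comp_apply] at this
      rw [map_mul, map_inv, map_mul, map_inv, this, mul_inv_cancel]
    have hfr : ∀ m : M, ((MulAut.conjNormal t m * m⁻¹ : M) : G) ∈ (frattini M).map M.subtype :=
      fun m => ⟨_, PGroups.commutator_le_frattini hM (hcomm m), rfl⟩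
    have htriv : ∀ a ∈ Subgroup.zpowers t, ∀ x ∈ M,
        a * x * a⁻¹ * x⁻¹ ∈ (frattini M).map M.subtype := by
      intro a ha
      obtain ⟨i, rfl⟩ := (mem_powers_iff_mem_zpowers.2 ha)
      induction i with
      | zero => intro x _; simp
      | succ i ih =>
        intro x hx
        have hy : t ^ i * x * (t ^ i)⁻¹ ∈ M := Subgroup.Normal.conj_mem inferInstance x hx _
        have h1 := hfr ⟨_, hy⟩
        rw [Subgroup.coe_mul, MulAut.conjNormal_apply, InvMemClass.coe_inv] at h1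
        have h2 := ih (Subgroup.npow_mem_zpowers t i) x hx
        have := Subgroup.mul_mem _ h1 h2
        show t ^ (i + 1) * x * (t ^ (i + 1))⁻¹ * x⁻¹ ∈ _
        convert this using 1
        rw [pow_succ']
        group
    have hcop : (Nat.card (Subgroup.zpowers t)).Coprime (Nat.card (frattini M)) := by
      obtain ⟨j, hj⟩ := (IsPGroup.iff_card (p := p)).1 (hM.to_subgroup (frattini M))
      rw [Nat.card_zpowers, ht, hj]
      exact Nat.Coprime.pow _ _ ((Nat.coprime_primes Nat.prime_two Fact.out).2 (Ne.symm hp))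
    have := Coprime.le_centralizer_of_frattini
      (by rw [Subgroup.normalizer_eq_top M]; exact le_top) hcop htriv (Subgroup.mem_zpowers t)
    exact fun m hm => (Subgroup.mem_centralizer_iff.1 this m hm).symm
  push Not at hdual
  obtain ⟨μ, m, hμ⟩ := hdual
  -- the smallest power of `t` acting trivially on linear characters
  let P : ℕ → Prop := fun j => ∀ (μ : M →* ℂˣ) (m : M), μ (MulAut.conjNormal (t ^ 2 ^ j) m) = μ m
  have hex : ∃ j, P j := ⟨k, fun μ m => by rw [← ht, pow_orderOf_eq_one, map_one]; rfl⟩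
  have hj := Nat.find_spec hex
  obtain ⟨j, hj'⟩ : ∃ j, Nat.find hex = j + 1 := by
    refine ⟨Nat.find hex - 1, (Nat.succ_pred_eq_of_ne_zero fun h => hμ ?_).symm⟩
    rw [h] at hj
    simpa using hj μ m
  have hnj : ¬ P j := Nat.find_min hex (by omega)
  simp only [P] at hnj
  push Not at hnj
  obtain ⟨μ', m', hμ'⟩ := hnj
  set u := t ^ 2 ^ j with hu
  rw [hj'] at hj
  have huu : ∀ (ν : M →* ℂˣ) (n : M), ν (MulAut.conjNormal u (MulAut.conjNormal u n)) = ν n := by
    intro ν n
    rw [← MulAut.mul_apply, ← map_mul, hu, ← pow_add, ← two_mul, ← pow_succ']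
    exact hj ν n
  refine ⟨μ' / μ'.comp (MulAut.conjNormal u).toMonoidHom, fun h => hμ' ?_, u, fun n => ?_⟩
  · have h' := DFunLike.congr_fun h m'
    rw [MonoidHom.div_apply, MonoidHom.one_apply, div_eq_one] at h'
    exact h'.symm
  · show μ' (MulAut.conjNormal u n) / μ' (MulAut.conjNormal u (MulAut.conjNormal u n)) =
      (μ' n / μ' (MulAut.conjNormal u n))⁻¹
    rw [huu, inv_div]

/-- A real irreducible character over an inverted linear character. -/
theorem exists_real_over (hp : p ≠ 2) (hM : IsPGroup p M) (lam : M →* ℂˣ) (hlam : lam ≠ 1) {g : G}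
    (hg : ∀ n, lam (MulAut.conjNormal g n) = (lam n)⁻¹) :
    ∃ χ : Cfsg.IrrCharacter G, (∀ x, ((χ : G → ℂ) x).im = 0) ∧
      Cfsg.classInner (fun n : M => (χ : G → ℂ) n) (fun n => (lam n : ℂ)) ≠ 0 := by
  set lc : M → ℂ := fun n => (lam n : ℂ) with hlc
  have hirr : Cfsg.IsIrrCharacter M lc := CharInduce.isIrrCharacter_hom lam
  set T := CharInduce.inertia M lc with hT
  have hMT : M ≤ T := CharInduce.le_inertia M (IsIrr.isClassFunction hirr)
  have hTmem : ∀ x : G, x ∈ T ↔ ∀ n : M, lam (MulAut.conjNormal x n) = lam n := fun x => by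
    rw [hT, CharInduce.mem_inertia, CharInduce.conjFun_eq_comp, funext_iff]
    exact ⟨fun h n => Units.ext (h n), fun h n => congrArg Units.val (h n)⟩
  -- the stabilizer of the pair
  have hcomp : ∀ x y : G, ∀ n, lam (MulAut.conjNormal (x * y) n) =
      lam (MulAut.conjNormal x (MulAut.conjNormal y n)) := fun x y n => by
    rw [map_mul, MulAut.mul_apply]
  let Ts : Subgroup G :=
    { carrier := {x | x ∈ T ∨ ∀ n, lam (MulAut.conjNormal x n) = (lam n)⁻¹}
      one_mem' := Or.inl T.one_mem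
      mul_mem' := by
        rintro a b (ha | ha) (hb | hb)
        · exact Or.inl (T.mul_mem ha hb)
        · exact Or.inr fun n => by rw [hcomp, (hTmem a).1 ha, hb]
        · exact Or.inr fun n => by rw [hcomp, ha, (hTmem b).1 hb]
        · exact Or.inl ((hTmem _).2 fun n => by rw [hcomp, ha, hb, inv_inv])
      inv_mem' := by
        rintro a (ha | ha)
        · exact Or.inl (T.inv_mem ha)
        · refine Or.inr fun n => ?_
          have h := ha (MulAut.conjNormal a⁻¹ n)
          rw [← hcomp, mul_inv_cancel, map_one, MulAut.one_apply] at h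
          rw [h, inv_inv] }
  have hodd : ∀ n : M, lam n * lam n = 1 → lam n = 1 := by
    intro n h
    obtain ⟨a, ha⟩ := hM n
    have h2 : lam n ^ p ^ a = 1 := by rw [← map_pow, ha, map_one]
    have : p ^ a % 2 = 1 :=
      Nat.odd_iff.1 (((Nat.Prime.eq_two_or_odd' Fact.out).resolve_left hp).pow)
    rwa [← Nat.div_add_mod (p ^ a) 2, this, pow_succ, pow_mul, pow_two, h, one_pow, one_mul] at h2
  have hgT : g ∉ T := fun h => hlam (MonoidHom.ext fun n => hodd n (by
    have e : lam n = (lam n)⁻¹ := ((hTmem g).1 h n).symm.trans (hg n)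
    exact eq_inv_iff_mul_eq_one.1 e))
  have hprod : ∀ a b : G, a ∈ Ts → a ∉ T → b ∈ Ts → b ∉ T → a * b ∈ T := fun a b ha ha' hb hb' =>
    (hTmem _).2 fun n => by rw [hcomp, ha.resolve_left ha', hb.resolve_left hb', inv_inv]
  have hTTs : T ≤ Ts := fun x hx => Or.inl hx
  have h2 : T.relIndex Ts = 2 :=
    relIndex_eq_two T Ts (Or.inr hg : g ∈ Ts) hgT fun b hb hb' => hprod b g hb hb' (Or.inr hg) hgT
  -- a Sylow 2-subgroup
  obtain ⟨S'⟩ : Nonempty (Sylow 2 Ts) := inferInstance
  set S : Subgroup G := (S' : Subgroup Ts).map Ts.subtype with hS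
  have hSTs : S ≤ Ts := Subgroup.map_subtype_le _
  have hSodd : ¬ 2 ∣ S.relIndex Ts := by
    rw [Subgroup.relIndex, Subgroup.subgroupOf, hS,
      Subgroup.comap_map_eq_self_of_injective Ts.subtype_injective]
    exact S'.not_dvd_index
  obtain ⟨s, hsS, hsT⟩ : ∃ s ∈ S, s ∉ T := by
    by_contra h
    push Not at h
    exact hSodd (h2 ▸ Subgroup.relIndex_dvd_of_le_left Ts (show S ≤ T from h))
  have hs : ∀ n, lam (MulAut.conjNormal s n) = (lam n)⁻¹ := (hSTs hsS).resolve_left hsT
  set S0 := T ⊓ S with hS0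
  have h2S : T.relIndex S = 2 := relIndex_eq_two T S hsS hsT fun b hb hb' =>
    hprod b s (hSTs hb) hb' (hSTs hsS) hsT
  have hS2 : IsPGroup 2 S := S'.isPGroup'.map _
  have hdisj : M ⊓ S0 = ⊥ := (hM.disjoint_of_ne p 2 hp M S0
    (hS2.to_le inf_le_right)).eq_bot
  set D := M ⊔ S0 with hD
  have hDT : D ≤ T := sup_le hMT inf_le_left
  have hTD : ¬ 2 ∣ D.relIndex T := by
    intro hdvd
    have e1 : S0.relIndex S * S.relIndex Ts = S0.relIndex Ts :=
      Subgroup.relIndex_mul_relIndex _ _ _ inf_le_right hSTs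
    have e2 : S0.relIndex D * D.relIndex T = S0.relIndex T :=
      Subgroup.relIndex_mul_relIndex _ _ _ le_sup_right hDT
    have e3 : S0.relIndex T * T.relIndex Ts = S0.relIndex Ts :=
      Subgroup.relIndex_mul_relIndex _ _ _ inf_le_left hTTs
    rw [Subgroup.inf_relIndex_right, h2S] at e1
    rw [h2, ← e1, ← e2] at e3
    refine hSodd ?_
    have : S.relIndex Ts = S0.relIndex D * D.relIndex T := by linarith
    rw [this]
    exact Dvd.dvd.mul_left hdvd _
  -- the extension to `D`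
  obtain ⟨π, hπS, hπM, hπval⟩ := exists_proj (M.subgroupOf D) (S0.subgroupOf D) (by
      rw [Subgroup.subgroupOf, Subgroup.subgroupOf, ← Subgroup.comap_inf]; simp [hdisj]) (by
      rw [← Subgroup.subgroupOf_sup le_sup_left le_sup_right, Subgroup.subgroupOf_self])
  have hπT : ∀ d : D, ((π d : D) : G) ∈ T := fun d =>
    (Subgroup.mem_subgroupOf.1 (hπS d) : ((π d : D) : G) ∈ S0).1
  let η : D →* ℂˣ := MonoidHom.mk'
    (fun d => lam ⟨((d * (π d)⁻¹ : D) : G), hπM d⟩) fun a b => by
      have h1 : (⟨((a * b * (π (a * b))⁻¹ : D) : G), hπM _⟩ : M) =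
          (⟨((a * (π a)⁻¹ : D) : G), hπM a⟩ : M) *
            MulAut.conjNormal ((π a : D) : G) (⟨((b * (π b)⁻¹ : D) : G), hπM b⟩ : M) := by
        apply Subtype.ext
        simp only [Subgroup.coe_mul, MulAut.conjNormal_apply, map_mul, InvMemClass.coe_inv]
        group
      rw [h1, map_mul, (hTmem _).1 (hπT a)]
  have hMD : M ≤ D := le_sup_left
  have hηM : ∀ n : M, η (Subgroup.inclusion hMD n) = lam n := fun n => by
    have h1 : π (Subgroup.inclusion hMD n) = 1 := by
      simpa using hπval _ (Subgroup.mem_subgroupOf.2 n.2) 1 (Subgroup.one_mem _)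
    exact congrArg lam (Subtype.ext (by simp [h1]))
  -- `s` conjugates the extension to its conjugate
  have hsS0 : ∀ u ∈ S0, s * u * s⁻¹ ∈ S0 := fun u hu => by
    refine ⟨(hTmem _).2 fun n => ?_, S.mul_mem (S.mul_mem hsS hu.2) (S.inv_mem hsS)⟩
    have hsi : ∀ n, lam (MulAut.conjNormal s⁻¹ n) = (lam n)⁻¹ :=
      (Ts.inv_mem (hSTs hsS)).resolve_left fun h => hsT (by simpa using T.inv_mem h)
    rw [hcomp, hcomp, hs, (hTmem u).1 hu.1, hsi, inv_inv]
  have hsD : ∀ d ∈ D, s * d * s⁻¹ ∈ D := by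
    intro d hd
    obtain ⟨m, hm, u, hu, rfl⟩ := Subgroup.mem_sup_of_normal_left.1 hd
    rw [show s * (m * u) * s⁻¹ = (s * m * s⁻¹) * (s * u * s⁻¹) by group]
    exact Subgroup.mul_mem_sup (Subgroup.Normal.conj_mem inferInstance m hm s) (hsS0 u hu)
  have hsnorm : s ∈ Subgroup.normalizer (D : Set G) := Subgroup.mem_normalizer_fintype hsD
  have hηs : ∀ (y : G) (hy : y ∈ D) (hy' : s * y * s⁻¹ ∈ D),
      (η ⟨s * y * s⁻¹, hy'⟩ : ℂ) = conj (η ⟨y, hy⟩ : ℂ) := by
    intro y hy hy'
    obtain ⟨m, hm, u, hu, e⟩ := Subgroup.mem_sup_of_normal_left.1 hy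
    have hm' : s * m * s⁻¹ ∈ M := Subgroup.Normal.conj_mem inferInstance m hm s
    have hu' := hsS0 u hu
    have key : ∀ (v : G) (hv : v ∈ D), v ∈ S0 → η ⟨v, hv⟩ = 1 := fun v hv hvS => by
      have h1 : π ⟨v, hv⟩ = ⟨v, hv⟩ := by
        simpa using hπval 1 (Subgroup.one_mem _) ⟨v, hv⟩ (Subgroup.mem_subgroupOf.2 hvS)
      rw [show η ⟨v, hv⟩ = lam 1 from congrArg lam (Subtype.ext (by simp [h1])), map_one]
    have h1 : (⟨y, hy⟩ : D) = Subgroup.inclusion hMD ⟨m, hm⟩ *
        ⟨u, Subgroup.mem_sup_right hu⟩ := Subtype.ext e.symm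
    have h2 : (⟨s * y * s⁻¹, hy'⟩ : D) = Subgroup.inclusion hMD ⟨_, hm'⟩ *
        ⟨_, Subgroup.mem_sup_right hu'⟩ := Subtype.ext (by
      show s * y * s⁻¹ = s * m * s⁻¹ * (s * u * s⁻¹)
      rw [← e]; group)
    rw [h1, h2, map_mul, map_mul, key _ _ hu, key _ _ hu', mul_one, mul_one, hηM, hηM]
    have h3 : (⟨_, hm'⟩ : M) = MulAut.conjNormal s ⟨m, hm⟩ := Subtype.ext (by simp)
    rw [h3, hs, Units.val_inv_eq_inv_val]
    exact Complex.inv_eq_conj (CharInduce.norm_hom lam _)
  set ηc : D → ℂ := fun d => (η d : ℂ) with hηc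
  set θ := Cfsg.indFun D ηc with hθ
  have hreal : ∀ x, conj (θ x) = θ x := by
    intro x
    rw [hθ, CharInduce.conj_indFun, CharInduce.indFun_apply, CharInduce.indFun_apply]
    congr 1
    refine Fintype.sum_equiv (Equiv.mulRight s⁻¹) _ _ fun y => ?_
    rw [Equiv.coe_mulRight, show (y * s⁻¹)⁻¹ * x * (y * s⁻¹) = s * (y⁻¹ * x * y) * s⁻¹ by group]
    have hiff := Subgroup.mem_normalizer_iff.1 hsnorm (y⁻¹ * x * y)
    by_cases hy : y⁻¹ * x * y ∈ D
    · rw [CharInduce.extendByZero_of_mem _ hy, CharInduce.extendByZero_of_mem _ (hiff.1 hy)]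
      exact (hηs _ hy _).symm
    · rw [CharInduce.extendByZero_of_not_mem _ hy,
        CharInduce.extendByZero_of_not_mem _ fun h => hy (hiff.2 h)]
  have hηchar : Cfsg.IsIrrCharacter D ηc := CharInduce.isIrrCharacter_hom η
  have hθc : Cfsg.IsCharacter G θ := CharInduce.IsChar.ind D (IsIrr.isCharacter hηchar)
  choose c hc using fun χ : Cfsg.IrrCharacter G =>
    classInner_isChar_nat hθc (IsIrr.isCharacter χ.2)
  have hover : ∀ χ : Cfsg.IrrCharacter G, c χ ≠ 0 →
      Cfsg.classInner (fun n : M => (χ : G → ℂ) n) lc ≠ 0 := by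
    intro χ hc0
    have h1 : Cfsg.classInner ηc (fun d : D => (χ : G → ℂ) d) ≠ 0 := by
      rw [← CharInduce.classInner_indFun_left D _ _ (IsIrr.isClassFunction χ.2), ← hθ, hc]
      exact_mod_cast hc0
    obtain ⟨r, hr, hsum⟩ := CharInduce.IsChar.exists_eq_add
      (CharInduce.IsChar.res (IsIrr.isCharacter χ.2) D) hηchar (classInner_ne_zero_symm h1)
    obtain ⟨a, ha⟩ := classInner_isChar_nat
      (CharInduce.IsChar.comp hr (Subgroup.inclusion hMD)) (IsIrr.isCharacter hirr)
    have e : (fun n : M => (χ : G → ℂ) n) = lc + fun n => r (Subgroup.inclusion hMD n) := by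
      funext n
      have := congrFun hsum (Subgroup.inclusion hMD n)
      rw [Pi.add_apply] at this
      rw [Pi.add_apply]
      show _ = (lam n : ℂ) + _
      rw [← hηM n]
      exact this
    rw [e, classInner_add_left, classInner_irr_self hirr, ha]
    exact_mod_cast (by omega : (1 + a) ≠ 0)
  have hdvd : ∀ χ : Cfsg.IrrCharacter G, ∃ a : ℕ,
      c χ * Cfsg.charDegree (χ : G → ℂ) = a * T.index := by
    intro χ
    by_cases hc0 : c χ = 0
    · exact ⟨0, by simp [hc0]⟩
    have h := CharInduce.clifford_degree M χ.2 hirr (hover χ hc0)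
    obtain ⟨f, hf⟩ := classInner_isChar_nat
      (CharInduce.IsChar.res (IsIrr.isCharacter χ.2) M) (IsIrr.isCharacter hirr)
    rw [hf, ← hT, BlockBasic.apply_one_eq_charDegree, show lc 1 = 1 by simp [hlc], mul_one,
      ← Nat.cast_mul, Nat.cast_inj] at h
    exact ⟨c χ * f, by rw [h, mul_assoc]⟩
  choose a ha using hdvd
  have hsum : D.relIndex T = ∑ χ, a χ := by
    have hexp := congrFun (classFunction_expansion (IsChar.isClassFunction hθc)) 1
    simp only [Finset.sum_apply, Pi.smul_apply, smul_eq_mul, hc,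
      BlockBasic.apply_one_eq_charDegree] at hexp
    rw [hθ, CharInduce.indFun_one, show ηc 1 = 1 by simp [hηc], mul_one,
      ← Subgroup.relIndex_mul_index hDT] at hexp
    have hexp' : D.relIndex T * T.index =
        ∑ χ : Cfsg.IrrCharacter G, c χ * Cfsg.charDegree (χ : G → ℂ) := by exact_mod_cast hexp
    rw [Finset.sum_congr rfl fun χ _ => ha χ, ← Finset.sum_mul] at hexp'
    exact Nat.eq_of_mul_eq_mul_right (Nat.pos_of_ne_zero Subgroup.index_ne_zero_of_finite) hexp'
  let C : Cfsg.IrrCharacter G → Cfsg.IrrCharacter G := fun χ =>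
    ⟨fun x => conj ((χ : G → ℂ) x), CharInduce.IsIrr.conj χ.2⟩
  have hCC : ∀ χ, C (C χ) = χ := fun χ => Subtype.ext (funext fun x => by simp [C])
  have haC : ∀ χ, a (C χ) = a χ := by
    intro χ
    have hcC : c (C χ) = c χ := by
      have h : (c (C χ) : ℂ) = conj (c χ : ℂ) := by
        rw [← hc, ← hc, classInner_def, classInner_def, map_mul, map_inv₀, map_natCast, map_sum]
        exact congrArg _ (Finset.sum_congr rfl fun x _ => by simp [C, hreal])
      rw [map_natCast] at h
      exact_mod_cast h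
    have hdC : Cfsg.charDegree (C χ : G → ℂ) = Cfsg.charDegree (χ : G → ℂ) := by
      simp [Cfsg.charDegree, C]
    have h1 := ha (C χ)
    rw [hcC, hdC, ha χ] at h1
    exact (Nat.eq_of_mul_eq_mul_right (Nat.pos_of_ne_zero Subgroup.index_ne_zero_of_finite) h1).symm
  by_contra hne
  push Not at hne
  refine hTD ((ZMod.natCast_eq_zero_iff_even.1 ?_).two_dvd)
  rw [hsum, Nat.cast_sum]
  refine Finset.sum_involution (fun χ _ => C χ) (fun χ _ => ?_) (fun χ _ h0 he => ?_)
    (fun χ _ => Finset.mem_univ _) (fun χ _ => hCC χ)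
  · rw [haC]; exact CharTwo.add_self_eq_zero _
  · have hr : ∀ x, ((χ : G → ℂ) x).im = 0 := fun x =>
      Complex.conj_eq_iff_im.1 (congrArg (fun z : Cfsg.IrrCharacter G => (z : G → ℂ) x) he)
    refine h0 ?_
    have hc0 : c χ = 0 := by
      by_contra hc0
      exact hover χ hc0 (hne χ hr)
    have h1 := ha χ
    rw [hc0, zero_mul] at h1
    rw [(Nat.mul_eq_zero.1 h1.symm).resolve_right Subgroup.index_ne_zero_of_finite, Nat.cast_zero]

end Cfsg.Agent.H85
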