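import Cfsg.Agent.H85.RealOrbits
import Cfsg.Agent.CharInduce.Induce
import Cfsg.Agent.H85.RootCount

/-!
# Real characters over real characters of a normal subgroup of odd index
-/

set_option linter.unusedSectionVars false

open scoped ComplexConjugate

namespace Cfsg.Agent.H85

open Cfsg.Agent.CharBasic

variable {G : Type*} [Group G] [Fintype G] (K : Subgroup G) [K.Normal] [Fintype K]

/-- The real irreducible characters of the whole group. -/
abbrev RealIrrTop (G : Type*) [Group G] : Type _ :=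
  {χ : Cfsg.IrrCharacter G // ∀ g : G, ((χ : G → ℂ) g).im = 0}

/-- Being a constituent of the restriction. -/
def LiesOver (χ : Cfsg.IrrCharacter G) (θ : Cfsg.IrrCharacter K) : Prop :=
  Cfsg.classInner (fun k : K => (χ : G → ℂ) k) (θ : K → ℂ) ≠ 0

theorem card_realIrrTop (hodd : Odd K.index) :
    Nat.card (RealIrrTop G) =
      Nat.card (Quot (fun x y : {x : K // IsConj x x⁻¹} => ∃ g : G, (y.1 : G) = g * x.1 * g⁻¹)) := by
  classical
  have hfix := CharInduce.card_fixed_irr_eq_card_fixed_classes (G := G) (fun g => g⁻¹)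
    CharInduce.isIrr_comp_inv
  have e : RealIrrTop G ≃ {χ : Cfsg.IrrCharacter G // (χ : G → ℂ) ∘ (fun g => g⁻¹) = χ} :=
    Equiv.subtypeEquivRight fun χ => by
      constructor
      · intro h
        funext g
        show (χ : G → ℂ) g⁻¹ = _
        rw [IsChar.inv_apply (IsIrr.isCharacter χ.2)]
        exact Complex.conj_eq_iff_im.2 (h g)
      · intro h g
        rw [← Complex.conj_eq_iff_im, ← IsChar.inv_apply (IsIrr.isCharacter χ.2)]
        exact congrFun h g
  rw [Nat.card_congr e, hfix]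
  -- a real element of the group lies in `K` and is real there
  have hreal : ∀ x : G, IsConj x x⁻¹ → ∃ hx : x ∈ K, IsConj (⟨x, hx⟩ : K) (⟨x, hx⟩ : K)⁻¹ := by
    intro x hx
    obtain ⟨g, hg⟩ := isConj_iff.1 hx
    obtain ⟨j, hj⟩ := exists_odd_pow_mem K hodd g
    have hodd' : ∀ i : ℕ, g ^ (2 * i + 1) * x * (g ^ (2 * i + 1))⁻¹ = x⁻¹ := by
      intro i
      induction i with
      | zero => simpa using hg
      | succ i ih =>
        calc g ^ (2 * (i + 1) + 1) * x * (g ^ (2 * (i + 1) + 1))⁻¹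
            = g * (g * (g ^ (2 * i + 1) * x * (g ^ (2 * i + 1))⁻¹) * g⁻¹) * g⁻¹ := by
              rw [show 2 * (i + 1) + 1 = 2 * i + 1 + 1 + 1 by ring, pow_succ', pow_succ']; group
          _ = g * (g * x * g⁻¹)⁻¹ * g⁻¹ := by rw [ih]; group
          _ = g * x * g⁻¹ := by rw [hg, inv_inv]; exact hg
          _ = x⁻¹ := hg
    have hxK : x ∈ K := by
      rw [← QuotientGroup.eq_one_iff]
      have h1 : ((x : G ⧸ K))⁻¹ = (x : G ⧸ K) := by
        rw [← QuotientGroup.mk_inv, ← hodd' j, QuotientGroup.mk_mul, QuotientGroup.mk_mul,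
          (QuotientGroup.eq_one_iff _).2 hj, QuotientGroup.mk_inv,
          (QuotientGroup.eq_one_iff _).2 hj]
        simp
      have h2 : orderOf (x : G ⧸ K) ∣ 2 :=
        orderOf_dvd_of_pow_eq_one (by rw [sq]; exact inv_eq_iff_mul_eq_one.1 h1)
      have h3 : Odd (orderOf (x : G ⧸ K)) := by
        obtain ⟨c, hc⟩ := orderOf_dvd_natCard (x : G ⧸ K)
        exact (Nat.odd_mul.1 (hc ▸ (show Odd (Nat.card (G ⧸ K)) from hodd))).1
      rcases (Nat.dvd_prime Nat.prime_two).1 h2 with h | h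
      · exact orderOf_eq_one_iff.1 h
      · rw [h] at h3; exact absurd h3 (by decide)
    exact ⟨hxK, isConj_iff.2 ⟨⟨g ^ (2 * j + 1), hj⟩, Subtype.ext (hodd' j)⟩⟩
  refine (Nat.card_congr (Equiv.ofBijective
    (Quot.lift (fun x : {x : K // IsConj x x⁻¹} =>
      (⟨ConjClasses.mk (x.1 : G), ?_⟩ :
        {C : ConjClasses G // ∀ g : G, ConjClasses.mk g = C → IsConj g g⁻¹})) ?_) ⟨?_, ?_⟩)).symm
  · intro g hg
    rw [ConjClasses.mk_eq_mk_iff_isConj] at hg
    have h : IsConj (x.1 : G) (x.1 : G)⁻¹ := isConj_map K.subtype x.2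
    exact hg.trans (h.trans (isConj_inv_inv hg.symm))
  · rintro x y ⟨g, hg⟩
    exact Subtype.ext (ConjClasses.mk_eq_mk_iff_isConj.2 (isConj_iff.2 ⟨g, hg.symm⟩))
  · rintro ⟨x⟩ ⟨y⟩ h
    obtain ⟨g, hg⟩ := isConj_iff.1 (ConjClasses.mk_eq_mk_iff_isConj.1 (congrArg Subtype.val h))
    exact Quot.sound ⟨g, hg.symm⟩
  · rintro ⟨C, hC⟩
    obtain ⟨g, rfl⟩ := ConjClasses.exists_rep C
    obtain ⟨hgK, hgr⟩ := hreal g (hC g rfl)
    exact ⟨Quot.mk _ ⟨⟨g, hgK⟩, hgr⟩, rfl⟩

theorem exists_realIrr_over (hodd : Odd K.index) (θ : Cfsg.IrrCharacter K)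
    (hθ : ∀ k : K, ((θ : K → ℂ) k).im = 0) :
    ∃ χ : RealIrrTop G, LiesOver K χ.1 θ := by
  classical
  have hθc : IsCharacter K (θ : K → ℂ) := IsIrr.isCharacter θ.2
  have hres : ∀ χ : Cfsg.IrrCharacter G, IsCharacter K (fun k : K => (χ : G → ℂ) k) := fun χ =>
    CharInduce.IsChar.res (IsIrr.isCharacter χ.2) K
  choose e he using fun χ : Cfsg.IrrCharacter G => classInner_isChar_nat (hres χ) hθc
  -- the norm of the induced character
  obtain ⟨d, hd⟩ : K ≤ CharInduce.inertia K (θ : K → ℂ) ∧ True :=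
    ⟨CharInduce.le_inertia K (IsIrr.isClassFunction θ.2), trivial⟩
  set T := CharInduce.inertia K (θ : K → ℂ) with hT
  have hrel : Nat.card K * K.relIndex T = Nat.card T := by
    rw [Subgroup.relIndex, ← Nat.card_congr (Subgroup.subgroupOfEquivOfLe d).toEquiv]
    exact Subgroup.card_mul_index _
  have hodd' : Odd (K.relIndex T) := by
    obtain ⟨c, hc⟩ := Subgroup.relIndex_dvd_index_of_normal K T
    exact (Nat.odd_mul.1 (hc ▸ hodd)).1
  have hnorm : ∑ χ : Cfsg.IrrCharacter G, e χ ^ 2 = K.relIndex T := by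
    have h1 : Cfsg.classInner (Cfsg.indFun K (θ : K → ℂ)) (Cfsg.indFun K (θ : K → ℂ)) =
        ∑ χ : Cfsg.IrrCharacter G, ((e χ ^ 2 : ℕ) : ℂ) := by
      rw [classInner_eq_sum (CharInduce.isClassFunction_indFun K _)]
      refine Finset.sum_congr rfl fun χ _ => ?_
      rw [CharInduce.classInner_indFun_left K _ _ (IsIrr.isClassFunction χ.2),
        ← classInner_conj_symm (fun k : K => (χ : G → ℂ) k), he]
      simp [sq]
    have h2 : Cfsg.classInner (Cfsg.indFun K (θ : K → ℂ)) (Cfsg.indFun K (θ : K → ℂ)) =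
        (Nat.card K : ℂ)⁻¹ * (Nat.card T : ℂ) := by
      rw [CharInduce.classInner_indFun_right K _ _ (CharInduce.isClassFunction_indFun K _),
        CharInduce.indFun_res_normal, classInner_smul_left, classInner_sum_left]
      congr 1
      have : ∀ x : G, Cfsg.classInner (CharInduce.conjFun K (θ : K → ℂ) x) (θ : K → ℂ) =
          if x ∈ T then (1 : ℂ) else 0 := fun x => by
        rw [classInner_irr (CharInduce.isIrrCharacter_conjFun K θ.2 x) θ.2]
        exact if_congr Iff.rfl rfl rfl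
      rw [Finset.sum_congr rfl fun x _ => this x, Finset.sum_boole, Nat.card_eq_fintype_card,
        Fintype.card_subtype]
    rw [h1, ← hrel, Nat.cast_mul, inv_mul_cancel_left₀ (Nat.cast_ne_zero.2 Nat.card_pos.ne'),
      ← Nat.cast_sum] at h2
    exact_mod_cast h2
  by_contra hno
  push Not at hno
  -- complex conjugation pairs the constituents
  let τ : Cfsg.IrrCharacter G → Cfsg.IrrCharacter G := fun χ => ⟨_, CharInduce.IsIrr.conj χ.2⟩
  have hτ : ∀ χ, τ (τ χ) = χ := fun χ => Subtype.ext (funext fun g => Complex.conj_conj _)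
  have heτ : ∀ χ, e (τ χ) = e χ := by
    intro χ
    have h : (e (τ χ) : ℂ) = (e χ : ℂ) := by
      rw [← Complex.conj_natCast (e χ), ← he, ← he, classInner_def, classInner_def, map_mul,
        map_inv₀, Complex.conj_natCast, map_sum]
      congr 1
      refine Finset.sum_congr rfl fun k _ => ?_
      rw [map_mul, Complex.conj_eq_iff_im.2 (hθ k), Complex.conj_eq_iff_im.2 (hθ k)]
    exact_mod_cast h
  have hsum : ∑ χ : Cfsg.IrrCharacter G, ((e χ ^ 2 : ℕ) : ZMod 2) = 0 := by
    refine Finset.sum_involution (fun χ _ => τ χ) ?_ ?_ (fun χ _ => Finset.mem_univ _)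
      fun χ _ => hτ χ
    · intro χ _
      rw [heτ, ← two_mul, show (2 : ZMod 2) = 0 from rfl, zero_mul]
    · intro χ _ hne heq
      refine hne ?_
      have hr : ∀ g, ((χ : G → ℂ) g).im = 0 := fun g =>
        Complex.conj_eq_iff_im.1 (congrFun (congrArg Subtype.val heq) g)
      have := hno ⟨χ, hr⟩
      rw [LiesOver, ne_eq, not_not, he, Nat.cast_eq_zero] at this
      simp [this]
  rw [← Nat.cast_sum, hnorm, ZMod.natCast_eq_zero_iff] at hsum
  exact absurd hsum (by rwa [← even_iff_two_dvd, Nat.not_even_iff_odd])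

/-- A real character of `K` lies under exactly one real character. -/
theorem existsUnique_real_over (hodd : Odd K.index) (θ : Cfsg.IrrCharacter K)
    (hθ : ∀ k : K, ((θ : K → ℂ) k).im = 0) :
    ∃! χ : RealIrrTop G, LiesOver K χ.1 θ := by
  classical
  set r := fun θ η : RealIrr K =>
    ∃ g : G, ∀ k k' : K, (k' : G) = g * (k : G) * g⁻¹ → (η.1 : K → ℂ) k' = (θ.1 : K → ℂ) k with hr
  have hrel : ∀ (χ : Cfsg.IrrCharacter G) (a b : RealIrr K), LiesOver K χ a.1 → LiesOver K χ b.1 →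
      r a b := by
    intro χ a b ha hb
    obtain ⟨x, hx⟩ := CharInduce.exists_conjFun_eq_of_constituent K χ.2 a.1.2 b.1.2 ha hb
    refine ⟨x⁻¹, fun k k' hk => ?_⟩
    rw [hx, CharInduce.conjFun_eq_comp]
    exact congrArg _ (Subtype.ext (by simp [hk, mul_assoc]))
  choose h hh using fun q : Quot r => exists_realIrr_over K hodd q.out.1 q.out.2
  have hinj : Function.Injective h := by
    intro a b hab
    rw [← Quot.out_eq a, ← Quot.out_eq b]
    exact Quot.sound (hrel _ _ _ (hh a) (hab ▸ hh b))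
  have hbij : Function.Bijective h := by
    rw [Nat.bijective_iff_injective_and_card]
    exact ⟨hinj, by rw [card_realIrrTop K hodd]; exact card_real_orbits K hodd⟩
  have horb : ∀ (χ : RealIrrTop G) (a : RealIrr K), LiesOver K χ.1 a.1 →
      h (Quot.mk r a) = χ := by
    intro χ a ha
    obtain ⟨q, rfl⟩ := hbij.2 χ
    congr 1
    rw [← Quot.out_eq q]
    exact Quot.sound (hrel _ _ _ ha (hh q))
  obtain ⟨χ, hχ⟩ := exists_realIrr_over K hodd θ hθ
  exact ⟨χ, hχ, fun χ' hχ' => (horb χ' ⟨θ, hθ⟩ hχ').symm.trans (horb χ ⟨θ, hθ⟩ hχ)⟩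

end Cfsg.Agent.H85
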