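import Cfsg.Agent.H85.InnerCriteria
import Cfsg.Agent.FusionSys.KSub
import Cfsg.Agent.H89.Extend

/-!
Sparse systems are constrained: with `Q = O_p(F)`, either the fusion acting on `Q` as `S` does is inner, and
then `Q C_S(Q)` is normal and centric, or the strengthened Frobenius criterion applies modulo `Q`.
-/

set_option autoImplicit false
set_option linter.style.haveILetI false
set_option linter.unusedSectionVars false

namespace Cfsg.Agent.H85

open Cfsg Cfsg.FusionSystem Cfsg.Agent.FusionSys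
open scoped Pointwise

universe u

theorem comap_le_of_invariant {A : Type*} [Group A] {B : Type*} [Group B] (π : A →* B)
    (hπ : Function.Surjective π) (φ : A ≃* A) (hφ : π.ker.map φ.toMonoidHom = π.ker) {K : Subgroup B}
    (hK : K.Characteristic) : K.comap π ≤ (K.comap π).comap φ.toMonoidHom := by
  intro x hx
  let e : A ⧸ π.ker ≃* B := QuotientGroup.quotientKerEquivOfSurjective π hπ
  let ψ : B ≃* B := e.symm.trans ((QuotientGroup.congr π.ker π.ker φ hφ).trans e)
  have he : ∀ a : A, e (QuotientGroup.mk a) = π a := fun a => rfl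
  have hψ : ψ (π x) = π (φ x) := by
    rw [← he x]
    simp only [ψ, MulEquiv.trans_apply, MulEquiv.symm_apply_apply]
    exact he (φ x)
  show π (φ x) ∈ K
  rw [← hψ]
  exact Subgroup.characteristic_iff_le_comap.1 hK ψ hx

/-- A normalizer of a subgroup and of the kernel normalizes preimages of characteristic subgroups. -/
theorem normalizer_inf_le_normalizer_map {G : Type*} [Group G] (A Q : Subgroup G) {B : Type*} [Group B]
    (π : A →* B) (hπ : Function.Surjective π) (hker : π.ker = Q.subgroupOf A) {K : Subgroup B}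
    (hK : K.Characteristic) :
    Subgroup.normalizer (A : Set G) ⊓ Subgroup.normalizer (Q : Set G) ≤
      Subgroup.normalizer ((K.comap π).map A.subtype : Set G) := by
  have key : ∀ x ∈ Subgroup.normalizer (A : Set G) ⊓ Subgroup.normalizer (Q : Set G),
      ∀ y ∈ (K.comap π).map A.subtype, x * y * x⁻¹ ∈ (K.comap π).map A.subtype := by
    rintro x ⟨hxA, hxQ⟩ _ ⟨k, hk, rfl⟩
    refine ⟨_, comap_le_of_invariant π hπ (Subgroup.normalizerMonoidHom A ⟨x, hxA⟩) ?_ hK hk, rfl⟩
    ext a
    rw [Subgroup.mem_map_equiv, hker, Subgroup.mem_subgroupOf, Subgroup.mem_subgroupOf]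
    refine Iff.trans ?_ ((Subgroup.mem_normalizer_iff.1 (inv_mem hxQ) (a : G))).symm
    rw [← MulAut.inv_def, ← map_inv]
    rfl
  intro x hx
  refine Subgroup.mem_normalizer_iff.2 fun y => ⟨key x hx y, fun h => ?_⟩
  have h1 := key x⁻¹ (inv_mem hx) _ h
  simpa [mul_assoc] using h1

variable {Ω : Type u} [Group Ω] {S : Subgroup Ω} [Finite S] {p : ℕ} [Fact p.Prime] {F : FusionSystem S}

/-- The only saturated subsystems over `S` are `F` and the inner one. -/
def OnlyTrivialSubsystems (F : FusionSystem S) (p : ℕ) : Prop :=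
  ∀ E : FusionSystem S, E.IsSaturated p → E.IsSubsystemOf F →
    (∀ P : Subgroup Ω, E.Hom P = F.Hom P) ∨ (∀ P : Subgroup Ω, E.Hom P = (innerFusionSystem S).Hom P)

theorem isMap_of_hom_eq {E E' : FusionSystem S} (h : ∀ P : Subgroup Ω, E.Hom P = E'.Hom P)
    {P : Subgroup Ω} {f : Ω → Ω} (hf : IsMap E P f) : IsMap E' P f := by
  obtain ⟨φ, hφ, he⟩ := hf
  exact ⟨φ, h P ▸ hφ, he⟩

theorem isFullyNormalized_of_le_normalizer {Q : Subgroup Ω} (hQS : Q ≤ S)
    (hn : S ≤ Subgroup.normalizer (Q : Set Ω)) : F.IsFullyNormalized Q :=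
  ⟨hQS, fun R _ => (Subgroup.card_le_of_le normalizerIn_le).trans
    (le_of_eq (congrArg (fun H : Subgroup Ω => Nat.card H) (inf_eq_left.2 hn).symm))⟩

theorem isSubsystemOf_of_isKSys {Q : Subgroup Ω} {K : Subgroup (MulAut Q)} {E : FusionSystem S}
    (hE : IsKSys F K E) : E.IsSubsystemOf F := by
  intro P φ hφ
  obtain ⟨-, -, g, hg, he, -⟩ := (hE.map_iff P _).1 (isMap_of_mem hφ)
  exact mem_hom_of_isMap ((hg.mono le_sup_left).congr fun x hx => (he x hx).symm)
    fun x => (homFun_coe φ x).symm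

theorem mem_autInducedBy_of_inner {W : Subgroup Ω} [Finite W] {α : MulAut W}
    (h : IsMap (innerFusionSystem S) W (autMap α)) : α ∈ autInducedBy S W := by
  obtain ⟨-, s, hs, hse⟩ := isMap_inner_iff.1 h
  have hn : s ∈ Subgroup.normalizer (W : Set Ω) :=
    mem_normalizer_of_maps fun y hy => hse y hy ▸ autMap_mem α hy
  exact mem_autInducedBy.2 ⟨s, hs, hn,
    aut_ext fun y hy => (hse y hy).trans (autMap_conjAut hn hy).symm⟩

/-- In a sparse system a subgroup normal in `S` with a non-`p`-group of automorphisms is normal. -/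
theorem isNormal_of_bad (hS : IsPGroup p S) (hF : F.IsSaturated p) (hsp : OnlyTrivialSubsystems F p)
    {W : Subgroup Ω} (hWS : W ≤ S) (hn : S ≤ Subgroup.normalizer (W : Set Ω))
    (hbad : ¬ IsPGroup p (F.autGroup W)) : F.IsNormal W := by
  haveI := finite_of_le hWS
  have hfn : F.IsFullyNormalized W := isFullyNormalized_of_le_normalizer hWS hn
  obtain ⟨E, hE⟩ := exists_isKSys F hWS (⊤ : Subgroup (MulAut W)) (T := S)
    fun x => ⟨fun hx => mem_kNorm_top.2 ⟨hx, hn hx⟩, fun hx => (mem_kNorm_top.1 hx).1⟩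
  have hEs : E.IsSaturated p := isSaturated_of_isKSys hS hF
    (receptive_of_isFullyNormalized hS hF hfn) (by
      rw [inf_top_eq, inf_top_eq]
      exact ((isFullyAutomized_iff hS).1 (isFullyAutomized_of_isFullyNormalized hS hF hfn)).2) hE
  rcases hsp E hEs (isSubsystemOf_of_isKSys hE) with h | h
  · refine isNormal_iff.2 ⟨hWS, fun P f hf => ?_⟩
    obtain ⟨-, -, g, hg, he, hQ⟩ := (hE.map_iff P f).1 (isMap_of_hom_eq (fun P => (h P).symm) hf)
    exact ⟨g, hg, he, (onQ_top_iff hg le_sup_right).1 hQ⟩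
  · refine absurd ((isPGroup_autInducedBy hS W).to_le fun α hα => ?_) hbad
    exact mem_autInducedBy_of_inner (isMap_of_hom_eq h ((hE.map_iff _ _).2
      ⟨hWS, fun x hx => hWS (autMap_mem α hx), autMap α,
        ((mem_autGroup_iff hWS).1 hα).mono (sup_le le_rfl le_rfl), fun _ _ => rfl,
        α, Subgroup.mem_top _, fun _ _ => rfl⟩))

/-- The system acting on the normal subgroup `Q` as `S` does is inner only for constrained systems. -/
theorem isConstrained_of_kSys_inner (hS : IsPGroup p S) (hF : F.IsSaturated p) {Q : Subgroup Ω}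
    (hQ : F.IsNormal Q) {E : FusionSystem S} (hE : IsKSys F (autInducedBy S Q) E)
    (hin : ∀ P : Subgroup Ω, E.Hom P = (innerFusionSystem S).Hom P) : F.IsConstrained p := by
  have hQS := hQ.1
  have hQn := le_normalizer_of_isNormal hQ
  haveI := finite_of_le hQS
  set C := centralizerIn S Q with hC
  have hCS : C ≤ S := centralizerIn_le
  have hCn : S ≤ Subgroup.normalizer (C : Set Ω) := by
    have key : ∀ x ∈ S, ∀ c ∈ C, x * c * x⁻¹ ∈ C := by
      intro x hx c hc
      refine FusionSys.mem_centralizerIn.2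
        ⟨S.mul_mem (S.mul_mem hx (hCS hc)) (S.inv_mem hx), fun y hy => ?_⟩
      have h1 := (FusionSys.mem_centralizerIn.1 hc).2 (x⁻¹ * y * x)
        (by simpa using (Subgroup.mem_normalizer_iff.1 (inv_mem (hQn hx)) y).1 hy)
      calc y * (x * c * x⁻¹) = x * (x⁻¹ * y * x * c) * x⁻¹ := by group
        _ = x * c * x⁻¹ * y := by rw [h1]; group
    refine fun x hx => Subgroup.mem_normalizer_iff.2 fun y => ⟨key x hx y, fun h => ?_⟩
    simpa [mul_assoc] using key x⁻¹ (inv_mem hx) _ h
  have hCsc : ∀ (R : Subgroup Ω) (f : Ω → Ω), IsMap F R f → ∀ x ∈ R, x ∈ C → f x ∈ C := by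
    intro R f hf x hxR hxC
    obtain ⟨g, hg, he, hgQ⟩ := (isNormal_iff.1 hQ).2 R f hf
    refine FusionSys.mem_centralizerIn.2 ⟨hf.mem_S hxR, fun y hy => ?_⟩
    obtain ⟨q, hq, rfl⟩ : y ∈ g '' (Q : Set Ω) := hgQ.symm ▸ hy
    rw [← he x hxR, ← hg.map_mul (Subgroup.mem_sup_right hq) (Subgroup.mem_sup_left hxR),
      ← hg.map_mul (Subgroup.mem_sup_left hxR) (Subgroup.mem_sup_right hq),
      (FusionSys.mem_centralizerIn.1 hxC).2 q hq]
  set R := Q ⊔ C with hR
  have hRS : R ≤ S := sup_le hQS hCS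
  have hdec : ∀ x ∈ R, ∃ q ∈ Q, q⁻¹ * x ∈ C := by
    intro x hx
    have h1 : x ∈ (Q : Set Ω) * (C : Set Ω) := by
      rw [← Subgroup.coe_mul_of_left_le_normalizer_right Q C (hQS.trans hCn)]
      exact hx
    obtain ⟨q, hq, c, hc, rfl⟩ := Set.mem_mul.1 h1
    exact ⟨q, hq, by rwa [inv_mul_cancel_left]⟩
  have hmap : ∀ (P : Subgroup Ω) (f : Ω → Ω), IsMap F P f → ∀ x ∈ P, x ∈ R → f x ∈ R := by
    intro P f hf x hxP hxR
    obtain ⟨g, hg, he, hgQ⟩ := (isNormal_iff.1 hQ).2 P f hf
    obtain ⟨q, hq, hc⟩ := hdec x hxR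
    have hq' : q ∈ P ⊔ Q := Subgroup.mem_sup_right hq
    have hc' : q⁻¹ * x ∈ P ⊔ Q := mul_mem (inv_mem hq') (Subgroup.mem_sup_left hxP)
    rw [← he x hxP, show g x = g q * g (q⁻¹ * x) by rw [← hg.map_mul hq' hc', mul_inv_cancel_left]]
    refine mul_mem (Subgroup.mem_sup_left ?_) (Subgroup.mem_sup_right (hCsc _ g hg _ hc' hc))
    exact hgQ.le ⟨q, hq, rfl⟩
  have hsc : F.StronglyClosed R :=
    stronglyClosed_iff.2 ⟨hRS, fun P f hP hf x hx => hmap P f hf x hx (hP hx)⟩
  have hnorm : F.IsNormal R := isNormal_of_stronglyClosed_of_le hS hF hsc fun P _ hc hr => by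
    have hQP : Q ≤ P := le_of_isNormal hS hQ hc hr
    have hPS := hc.1
    haveI := finite_of_le hPS
    haveI := finite_autGroup F hPS
    let A : Subgroup (F.autGroup P) :=
      { carrier := {α | ∀ q ∈ Q, autMap (α : MulAut P) q = q}
        one_mem' := fun q hq => autMap_one (hQP hq)
        mul_mem' := fun {a b} ha hb q hq => by
          rw [Subgroup.coe_mul, autMap_mul _ _ (hQP hq), hb q hq, ha q hq]
        inv_mem' := fun {a} ha q hq => by
          conv_lhs => rw [← ha q hq]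
          rw [← autMap_mul _ _ (hQP hq), InvMemClass.coe_inv, inv_mul_cancel, autMap_one (hQP hq)] }
    haveI : A.Normal := ⟨fun a ha b q hq => by
      obtain ⟨q', hq', hbq⟩ : q ∈ autMap (b : MulAut P) '' (Q : Set Ω) :=
        (image_autMap_of_stronglyClosed (stronglyClosed_of_isNormal hQ) hQP hPS b.2).symm ▸ hq
      rw [← hbq, ← autMap_mul _ _ (hQP hq'), ← Subgroup.coe_mul, inv_mul_cancel_right, Subgroup.coe_mul,
        autMap_mul _ _ (hQP hq'), ha q' hq']⟩
    have hAp : IsPGroup p A := by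
      refine ((isPGroup_autInducedBy hS P).comap_subtype (K := F.autGroup P)).to_le fun α hα => ?_
      exact mem_autInducedBy_of_inner (isMap_of_hom_eq hin ((hE.map_iff _ _).2
        ⟨hPS, fun x hx => hPS (autMap_mem (α : MulAut P) hx), autMap (α : MulAut P),
          ((mem_autGroup_iff hPS).1 α.2).mono (sup_le le_rfl hQP), fun _ _ => rfl,
          1, one_mem _, fun q hq => (hα q hq).trans (autMap_one hq).symm⟩))
    have hAinn : ∀ α ∈ A, (α : MulAut P) ∈ Inn P := fun α hα =>
      hr.2 ▸ ⟨α, Cores.le_pCore hAp hα, rfl⟩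
    refine sup_le hQP ?_
    by_contra hle
    set U := P ⊔ C with hU
    have hUS : U ≤ S := sup_le hPS hCS
    haveI := finite_of_le hUS
    obtain ⟨x, hxN, hxP⟩ := SetLike.exists_of_lt (lt_inf_normalizer_of_lt (hS.to_le hUS)
      (lt_of_le_not_ge le_sup_left fun h : U ≤ P => hle (le_sup_right.trans h)))
    have h1 : x ∈ (P : Set Ω) * (C : Set Ω) := by
      rw [← Subgroup.coe_mul_of_left_le_normalizer_right P C (hPS.trans hCn)]
      exact hxN.1
    obtain ⟨a, ha, c, hcC, rfl⟩ := Set.mem_mul.1 h1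
    have hcn : c ∈ Subgroup.normalizer (P : Set Ω) := by
      have := mul_mem (inv_mem (Subgroup.le_normalizer ha)) hxN.2
      rwa [inv_mul_cancel_left] at this
    refine hxP (mul_mem ha (mem_of_conjAut_mem_inn (centralizerIn_le_of_isCentric hc) hPS (hCS hcC) hcn
      (hAinn ⟨conjAut hcn, conjAut_mem_autGroup F hPS ⟨hCS hcC, hcn⟩⟩ fun q hq => ?_)))
    show autMap (conjAut hcn) q = q
    rw [autMap_conjAut hcn (hQP hq), conjMap_apply,
      ← (FusionSys.mem_centralizerIn.1 hcC).2 q hq, mul_inv_cancel_right]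
  refine ⟨hF, R, hnorm, hRS, fun P hP x hx => ?_⟩
  obtain ⟨f, hf⟩ := isConj_iff.1 hP
  haveI := finite_of_le hRS
  obtain rfl : P = R := hf.eq_imgSub.trans
    (isIso_of_mapsTo hf.isMap fun y hy => hmap _ f hf.isMap y hy hy).eq_imgSub.symm
  exact Subgroup.mem_sup_right ⟨hx.1, Subgroup.centralizer_le (le_sup_left : Q ≤ R) hx.2⟩

/-- A bad centric subgroup containing the normal subgroup `Q`, with maximal normalizer. -/
theorem exists_max_bad_containing (hS : IsPGroup p S) (hF : F.IsSaturated p) {Q : Subgroup Ω}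
    (hQ : F.IsNormal Q) (hne : ¬ ∀ P : Subgroup Ω, F.Hom P = (innerFusionSystem S).Hom P) :
    ∃ R, Q ≤ R ∧ F.IsFullyNormalized R ∧ F.IsCentric R ∧ ¬ IsPGroup p (F.autGroup R) ∧
      ∀ W : Subgroup Ω, W ≤ S → Nat.card (normalizerIn S R) < Nat.card (normalizerIn S W) →
        IsPGroup p (F.autGroup W) := by
  obtain ⟨R0, hR0, hc0, hbad0, hmax⟩ := exists_max_bad hS hF hne
  have hQn := le_normalizer_of_isNormal hQ
  set W := R0 ⊔ Q with hW
  have hWS : W ≤ S := sup_le hc0.1 hQ.1
  haveI := finite_of_le hWS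
  haveI := finite_of_le hc0.1
  have hWc : F.IsCentric W := isCentric_of_le hc0 le_sup_left hWS
  have hWbad : ¬ IsPGroup p (F.autGroup W) := by
    intro hp
    refine hbad0 fun α => ?_
    have hiso := isIso_autMap hc0.1 α.2
    obtain ⟨g, hg, hge, hgQ⟩ := (isNormal_iff.1 hQ).2 R0 _ hiso.isMap
    have hgm : ∀ x ∈ W, g x ∈ W := fun x hx => hg.mapsTo_sup
      (fun a ha => Subgroup.mem_sup_left (hge a ha ▸ autMap_mem _ ha))
      (fun a ha => Subgroup.mem_sup_right (hgQ.le ⟨a, ha, rfl⟩)) hx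
    obtain ⟨β, hβ, hβe⟩ := (isIso_of_mapsTo hg hgm).exists_aut
    obtain ⟨k, hk⟩ := hp ⟨β, hβ⟩
    refine ⟨k, Subtype.ext (aut_ext fun x hx => ?_)⟩
    have hk' : β ^ p ^ k = 1 := congrArg Subtype.val hk
    show autMap ((α : MulAut R0) ^ p ^ k) x = autMap 1 x
    rw [autMap_pow_eq (α : MulAut R0) (fun y hy => (hge y hy).symm) _ hx,
      ← autMap_pow_eq β hβe _ (Subgroup.mem_sup_left hx), hk',
      autMap_one (Subgroup.mem_sup_left hx), autMap_one hx]
  have hn : normalizerIn S R0 ≤ normalizerIn S W := fun x hx =>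
    ⟨hx.1, mem_normalizer_of_maps fun y hy => (isMap_conj F hWS hx.1).mapsTo_sup (C := W)
      (fun a ha => Subgroup.mem_sup_left (conj_mem_of_mem_normalizerIn hx ha))
      (fun a ha => Subgroup.mem_sup_right ((Subgroup.mem_normalizer_iff.1 (hQn hx.1) a).1 ha)) hy⟩
  obtain ⟨R, hWR, hR⟩ := exists_isFullyNormalized F hWS
  obtain ⟨f, hf⟩ := isConj_iff.1 hWR
  haveI := finite_of_le (S := S) (P := normalizerIn S W) normalizerIn_le
  have hcard : Nat.card (normalizerIn S R0) ≤ Nat.card (normalizerIn S R) :=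
    (Subgroup.card_le_of_le hn).trans (hR.2 W (isConj_symm hWR))
  refine ⟨R, ?_, hR, isCentric_of_isConj hWc hWR, fun hp => hWbad ?_,
    fun V hV hlt => hmax V hV (hcard.trans_lt hlt)⟩
  · haveI := finite_of_le hQ.1
    have h1 : f '' (Q : Set Ω) = Q := by
      refine (hf.isMap.mono le_sup_right).image_eq_of_mapsTo fun y hy => ?_
      exact H89.mem_of_stronglyClosed (stronglyClosed_of_isNormal hQ) hf.isMap (Subgroup.mem_sup_right hy) hy
    intro y hy
    obtain ⟨q, hq, rfl⟩ : y ∈ f '' (Q : Set Ω) := h1.symm ▸ hy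
    exact hf.mem (Subgroup.mem_sup_right hq)
  · haveI := finite_autGroup F hWS
    haveI := finite_autGroup F hR.1
    obtain ⟨n, hn⟩ := IsPGroup.iff_card.1 hp
    exact IsPGroup.of_card (n := n) (hf.card_autGroup ▸ hn)

/-- A sparse system is constrained. -/
theorem isConstrained_of_sparse (hS : IsPGroup p S) (hF : F.IsSaturated p)
    (hne : ¬ ∀ P : Subgroup Ω, F.Hom P = (innerFusionSystem S).Hom P) (hsp : OnlyTrivialSubsystems F p)
    (hp : p ≠ 2 ∨ F.IsSectionFree p (Equiv.Perm (Fin 4))) : F.IsConstrained p := by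
  have hQ := Cfsg.Agent.H89.isNormal_core F
  set Q := F.core with hQdef
  have hQS := hQ.1
  have hQn := le_normalizer_of_isNormal hQ
  haveI := finite_of_le hQS
  obtain ⟨E, hE⟩ := exists_isKSys F hQS (autInducedBy S Q) (T := S) fun x =>
    ⟨fun hx => mem_kNorm.2 ⟨⟨hx, hQn hx⟩, mem_autInducedBy.2 ⟨x, hx, hQn hx, rfl⟩⟩,
      fun hx => kNorm_le hx⟩
  have hEs : E.IsSaturated p := isSaturated_of_isKSys hS hF
    (receptive_of_isFullyNormalized hS hF (isFullyNormalized_of_le_normalizer hQS hQn)) (by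
      rw [inf_idem, inf_eq_right.2 (autInducedBy_le_autGroup _ hQS), Subgroup.relIndex_self]
      exact (Fact.out : p.Prime).not_dvd_one) hE
  rcases hsp E hEs (isSubsystemOf_of_isKSys hE) with h | h
  swap
  · exact isConstrained_of_kSys_inner hS hF hQ hE h
  exfalso
  have hAQ : IsPGroup p (F.autGroup Q) := (isPGroup_autInducedBy hS Q).to_le fun α hα => by
    obtain ⟨-, -, g, -, he, κ, hκ, hκe⟩ :=
      (hE.map_iff _ _).1 (isMap_of_hom_eq (fun P => (h P).symm) ((mem_autGroup_iff hQS).1 hα))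
    rwa [show α = κ from aut_ext fun q hq => (he q hq).symm.trans (hκe q hq)]
  obtain ⟨R, hQR, hR, hc, hbad, hmax⟩ := exists_max_bad_containing hS hF hQ hne
  obtain ⟨N, hN, L, _, ι, hL⟩ := exists_local_model hS hF hR hc
  haveI := hL.1
  haveI : Finite ↥(normalizerIn S R) := finite_of_le normalizerIn_le
  refine not_isPGroup_model hS hR hN hL hbad (isPGroup_model_of_complement hL ?_)
  have hQT : Q ≤ normalizerIn S R := hQR.trans (le_normalizerIn_self hR.1)
  have hRcore : R ≤ modelCore p ι := by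
    rw [← core_eq_modelCore (hS.to_le normalizerIn_le) hL]
    exact Cfsg.Agent.H89.le_core N
      ((isKSys_normalizer_iff.1 hN).isNormal_self (le_normalizerIn_self hR.1))
  set Q0 := Q.subgroupOf (normalizerIn S R) with hQ0
  have hQ0map : Q0.map (normalizerIn S R).subtype = Q := by
    rw [hQ0, Subgroup.map_subgroupOf_eq_of_le hQT]
  set Qh := Q0.map ι with hQh
  haveI : Qh.Normal := ⟨by
    rintro _ ⟨q, hq, rfl⟩ g
    obtain ⟨f, hfN, hf, hfe⟩ := exists_conj_map hN hL g hQT fun x hx =>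
      pCore_le_range hL (conj_mem_pCore (mem_modelCore.1 (hRcore (hQR hx))) g)
    have hm : f q ∈ normalizerIn S R := hfN.mem_S hq
    rw [← hfe q hq hm]
    exact Subgroup.mem_map_of_mem ι
      (H89.mem_of_stronglyClosed (stronglyClosed_of_isNormal hQ) hf hq hq : f q ∈ Q)⟩
  have hcentQ : ∀ g : L, (orderOf g).Coprime p → g ∈ Subgroup.centralizer (Qh : Set L) := fun g hg =>
    mem_centralizer_of_isPGroup_autGroup hN hL Q0 (by rw [hQ0map]; exact hAQ)
      (by rw [Subgroup.normalizer_eq_top_iff.2 ‹Qh.Normal›]; exact Subgroup.mem_top g) hg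
  obtain ⟨T, hT⟩ := hL.2.2.1
  set φ := QuotientGroup.mk' Qh with hφ
  have hquot : HasNormalPComplement p (L ⧸ Qh) := by
    refine complement_of_charHyp _ _ le_rfl (hp.imp id fun hf hi => hf R hR hc N hN L ι hL
      (H59.involves_of_surjective (φ.comp (⊤ : Subgroup L).subtype) (fun q => by
        obtain ⟨g, rfl⟩ := QuotientGroup.mk'_surjective Qh q
        exact ⟨⟨g, trivial⟩, rfl⟩) hi))
      (T.mapSurjective (QuotientGroup.mk'_surjective Qh)) ?_
    rw [Sylow.coe_mapSurjective, hT, ← hφ, ← MonoidHom.range_comp]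
    set π := (φ.comp ι).rangeRestrict with hπ
    intro Kb hKb hKb1 x hx hxo
    have hπs : Function.Surjective π := MonoidHom.rangeRestrict_surjective _
    have hker : π.ker = Q.subgroupOf (normalizerIn S R) := by
      ext t
      rw [MonoidHom.mem_ker, Subtype.ext_iff]
      show QuotientGroup.mk' Qh (ι t) = 1 ↔ _
      rw [QuotientGroup.mk'_apply, QuotientGroup.eq_one_iff, hQh, Subgroup.mem_map_iff_mem hL.2.1.1]
    set K := Kb.comap π with hK
    set W := K.map (normalizerIn S R).subtype with hW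
    have hKmap : K.map π = Kb := Subgroup.map_comap_eq_self_of_surjective hπs Kb
    have hQK : Q0 ≤ K := fun q hq => by
      have h1 : π q = 1 := by rwa [← MonoidHom.mem_ker, hker]
      show π q ∈ Kb
      rw [h1]
      exact one_mem _
    have hQW : Q ≤ W := hQ0map ▸ Subgroup.map_mono hQK
    have hWS : W ≤ S := (Subgroup.map_subtype_le _).trans normalizerIn_le
    have hnW := normalizer_inf_le_normalizer_map (normalizerIn S R) Q π hπs hker hKb
    have hWp : IsPGroup p (F.autGroup W) := by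
      rcases eq_or_ne (normalizerIn S R) S with htop | htop
      · by_contra hWbad
        have hWn : F.IsNormal W := isNormal_of_bad hS hF hsp hWS (fun s hs =>
          hnW ⟨Subgroup.le_normalizer (htop.symm ▸ hs), hQn hs⟩) hWbad
        have hWQ : W ≤ Q := Cfsg.Agent.H89.le_core F hWn
        refine hKb1 (le_bot_iff.1 fun y hy => ?_)
        obtain ⟨t, rfl⟩ := hπs y
        have ht : t ∈ π.ker := hker ▸ hWQ ⟨t, hy, rfl⟩
        exact Subgroup.mem_bot.2 ht
      · refine hmax W hWS ?_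
        haveI := finite_of_le (S := S) (P := normalizerIn S W) normalizerIn_le
        exact (card_lt_card_normalizerIn hS (lt_of_le_of_ne normalizerIn_le htop)).trans_le
          (Subgroup.card_le_of_le fun s hs => ⟨hs.1, hnW ⟨hs.2, hQn hs.1⟩⟩)
    obtain ⟨g, rfl⟩ := QuotientGroup.mk'_surjective Qh x
    obtain ⟨k, hk⟩ := Fusion.exists_pow_coprime (p := p) g
    obtain ⟨m, hm⟩ := exists_pow_eq_self_of_coprime (x := φ g) (n := p ^ k)
      (Nat.Coprime.pow_left k hxo.symm)
    have hmem : ∀ y, φ y ∈ Kb.map (φ.comp ι).range.subtype → y ∈ K.map ι := by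
      rintro y ⟨kb, hkb, hky⟩
      obtain ⟨t, rfl⟩ := hπs kb
      obtain ⟨q, hq, hqe⟩ : (ι t)⁻¹ * y ∈ Qh := QuotientGroup.eq.1 hky
      refine ⟨t * q, mul_mem hkb (hQK hq), ?_⟩
      rw [map_mul, hqe, mul_inv_cancel_left]
    have hmem' : ∀ y ∈ K.map ι, φ y ∈ Kb.map (φ.comp ι).range.subtype := by
      rintro _ ⟨t, ht, rfl⟩
      exact ⟨π t, ht, rfl⟩
    have hn : g ^ p ^ k ∈ Subgroup.normalizer (K.map ι : Set L) := by
      have hpw : φ (g ^ p ^ k) ∈
          Subgroup.normalizer (Kb.map (φ.comp ι).range.subtype : Set (L ⧸ Qh)) := by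
        rw [map_pow]; exact pow_mem hx _
      refine Subgroup.mem_normalizer_iff.2 fun y => ⟨fun hy => hmem _ ?_, fun hy => hmem _ ?_⟩
      · rw [map_mul, map_mul, map_inv]
        exact (Subgroup.mem_normalizer_iff.1 hpw _).1 (hmem' y hy)
      · refine (Subgroup.mem_normalizer_iff.1 hpw _).2 ?_
        rw [← map_inv, ← map_mul, ← map_mul]
        exact hmem' _ hy
    have hcK := mem_centralizer_of_isPGroup_autGroup hN hL K hWp hn hk
    have hc' : φ (g ^ p ^ k) ∈
        Subgroup.centralizer (Kb.map (φ.comp ι).range.subtype : Set (L ⧸ Qh)) := by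
      rintro _ ⟨kb, hkb, rfl⟩
      obtain ⟨t, rfl⟩ := hπs kb
      show φ (ι t) * φ (g ^ p ^ k) = φ (g ^ p ^ k) * φ (ι t)
      rw [← map_mul, ← map_mul]
      exact congrArg φ (Subgroup.mem_centralizer_iff.1 hcK _ ⟨t, hkb, rfl⟩)
    rw [map_pow] at hc'
    rw [← hm]
    exact pow_mem hc' m
  set K0 := (pResidual p (L ⧸ Qh)).comap φ with hK0
  set K1 := K0 ⊓ Subgroup.centralizer (Qh : Set L) with hK1
  have hQhp : IsPGroup p Qh := ((hS.to_le normalizerIn_le).to_subgroup Q0).map ι
  have hidx : ¬ p ∣ (Qh.subgroupOf K1).index := by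
    intro hd
    have h1 : Qh.relIndex K1 = Nat.card (K1.map φ) := by
      have := Subgroup.relIndex_ker φ (K := K1)
      rwa [hφ, QuotientGroup.ker_mk', ← hφ] at this
    rw [← Subgroup.relIndex, h1] at hd
    exact Fusion.hasNormalPComplement_iff_pResidual.1 hquot
      (hd.trans (Subgroup.card_dvd_of_le (Subgroup.map_le_iff_le_comap.2 inf_le_left)))
  refine complement_of_coprime_mem (N := K1) (complement_of_central_sylow
    ((hQhp.comap_subtype (K := K1)).toSylow hidx) ?_) fun g hg => ⟨?_, hcentQ g hg⟩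
  · intro x hx
    refine Subgroup.mem_center_iff.2 fun y => Subtype.ext ?_
    exact (Subgroup.mem_centralizer_iff.1 y.2.2 _ hx).symm
  · exact Fusion.mem_pResidual (Nat.Coprime.coprime_dvd_left (orderOf_map_dvd φ g) hg)

end Cfsg.Agent.H85
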